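import Cfsg.Agent.Lib.MinDegE.Arith

set_option autoImplicit false

/-!
No degree one or two below the bound of ²E₆(q) divides the group order.
-/

namespace CfsgLib.MinDeg2E6

open CfsgLib.MinDegE CfsgLib.ChevStr

/-- The order without its power of `q`, as a coefficient list. -/
def ordP : List ℤ :=
  polyMul (polyMul (polyMul (polyMul (polyMul [-1, 0, 1] [1, 0, 0, 0, 0, 1]) [-1, 0, 0, 0, 0, 0, 1])
    [-1, 0, 0, 0, 0, 0, 0, 0, 1]) [1, 0, 0, 0, 0, 0, 0, 0, 0, 1]) [-1, 0, 0, 0, 0, 0, 0, 0, 0, 0, 0, 0, 1]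

/-- The bound as a coefficient list. -/
def degP : List ℤ := [0, 1, 0, 0, -1, 1, 0, 1, -1, 0, 0, 1]

/-- The quotient of the order by the bound less `j`. -/
def quoP (j : ℕ) : List ℤ :=
  if j = 1 then
    [-23, 25, -14, -2, 15, -17, 8, 5, -11, 10, -3, -4, 6, -4, 1, 1, -3, 3, 1, -3, 2, 0, -1, 2, -2, 0, 0,
      -1, 1, -1, 0, 1]
  else
    [-84, 126, -98, 14, 52, -80, 48, 12, -42, 44, -14, -10, 20, -18, 6, 0, -10, 10, 0, -6, 6, 0, -2, 4,
      -4, 0, 0, -2, 2, -2, 0, 2]

/-- The lower coefficients of the remainder. -/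
def lowRem (j : ℕ) : List ℤ :=
  if j = 1 then [-22, 48, -40, 12, -6, 17, -15, 31, -47, 29]
  else [-166, 336, -324, 126, 6, 0, -50, 170, -268, 224]

/-- The leading coefficient of the remainder. -/
def leadRem (j : ℕ) : ℤ := if j = 1 then 1 else -54

theorem rem_table : ∀ j : Fin 2,
    samePoly (polyMul ordP [((j.val : ℤ) + 1)])
      (polyAdd (polyMul (quoP (j.val + 1)) (polyAdd degP [-((j.val : ℤ) + 1)]))
        (lowRem (j.val + 1) ++ [leadRem (j.val + 1)])) = true ∧
    (lowRem (j.val + 1)).length = 10 ∧ sumAbs (lowRem (j.val + 1)) < 269 * |leadRem (j.val + 1)| ∧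
    sumAbs (lowRem (j.val + 1)) + (|leadRem (j.val + 1)| + 1) * 269 < 269 * 269 := by decide +kernel

theorem small_table :
    ((List.range 269).all fun q => decide (q < 2) || smallAt ordP degP 36 2 q) = true := by decide +kernel

theorem polyEval_ordP (q : ℤ) : polyEval ordP q =
    (q ^ 2 - 1) * (q ^ 5 + 1) * (q ^ 6 - 1) * (q ^ 8 - 1) * (q ^ 9 + 1) * (q ^ 12 - 1) := by
  simp only [ordP, polyEval_mul, polyEval_cons, polyEval_nil]
  ring

theorem polyEval_degP (q : ℤ) :
    polyEval degP q = q ^ 11 - q ^ 8 + q ^ 7 + q ^ 5 - q ^ 4 + q := by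
  simp only [degP, polyEval_cons, polyEval_nil]
  ring

/-- The remainder with dominant leading coefficient is small and nonzero. -/
theorem rem_small {S A C q N : ℤ} (hC : C ≠ 0) (hq : 269 ≤ q) (hS : 0 ≤ S) (hA : |A| * q ≤ S * q ^ 10)
    (h1 : S < 269 * |C|) (h2 : S + (|C| + 1) * 269 < 269 * 269) (hN : (q - 1) * q ^ 10 ≤ N) :
    |A + C * q ^ 10| < N ∧ A + C * q ^ 10 ≠ 0 := by
  have hC1 : 1 ≤ |C| := Int.one_le_abs hC
  have hp : 0 < q ^ 10 := pow_pos (by omega) _
  have hC2 : |C| + 1 < 269 := by nlinarith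
  constructor
  · have h3 : |A + C * q ^ 10| * q ≤ (S + |C| * q) * q ^ 10 := by
      refine le_trans (mul_le_mul_of_nonneg_right (abs_add_le _ _) (by omega)) ?_
      rw [abs_mul, abs_of_pos hp]
      nlinarith
    have h4 : S + |C| * q < (q - 1) * q := by
      nlinarith [mul_le_mul_of_nonneg_left hq (by omega : (0 : ℤ) ≤ q - 1 - |C|)]
    have h5 : |A + C * q ^ 10| * q < N * q := by nlinarith
    exact lt_of_mul_lt_mul_right h5 (by omega)
  · intro h0
    have h3 : |A| = |C| * q ^ 10 := by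
      rw [eq_neg_of_add_eq_zero_left h0, abs_neg, abs_mul, abs_of_pos hp]
    rw [h3] at hA
    have h4 : |C| * q ≤ S := le_of_mul_le_mul_right (by linarith) hp
    nlinarith

/-- The bound less one or two does not divide the group order. -/
theorem not_dvd {q k T M : ℕ} (hpp : IsPrimePow q) (hT : (T : ℤ) = polyEval degP (q : ℤ))
    (hM : (M : ℤ) = polyEval ordP (q : ℤ)) (hlo : T ≤ k + 2) (hlt : k < T) (hdvd : k ∣ M * q ^ 36) :
    False := by
  have hq2 := hpp.two_le
  set j := T - k with hj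
  have hnj : (k : ℤ) + (j : ℤ) = polyEval degP (q : ℤ) := by omega
  rcases Nat.lt_or_ge q 269 with h | h
  · have hs := List.all_eq_true.1 small_table q (List.mem_range.2 h)
    rw [Bool.or_eq_true, decide_eq_true_eq] at hs
    refine small_spec (hs.resolve_left (by omega)) (j := j) (by omega) (by omega) hnj ?_
    rw [← hM]
    exact_mod_cast Int.natCast_dvd_natCast.2 hdvd
  · obtain ⟨hsame, hlen, h1, h2⟩ := rem_table ⟨j - 1, by omega⟩
    simp only [show j - 1 + 1 = j by omega] at hsame hlen h1 h2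
    rw [show (((j - 1 : ℕ) : ℤ) + 1) = (j : ℤ) by omega] at hsame
    obtain ⟨X, hX⟩ : ∃ X : ℕ, k + j = q * X := by
      have h3 : (q : ℤ) ∣ (T : ℤ) := by
        rw [hT, degP, polyEval_cons, zero_add]
        exact dvd_mul_right _ _
      obtain ⟨X, hX⟩ := Int.natCast_dvd_natCast.1 h3
      exact ⟨X, by omega⟩
    have h3 := dvd_mul_of_congr hpp hX (by omega) (by omega) hdvd
    have he := samePoly_eval hsame (q : ℤ)
    rw [polyEval_mul, polyEval_add, polyEval_mul, polyEval_add, polyEval_snoc, hlen] at he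
    simp only [polyEval_cons, polyEval_nil, mul_zero, add_zero] at he
    rw [← hM, ← hnj] at he
    have hA := abs_polyEval_mul_le (q := (q : ℤ)) (by omega) (lowRem j)
    rw [hlen] at hA
    have hN : ((q : ℤ) - 1) * (q : ℤ) ^ 10 ≤ (k : ℤ) := by
      have h4 : (T : ℤ) ≤ (k : ℤ) + 2 := by omega
      rw [hT, polyEval_degP] at h4
      have hq' : (269 : ℤ) ≤ (q : ℤ) := by exact_mod_cast h
      have hq1 : (1 : ℤ) ≤ (q : ℤ) := by linarith
      have a1 : 2 * (q : ℤ) ^ 8 ≤ (q : ℤ) ^ 10 := by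
        rw [show (q : ℤ) ^ 10 = ((q : ℤ) * q) * (q : ℤ) ^ 8 by ring]
        exact mul_le_mul_of_nonneg_right (by nlinarith) (by positivity)
      have a2 : (q : ℤ) ^ 4 ≤ (q : ℤ) ^ 8 := pow_le_pow_right₀ hq1 (by norm_num)
      have a3 : (0 : ℤ) ≤ (q : ℤ) ^ 7 := by positivity
      have a4 : (0 : ℤ) ≤ (q : ℤ) ^ 5 := by positivity
      nlinarith
    obtain ⟨hsmall, hne⟩ := rem_small (C := leadRem j) (by simp only [leadRem]; split_ifs <;> norm_num)
      (by exact_mod_cast h) (sumAbs_nonneg _) hA h1 h2 hN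
    refine hne (Int.eq_zero_of_abs_lt_dvd ?_ hsmall)
    have h5 : (k : ℤ) ∣ (M : ℤ) * (j : ℤ) := by exact_mod_cast Int.natCast_dvd_natCast.2 h3
    rw [he] at h5
    refine (Int.dvd_add_right (dvd_mul_of_dvd_right ?_ _)).1 h5
    rw [show (k : ℤ) + (j : ℤ) + -(j : ℤ) = k by ring]

end CfsgLib.MinDeg2E6
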