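import Cfsg.Agent.Lib.MinDeg2E6.Elements

set_option autoImplicit false
set_option linter.unusedSectionVars false

/-!
Reading certificates from lists, and the checks tying them to the roots of type E6.
-/

namespace CfsgLib.MinDeg2E6

open Cfsg.Lie CfsgLib.Twisted CfsgLib.MinDegE

/-- Read an index. -/
def finOf {N : ℕ} (i : Fin N) (v : ℕ) : Fin N := if h : v < N then ⟨v, h⟩ else i

/-- A pattern from lists. -/
def mkPat {N : ℕ} (s : List ℕ) (e : List ℤ) : Pat N where
  sig i := finOf i (s.getD i.val i.val)
  eps i := e.getD i.val 1

/-- A table from a list of codes: `0` for none, `1 + 2 l` and `2 + 2 l` for the two signs. -/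
def mkTbl {N : ℕ} (l : List ℕ) : Table (Fin N) := fun i =>
  match l.getD i.val 0 with
  | 0 => none
  | c + 1 => if h : c / 2 < N then some (⟨c / 2, h⟩, if c % 2 = 0 then 1 else -1) else none

/-- An operation from lists. -/
def mkOp {N : ℕ} (fx : Bool) (d : ℤ) (a b : List ℕ) : Op N := ⟨fx, d, mkTbl a, mkTbl b⟩

/-- The roots of a family from a list. -/
def rootsOf (R : List ℕ) {N : ℕ} (i : Fin N) : ℕ := R.getD i.val 0

/-- An operation is the action of the orbit of the root `s`. -/
def opCheck {N : ℕ} (R : List ℕ) (s : ℕ) (O : Op N) : Bool :=
  orbOK s && decide (O.fx = decide (e6Sym.root s = s)) && decide (O.d = e6Sym.sign s) &&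
    RSys.tblCheck chevE6 (rootsOf R) s O.a &&
    (if O.fx then true else RSys.tblCheck chevE6 (rootsOf R) (e6Sym.root s) O.b)

/-- All operations of a level are the actions of the listed roots. -/
def opsCheck {N : ℕ} (R L : List ℕ) (ops : List (Op N)) : Bool :=
  decide (L.length = ops.length) &&
    (List.range ops.length).all fun δ => (ops[δ]?).all fun O => opCheck R (L.getD δ 0) O

/-- The roots of a list commute with each other. -/
def commR (R : List ℕ) : Bool := R.all fun r => R.all fun s => commPair chevE6 r s

/-- The roots of a list commute up to the root `a`, with which they commute. -/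
def commMod (R : List ℕ) (a : ℕ) : Bool :=
  R.all fun r => commPair chevE6 r a && R.all fun s =>
    decide (r = s) || commPair chevE6 r s ||
      decide (pairTerm chevE6 r s = some (some (a, 1)) ∨ pairTerm chevE6 r s = some (some (a, -1)))

end CfsgLib.MinDeg2E6
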