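import Cfsg.Agent.Lib.MinDeg2E6.Data

set_option autoImplicit false

/-! The certificates are correct. -/

namespace CfsgLib.MinDeg2E6

open Cfsg.Lie CfsgLib.Twisted CfsgLib.MinDegE

theorem top_beta : topC.okBeta = true := by decide +kernel
theorem top_support : topC.okSupport = true := by decide +kernel
theorem low_beta : lowC.okBeta = true := by decide +kernel
theorem top_pat : patCheck (rootsOf topR) topP = true := by decide +kernel
theorem low_pat : patCheck (rootsOf lowR) lowP = true := by decide +kernel
theorem top_ops : opsCheck topR topL topOps = true := by decide +kernel
theorem low_ops : opsCheck lowR lowL lowOps = true := by decide +kernel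
theorem top_comm : commMod topR 71 = true := by decide +kernel
theorem low_comm : commR lowR = true := by decide +kernel
theorem polA_comm : commR polA = true := by decide +kernel
theorem polB_comm : commR polB = true := by decide +kernel
theorem polA_pat : patCheck (rootsOf polA) polPA = true := by decide +kernel
theorem polB_pat : patCheck (rootsOf polB) polPB = true := by decide +kernel
theorem pol_ok : (polPA.ok && polPB.ok && gA.ok polPA && dA.ok polPA && eA.ok polPA &&
    opCheck polA 60 gA && opCheck polA 38 dA && opCheck polA 41 eA && gB.ok polPB) = true := by
  decide +kernel

end CfsgLib.MinDeg2E6
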