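import Cfsg.Agent.Lib.MinDeg2E6.Slice

set_option autoImplicit false
set_option linter.unusedSectionVars false

/-!
Sums over the fixed vectors, one orbit of coordinates at a time.
-/

namespace CfsgLib.MinDeg2E6

namespace Pat

variable {N : ℕ} {P : Pat N} {K : Type*} [Field K] [Fintype K] [DecidableEq K] {q : ℕ}
  (h : P.ok = true) (hK : QField K q)

include h hK

theorem orb_zero {v : Fin N → K} (hv : v ∈ P.W q K) {i : Fin N} (hi : v i = 0) :
    ∀ j ∈ P.orb i, v j = 0 := by
  intro j hj
  unfold Pat.orb at hj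
  split_ifs at hj
  · simp only [List.mem_singleton] at hj; rw [hj, hi]
  · simp only [List.mem_cons, List.not_mem_nil, or_false] at hj
    rcases hj with rfl | rfl
    · exact hi
    · rw [apply_sig h hv, hi, hK.zero_pow, mul_zero]

theorem sum_orbits (F : (Fin N → K) → ℂ) : ∀ (reps Z : List (Fin N)),
    (reps.flatMap P.orb ++ Z).Nodup →
    (∀ i ∈ reps, ∀ (v : Fin N → K) (a : K), F (v + uvec P q i a) = F v) →
    ∑ v ∈ (P.W q K).filter (fun v => ∀ j ∈ Z, v j = 0), F v =
      (q : ℂ) ^ (reps.flatMap P.orb).length *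
        ∑ v ∈ (P.W q K).filter (fun v => ∀ j ∈ reps.flatMap P.orb ++ Z, v j = 0), F v
  | [], Z => fun _ _ => by simp
  | i :: reps, Z => fun hnd hF => by
    classical
    rw [List.flatMap_cons, List.append_assoc] at hnd
    obtain ⟨-, hnd', hdisj⟩ := List.nodup_append.1 hnd
    have hperm : ∀ j, j ∈ reps.flatMap P.orb ++ (P.orb i ++ Z) ↔
        j ∈ (i :: reps).flatMap P.orb ++ Z := fun j => by
      simp only [List.flatMap_cons, List.mem_append]; tauto
    set Vs : Finset K := if P.sig i = i then fixK K q else Finset.univ with hVs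
    have hin : ∀ v ∈ (P.W q K).filter (fun v => ∀ j ∈ Z, v j = 0), v i ∈ Vs := fun v hv => by
      rw [hVs]
      split_ifs with hf
      · exact apply_fixed h (Finset.mem_filter.1 hv).1 hf
      · exact Finset.mem_univ _
    have hmemi : i ∈ P.orb i := by unfold Pat.orb; split_ifs <;> simp
    have hZne : ∀ j ∈ Z, j ≠ i ∧ j ≠ P.sig i := fun j hj => by
      have hsi : P.sig i ∈ P.orb i := by unfold Pat.orb; split_ifs with hf <;> simp [hf]
      exact ⟨fun e => hdisj i hmemi j (List.mem_append_right _ hj) e.symm,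
        fun e => hdisj _ hsi j (List.mem_append_right _ hj) e.symm⟩
    have hstep : ∀ a ∈ Vs, ∑ v ∈ ((P.W q K).filter (fun v => ∀ j ∈ Z, v j = 0)).filter (fun v => v i = a),
        F v = ∑ v ∈ (P.W q K).filter (fun v => ∀ j ∈ P.orb i ++ Z, v j = 0), F v := by
      intro a ha
      have hu : uvec P q i a ∈ P.W q K := uvec_mem h hK fun hf => by rwa [hVs, if_pos hf] at ha
      refine Finset.sum_nbij' (i := fun v => v - uvec P q i a) (j := fun v => v + uvec P q i a)
        ?_ ?_ (fun v _ => sub_add_cancel v _) (fun v _ => add_sub_cancel_right v _) ?_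
      · intro v hv
        rw [Finset.mem_filter, Finset.mem_filter] at hv
        obtain ⟨⟨h0, h1⟩, h2⟩ := hv
        rw [Finset.mem_filter]
        have hW := sub_mem h hK h0 hu
        refine ⟨hW, fun j hj => ?_⟩
        rcases List.mem_append.1 hj with hj | hj
        · exact orb_zero h hK hW (by rw [Pi.sub_apply, h2, uvec_self h hK, sub_self]) j hj
        · rw [Pi.sub_apply, h1 j hj, uvec_other h hK _ (hZne j hj).1 (hZne j hj).2, sub_zero]
      · intro v hv
        rw [Finset.mem_filter] at hv
        rw [Finset.mem_filter, Finset.mem_filter]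
        refine ⟨⟨add_mem h hK hv.1 hu, fun j hj => ?_⟩, ?_⟩
        · rw [Pi.add_apply, hv.2 j (List.mem_append_right _ hj),
            uvec_other h hK _ (hZne j hj).1 (hZne j hj).2, add_zero]
        · rw [Pi.add_apply, hv.2 i (List.mem_append_left _ hmemi), uvec_self h hK, zero_add]
      · intro v _
        rw [← hF i List.mem_cons_self (v - uvec P q i a) a, sub_add_cancel]
    rw [← Finset.sum_fiberwise_of_maps_to hin, Finset.sum_congr rfl hstep, Finset.sum_const,
      nsmul_eq_mul, orb_length_pow hK,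
      sum_orbits F reps (P.orb i ++ Z)
        ((List.Perm.nodup_iff (by
          rw [← List.append_assoc, ← List.append_assoc]
          exact List.perm_append_comm.append_right Z)).2 hnd)
        (fun j hj => hF j (List.mem_cons_of_mem _ hj)),
      Finset.filter_congr (fun v _ => forall_congr' fun j => by rw [hperm]), List.flatMap_cons,
      List.length_append, pow_add]
    push_cast
    ring

theorem sum_zero_set (F : (Fin N → K) → ℂ) {L : List (Fin N)} (hL : ∀ j, j ∈ L) :
    ∑ v ∈ (P.W q K).filter (fun v => ∀ j ∈ L, v j = 0), F v = F 0 := by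
  have e : (P.W q K).filter (fun v => ∀ j ∈ L, v j = 0) = {0} := by
    ext v
    simp only [Finset.mem_filter, Finset.mem_singleton]
    exact ⟨fun hv => funext fun j => hv.2 j (hL j),
      fun e => e ▸ ⟨zero_mem h hK, fun _ _ => rfl⟩⟩
  rw [e, Finset.sum_singleton]

theorem card_W {reps : List (Fin N)} (hnd : (reps.flatMap P.orb).Nodup) (hall : ∀ j, j ∈ reps.flatMap P.orb) :
    (P.W q K).card = q ^ (reps.flatMap P.orb).length := by
  have h1 := sum_orbits h hK (fun _ : Fin N → K => (1 : ℂ)) reps [] (by rwa [List.append_nil])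
    (fun _ _ _ _ => rfl)
  rw [sum_zero_set h hK _ (fun j => List.mem_append_left _ (hall j)), mul_one,
    Finset.filter_eq_self.2 (fun _ _ _ hj => absurd hj List.not_mem_nil), Finset.sum_const,
    nsmul_eq_mul, mul_one] at h1
  exact_mod_cast h1

/-- A sum over the vectors on one orbit of two coordinates. -/
theorem sum_orbit_pair (f : K → ℂ) {i : Fin N} (hi : P.sig i ≠ i) {L : List (Fin N)}
    (hL : ∀ j, j ∈ L ∨ j = i ∨ j = P.sig i) (hout : i ∉ L ∧ P.sig i ∉ L) :
    ∑ v ∈ (P.W q K).filter (fun v => ∀ j ∈ L, v j = 0), f (v i) = ∑ a : K, f a := by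
  refine Finset.sum_bij' (fun v _ => v i) (fun a _ => uvec P q i a) (fun _ _ => Finset.mem_univ _)
    (fun a _ => Finset.mem_filter.2 ⟨uvec_mem h hK fun e => absurd e hi, fun j hj =>
      uvec_other h hK a (fun e => hout.1 (e ▸ hj)) (fun e => hout.2 (e ▸ hj))⟩) (fun v hv => ?_)
    (fun a _ => uvec_self h hK a) (fun v _ => rfl)
  obtain ⟨hv, hv0⟩ := Finset.mem_filter.1 hv
  funext j
  rcases hL j with hj | rfl | rfl
  · rw [hv0 j hj, uvec_other h hK _ (fun e : j = i => hout.1 (e ▸ hj))
      (fun e : j = P.sig i => hout.2 (e ▸ hj))]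
  · rw [uvec_self h hK]
  · have h1 := apply_sig h hv i
    rw [h1]
    simp [uvec, hi]

end Pat

end CfsgLib.MinDeg2E6
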