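import Cfsg.Agent.Lib.MinDeg2E6.Cert

set_option autoImplicit false

/-! The certificates of the descent in ²E₆. -/

namespace CfsgLib.MinDeg2E6

/-- The roots of a level. -/
def topR : List ℕ :=
  [46, 47, 48, 50, 49, 61, 51, 52, 62, 53, 54, 64, 63, 55, 67, 65, 66, 68, 69, 70]

/-- The acting roots of a level. -/
def topL : List ℕ :=
  [11, 12, 13, 14, 15, 26, 27, 28, 29, 30, 31, 32, 33, 34, 35, 36, 37, 38, 39, 40, 41, 42, 43, 44,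
    45, 56, 57, 58, 59, 60]

/-- The pattern of a level. -/
def topP : Pat 20 :=
  mkPat [0, 1, 3, 2, 5, 4, 6, 8, 7, 9, 11, 10, 12, 14, 13, 15, 17, 16, 18, 19]
    [1, 1, 1, 1, -1, -1, 1, -1, -1, 1, -1, -1, 1, -1, -1, 1, 1, 1, 1, 1]

/-- The operations of a level. -/
def topOps : List (Op 20) := [
  mkOp true (1) [0, 0, 0, 0, 0, 0, 0, 0, 0, 0, 0, 0, 2, 0, 0, 4, 6, 8, 14, 20]
    [0, 0, 0, 0, 0, 0, 0, 0, 0, 0, 0, 0, 0, 0, 0, 0, 0, 0, 0, 0],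
  mkOp false (-1) [0, 0, 0, 0, 0, 0, 0, 0, 2, 0, 0, 4, 0, 0, 8, 0, 9, 0, 15, 21]
    [0, 0, 0, 0, 0, 0, 0, 2, 0, 0, 4, 0, 0, 6, 0, 0, 0, 11, 17, 23],
  mkOp false (1) [0, 0, 0, 0, 0, 2, 0, 0, 0, 0, 0, 5, 0, 0, 13, 9, 0, 15, 0, 28]
    [0, 0, 0, 0, 1, 0, 0, 0, 0, 0, 8, 0, 0, 14, 0, 12, 18, 0, 0, 29],
  mkOp false (-1) [0, 0, 0, 0, 0, 3, 0, 0, 5, 0, 0, 0, 9, 0, 20, 0, 0, 22, 28, 0]
    [0, 0, 0, 0, 3, 0, 0, 7, 0, 0, 0, 0, 11, 20, 0, 0, 24, 0, 30, 0],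
  mkOp false (1) [0, 0, 0, 0, 0, 8, 0, 0, 14, 0, 0, 20, 16, 0, 0, 22, 28, 0, 0, 0]
    [0, 0, 0, 0, 5, 0, 0, 13, 0, 0, 19, 0, 17, 0, 0, 23, 0, 29, 0, 0],
  mkOp false (-1) [0, 0, 0, 0, 0, 0, 0, 2, 0, 0, 4, 0, 0, 6, 0, 0, 0, 11, 17, 23]
    [0, 0, 0, 0, 0, 0, 0, 0, 2, 0, 0, 4, 0, 0, 8, 0, 9, 0, 15, 21],
  mkOp true (1) [0, 0, 0, 0, 0, 0, 2, 0, 0, 4, 0, 0, 0, 9, 11, 0, 0, 0, 26, 32]
    [0, 0, 0, 0, 0, 0, 0, 0, 0, 0, 0, 0, 0, 0, 0, 0, 0, 0, 0, 0],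
  mkOp false (-1) [0, 0, 0, 2, 0, 0, 0, 0, 0, 5, 9, 0, 0, 0, 18, 0, 0, 26, 0, 33]
    [0, 0, 1, 0, 0, 0, 0, 0, 0, 8, 0, 12, 0, 15, 0, 0, 25, 0, 0, 36],
  mkOp false (1) [0, 0, 0, 3, 0, 0, 5, 9, 0, 0, 0, 0, 0, 0, 23, 0, 0, 31, 33, 0]
    [0, 0, 3, 0, 0, 0, 7, 0, 11, 0, 0, 0, 0, 21, 0, 0, 31, 0, 35, 0],
  mkOp false (1) [0, 0, 0, 0, 1, 0, 0, 0, 0, 0, 8, 0, 0, 14, 0, 12, 18, 0, 0, 29]
    [0, 0, 0, 0, 0, 2, 0, 0, 0, 0, 0, 5, 0, 0, 13, 9, 0, 15, 0, 28],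
  mkOp false (-1) [0, 0, 1, 0, 0, 0, 0, 0, 0, 8, 0, 12, 0, 15, 0, 0, 25, 0, 0, 36]
    [0, 0, 0, 2, 0, 0, 0, 0, 0, 5, 9, 0, 0, 0, 18, 0, 0, 26, 0, 33],
  mkOp true (1) [0, 1, 0, 0, 0, 0, 0, 0, 0, 13, 15, 17, 0, 0, 0, 25, 0, 0, 0, 37]
    [0, 0, 0, 0, 0, 0, 0, 0, 0, 0, 0, 0, 0, 0, 0, 0, 0, 0, 0, 0],
  mkOp false (-1) [0, 0, 0, 0, 3, 0, 0, 7, 0, 0, 0, 0, 11, 20, 0, 0, 24, 0, 30, 0]
    [0, 0, 0, 0, 0, 3, 0, 0, 5, 0, 0, 0, 9, 0, 20, 0, 0, 22, 28, 0],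
  mkOp false (1) [0, 0, 3, 0, 0, 0, 7, 0, 11, 0, 0, 0, 0, 21, 0, 0, 31, 0, 35, 0]
    [0, 0, 0, 3, 0, 0, 5, 9, 0, 0, 0, 0, 0, 0, 23, 0, 0, 31, 33, 0],
  mkOp false (1) [0, 0, 0, 0, 5, 0, 0, 13, 0, 0, 19, 0, 17, 0, 0, 23, 0, 29, 0, 0]
    [0, 0, 0, 0, 0, 8, 0, 0, 14, 0, 0, 20, 16, 0, 0, 22, 28, 0, 0, 0],
  mkOp false (1) [0, 0, 9, 0, 0, 0, 15, 0, 25, 21, 0, 31, 0, 0, 35, 0, 0, 0, 0, 0]
    [0, 0, 0, 12, 0, 0, 18, 26, 0, 24, 32, 0, 0, 34, 0, 0, 0, 0, 0, 0],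
  mkOp false (1) [0, 5, 0, 13, 0, 17, 0, 0, 0, 0, 27, 0, 0, 0, 0, 33, 0, 37, 0, 0]
    [0, 7, 13, 0, 15, 0, 0, 0, 0, 0, 0, 29, 0, 0, 0, 35, 37, 0, 0, 0],
  mkOp false (-1) [0, 9, 0, 15, 0, 25, 0, 0, 0, 28, 0, 34, 0, 0, 38, 0, 0, 0, 0, 0]
    [0, 11, 17, 0, 25, 0, 0, 0, 0, 30, 36, 0, 0, 38, 0, 0, 0, 0, 0, 0],
  mkOp true (1) [3, 0, 0, 0, 0, 0, 19, 21, 23, 0, 0, 0, 31, 0, 0, 0, 0, 0, 39, 0]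
    [0, 0, 0, 0, 0, 0, 0, 0, 0, 0, 0, 0, 0, 0, 0, 0, 0, 0, 0, 0],
  mkOp false (-1) [5, 0, 0, 20, 0, 24, 0, 27, 0, 0, 0, 0, 33, 0, 0, 0, 0, 40, 0, 0]
    [8, 0, 19, 0, 21, 0, 0, 0, 30, 0, 0, 0, 36, 0, 0, 0, 39, 0, 0, 0],
  mkOp false (1) [9, 0, 0, 22, 0, 32, 28, 0, 34, 0, 0, 0, 0, 0, 39, 0, 0, 0, 0, 0]
    [12, 0, 23, 0, 31, 0, 29, 35, 0, 0, 0, 0, 0, 40, 0, 0, 0, 0, 0, 0],
  mkOp false (1) [0, 7, 13, 0, 15, 0, 0, 0, 0, 0, 0, 29, 0, 0, 0, 35, 37, 0, 0, 0]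
    [0, 5, 0, 13, 0, 17, 0, 0, 0, 0, 27, 0, 0, 0, 0, 33, 0, 37, 0, 0],
  mkOp false (-1) [8, 0, 19, 0, 21, 0, 0, 0, 30, 0, 0, 0, 36, 0, 0, 0, 39, 0, 0, 0]
    [5, 0, 0, 20, 0, 24, 0, 27, 0, 0, 0, 0, 33, 0, 0, 0, 0, 40, 0, 0],
  mkOp true (1) [14, 20, 0, 0, 27, 29, 0, 0, 0, 0, 0, 0, 38, 0, 0, 40, 0, 0, 0, 0]
    [0, 0, 0, 0, 0, 0, 0, 0, 0, 0, 0, 0, 0, 0, 0, 0, 0, 0, 0, 0],
  mkOp false (-1) [16, 22, 28, 0, 0, 35, 0, 0, 37, 0, 0, 39, 0, 0, 0, 0, 0, 0, 0, 0]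
    [18, 24, 0, 30, 33, 0, 0, 37, 0, 0, 39, 0, 0, 0, 0, 0, 0, 0, 0, 0],
  mkOp false (1) [0, 0, 0, 12, 0, 0, 18, 26, 0, 24, 32, 0, 0, 34, 0, 0, 0, 0, 0, 0]
    [0, 0, 9, 0, 0, 0, 15, 0, 25, 21, 0, 31, 0, 0, 35, 0, 0, 0, 0, 0],
  mkOp false (-1) [0, 11, 17, 0, 25, 0, 0, 0, 0, 30, 36, 0, 0, 38, 0, 0, 0, 0, 0, 0]
    [0, 9, 0, 15, 0, 25, 0, 0, 0, 28, 0, 34, 0, 0, 38, 0, 0, 0, 0, 0],
  mkOp false (1) [12, 0, 23, 0, 31, 0, 29, 35, 0, 0, 0, 0, 0, 40, 0, 0, 0, 0, 0, 0]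
    [9, 0, 0, 22, 0, 32, 28, 0, 34, 0, 0, 0, 0, 0, 39, 0, 0, 0, 0, 0],
  mkOp false (-1) [18, 24, 0, 30, 33, 0, 0, 37, 0, 0, 39, 0, 0, 0, 0, 0, 0, 0, 0, 0]
    [16, 22, 28, 0, 0, 35, 0, 0, 37, 0, 0, 39, 0, 0, 0, 0, 0, 0, 0, 0],
  mkOp true (1) [26, 32, 34, 36, 0, 0, 38, 0, 0, 40, 0, 0, 0, 0, 0, 0, 0, 0, 0, 0]
    [0, 0, 0, 0, 0, 0, 0, 0, 0, 0, 0, 0, 0, 0, 0, 0, 0, 0, 0, 0]]

/-- The neighbours of the fixed coordinates. -/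
def topBetas : List (BetaC 20) := [
  ⟨0, [],
    [(0, 12), (1, 8), (2, 5), (6, 6), (7, 3), (11, 1)],
    [(3, 14), (3, 17), (3, 18), (8, 17), (8, 18), (16, 17), (18, 18)]⟩,
  ⟨1, [(18, 0)],
    [(0, 15), (1, 11), (3, 5), (6, 9), (8, 3)],
    [(2, 14), (2, 17), (2, 19), (7, 17), (7, 19), (11, 19), (19, 17)]⟩,
  ⟨6, [(16, 3), (23, 0)],
    [(0, 18), (2, 14), (4, 8), (11, 9)],
    [(1, 11), (1, 16), (1, 19), (7, 17), (6, 19), (7, 19), (19, 17)]⟩,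
  ⟨9, [(18, 6), (19, 3), (23, 1)],
    [(0, 19), (3, 14), (4, 11)],
    [(1, 8), (1, 16), (1, 18), (8, 17), (6, 18), (8, 18), (16, 17)]⟩,
  ⟨12, [(15, 8), (17, 5), (29, 0)],
    [(6, 18), (7, 17), (11, 15)],
    [(1, 11), (1, 14), (1, 19), (2, 14), (0, 19), (2, 19), (20, 14)]⟩,
  ⟨15, [(15, 11), (18, 12), (20, 5), (29, 1)],
    [(6, 19), (8, 17)],
    [(1, 8), (1, 14), (1, 18), (3, 14), (0, 18), (3, 18), (17, 14)]⟩,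
  ⟨18, [(16, 17), (17, 14), (23, 12), (24, 8), (29, 6)],
    [(11, 19)],
    [(2, 5), (2, 11), (2, 15), (4, 11), (0, 15), (4, 15), (15, 11)]⟩,
  ⟨19, [(18, 18), (19, 17), (20, 14), (23, 15), (24, 11), (29, 9)],
    [],
    [(3, 5), (3, 8), (3, 12), (4, 8), (0, 12), (4, 12), (15, 8)]⟩]

/-- The certificate of a level. -/
def topC : LevelC 20 where
  P := topP
  ops := topOps
  a := 9
  betas := topBetas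
  cores := [
    ⟨0, 8, 1, 18, [12],
      [(2, 5), (6, 6), (7, 3), (11, 1)]⟩,
    ⟨0, 5, 2, 15, [12],
      [(1, 8), (6, 6), (7, 3), (11, 1)]⟩,
    ⟨0, 3, 7, 9, [6],
      [(0, 12), (1, 8), (2, 5), (11, 1)]⟩,
    ⟨1, 11, 1, 19, [15],
      [(18, 0), (3, 5), (6, 9), (8, 3)]⟩,
    ⟨1, 5, 3, 12, [15],
      [(18, 0), (1, 11), (6, 9), (8, 3)]⟩,
    ⟨1, 3, 8, 6, [9],
      [(18, 0), (0, 15), (1, 11), (3, 5)]⟩,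
    ⟨6, 14, 2, 19, [18],
      [(16, 3), (23, 0), (4, 8), (11, 9)]⟩,
    ⟨6, 8, 4, 12, [18],
      [(16, 3), (23, 0), (2, 14), (11, 9)]⟩,
    ⟨9, 14, 3, 18, [19],
      [(18, 6), (19, 3), (23, 1), (4, 11)]⟩,
    ⟨9, 11, 4, 15, [19],
      [(18, 6), (19, 3), (23, 1), (3, 14)]⟩,
    ⟨12, 17, 7, 19, [18],
      [(15, 8), (17, 5), (29, 0), (11, 15)]⟩,
    ⟨15, 17, 8, 18, [19],
      [(15, 11), (18, 12), (20, 5), (29, 1)]⟩]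
  starts := [
    ⟨7, ⟨9, 2, 22, 0, [6, 1],
      [(0, 19), (3, 14), (4, 11)]⟩⟩,
    ⟨2, ⟨15, 4, 27, 0, [12, 1],
      [(15, 11), (6, 19), (8, 17)]⟩⟩,
    ⟨1, ⟨18, 7, 28, 0, [12, 6],
      [(16, 17), (17, 14), (11, 19)]⟩⟩,
    ⟨1, ⟨19, 10, 28, 1, [15, 9],
      [(18, 18), (19, 17), (20, 14)]⟩⟩,
    ⟨2, ⟨19, 13, 27, 6, [18, 9],
      [(19, 17), (23, 15), (24, 11)]⟩⟩,
    ⟨7, ⟨19, 16, 22, 12, [18, 15],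
      [(20, 14), (24, 11), (29, 9)]⟩⟩]

/-- The roots of a level. -/
def lowR : List ℕ :=
  [39, 40, 43, 41, 58, 44, 45, 59, 60]

/-- The acting roots of a level. -/
def lowL : List ℕ :=
  [14, 15, 29, 33, 34, 35, 36, 37, 38, 42, 56, 57]

/-- The pattern of a level. -/
def lowP : Pat 9 :=
  mkPat [0, 2, 1, 4, 3, 5, 7, 6, 8]
    [1, -1, -1, 1, 1, 1, -1, -1, 1]

/-- The operations of a level. -/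
def lowOps : List (Op 9) := [
  mkOp false (-1) [0, 0, 0, 0, 2, 0, 0, 4, 8]
    [0, 0, 0, 1, 0, 0, 5, 0, 9],
  mkOp false (1) [0, 0, 0, 0, 6, 0, 0, 12, 14]
    [0, 0, 0, 3, 0, 0, 11, 0, 15],
  mkOp false (1) [0, 0, 2, 0, 0, 4, 8, 0, 0]
    [0, 1, 0, 0, 0, 5, 0, 9, 0],
  mkOp false (-1) [0, 0, 0, 1, 0, 0, 5, 0, 9]
    [0, 0, 0, 0, 2, 0, 0, 4, 8],
  mkOp false (1) [0, 1, 0, 0, 0, 5, 0, 9, 0]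
    [0, 0, 2, 0, 0, 4, 8, 0, 0],
  mkOp false (1) [0, 0, 0, 3, 0, 0, 11, 0, 15]
    [0, 0, 0, 0, 6, 0, 0, 12, 14],
  mkOp false (1) [0, 7, 0, 0, 0, 13, 0, 17, 0]
    [0, 0, 10, 0, 0, 16, 18, 0, 0],
  mkOp false (1) [3, 0, 11, 0, 15, 0, 0, 0, 0]
    [6, 12, 0, 14, 0, 0, 0, 0, 0],
  mkOp false (-1) [7, 0, 13, 0, 17, 0, 0, 0, 0]
    [10, 16, 0, 18, 0, 0, 0, 0, 0],
  mkOp false (1) [6, 12, 0, 14, 0, 0, 0, 0, 0]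
    [3, 0, 11, 0, 15, 0, 0, 0, 0],
  mkOp false (1) [0, 0, 10, 0, 0, 16, 18, 0, 0]
    [0, 7, 0, 0, 0, 13, 0, 17, 0],
  mkOp false (-1) [10, 16, 0, 18, 0, 0, 0, 0, 0]
    [7, 0, 13, 0, 17, 0, 0, 0, 0]]

/-- The neighbours of the fixed coordinates. -/
def lowBetas : List (BetaC 9) := [
  ⟨0, [],
    [(0, 4), (2, 2)],
    [(1, 7), (1, 8), (6, 7)]⟩,
  ⟨5, [(7, 2)],
    [(1, 7)],
    [(0, 4), (0, 8), (8, 4)]⟩,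
  ⟨8, [(6, 7), (8, 4)],
    [],
    [(2, 2), (2, 5), (7, 2)]⟩]

/-- The certificate of a level. -/
def lowC : LevelC 9 where
  P := lowP
  ops := lowOps
  a := 4
  betas := lowBetas
  cores := []
  starts := []

/-- The two halves of the polarisation. -/
def polA : List ℕ :=
  [46, 47, 49, 61, 54, 64, 63, 65, 66, 68]

/-- The second half, in the order of the partners. -/
def polB : List ℕ :=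
  [70, 69, 67, 55, 62, 52, 53, 51, 50, 48]

/-- The signs of the pairing. -/
def polS : List ℤ :=
  [-1, 1, 1, 1, 1, 1, 1, -1, 1, 1]

/-- The pattern of the first half. -/
def polPA : Pat 10 :=
  mkPat [0, 1, 3, 2, 5, 4, 6, 7, 9, 8] [1, 1, -1, -1, -1, -1, 1, 1, 1, 1]

/-- The pattern of the second half. -/
def polPB : Pat 10 :=
  mkPat [0, 1, 3, 2, 5, 4, 6, 7, 9, 8]
    [1, 1, -1, -1, -1, -1, 1, 1, 1, 1]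

/-- An operation on the first half. -/
def gA : Op 10 :=
  mkOp true (1) [14, 16, 0, 0, 0, 0, 0, 0, 0, 0] [0, 0, 0, 0, 0, 0, 0, 0, 0, 0]

/-- An operation on the first half. -/
def dA : Op 10 :=
  mkOp false (-1) [0, 5, 0, 13, 0, 18, 0, 0, 0, 0] [0, 7, 13, 0, 20, 0, 0, 0, 0, 0]

/-- An operation on the first half. -/
def eA : Op 10 :=
  mkOp false (1) [5, 0, 0, 16, 0, 0, 0, 0, 0, 0] [8, 0, 15, 0, 0, 0, 0, 0, 0, 0]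

/-- The top element on the second half, outside the crossing orbit. -/
def gB : Op 10 :=
  mkOp true 1 [0, 0, 0, 0, 0, 0, 2, 4, 0, 0] [0, 0, 0, 0, 0, 0, 0, 0, 0, 0]

end CfsgLib.MinDeg2E6
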