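import Cfsg.Agent.Lib.MinDeg2E6.Roots
import Cfsg.Agent.Lib.TwistMult.E6Elements
import Cfsg.Agent.Lib.TwistedStr.StrE6

set_option autoImplicit false
set_option linter.unusedSectionVars false

/-!
Root elements of ²E₆(q): membership for every orbit of roots, torus scalings and reflections.
-/

namespace CfsgLib.MinDeg2E6

open Cfsg.Lie CfsgLib.ChevStr CfsgLib.Twisted CfsgLib.MinDegE
open scoped MatrixGroups

/-- The checks on a root needed for the element over its orbit. -/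
def orbOK (r : ℕ) : Bool :=
  let s := e6Sym.root r
  decide (r < chevE6.nroots) && decide (s < chevE6.nroots) && decide (e6Sym.root s = r) &&
    decide (e6Sym.sign s = e6Sym.sign r) && decide (e6Sym.sign r = 1 ∨ e6Sym.sign r = -1) &&
    (if s = r then decide (e6Sym.sign r = 1) else commPair chevE6 r s) &&
    (decide (chevE6.IsPosRoot r ∧ chevE6.IsPosRoot s) || decide (chevE6.IsNegRoot r ∧ chevE6.IsNegRoot s))

variable {K : Type*} [Field K]

/-- The element over the orbit of a root. -/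
noncomputable def orbGL (q r : ℕ) (u : K) : GL chevE6.Idx K :=
  if e6Sym.root r = r then (coreE6 K).xGL r u
  else (coreE6 K).xGL r u * (coreE6 K).xGL (e6Sym.root r) ((e6Sym.sign r : K) * u ^ q)

theorem xg_gl {r s : ℕ} {t u : K} (h : Commute (xg (coreE6 K) r t) (xg (coreE6 K) s u)) :
    Commute ((coreE6 K).xGL r t) ((coreE6 K).xGL s u) := congrArg Subtype.val h.eq

variable [Fintype K] {p n : ℕ} [ExpChar K p] (hn : Fintype.card K = (p ^ n) * (p ^ n)) (hq : 2 ≤ p ^ n)

include hn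

theorem act_orbGL {r : ℕ} (hr : orbOK r = true) {u : K} (hu : e6Sym.root r = r → u ^ p ^ n = u) :
    (frobE6 K p n).act (orbGL (p ^ n) r u) = orbGL (p ^ n) r u := by
  simp only [orbOK, Bool.and_eq_true, decide_eq_true_eq] at hr
  obtain ⟨⟨⟨⟨⟨⟨h0, h1⟩, h2⟩, hs⟩, hpm⟩, hcom⟩, -⟩ := hr
  set C := coreE6 K
  by_cases hf : e6Sym.root r = r
  · rw [if_pos hf, decide_eq_true_eq] at hcom
    rw [orbGL, if_pos hf, (frobE6 K p n).act_word (root := e6Sym.root) (fun _ => rfl) h0]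
    show C.xGL (e6Sym.root r) ((e6Sym.sign r : K) * u ^ p ^ n) = _
    rw [hf, hcom, Int.cast_one, one_mul, hu hf]
  · rw [if_neg hf] at hcom
    have hq2 : (u ^ p ^ n) ^ p ^ n = u := by rw [← pow_mul, ← hn, FiniteField.pow_card]
    have hcast : ∀ z : ℤ, (z : K) ^ p ^ n = (z : K) := fun z => by
      rw [← iterateFrobenius_def, map_intCast]
    rw [orbGL, if_neg hf, (frobE6 K p n).act_mul (C.xGL_mem_group _ _) (C.xGL_mem_group _ _),
      (frobE6 K p n).act_word (root := e6Sym.root) (fun _ => rfl) h0,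
      (frobE6 K p n).act_word (root := e6Sym.root) (fun _ => rfl) h1, h2]
    show C.xGL (e6Sym.root r) ((e6Sym.sign r : K) * u ^ p ^ n) *
      C.xGL r ((e6Sym.sign (e6Sym.root r) : K) * ((e6Sym.sign r : K) * u ^ p ^ n) ^ p ^ n) = _
    rw [mul_pow, hcast, hq2, hs, ← mul_assoc ((e6Sym.sign r : ℤ) : K) _ u,
      show ((e6Sym.sign r : ℤ) : K) * ((e6Sym.sign r : ℤ) : K) = 1 by
        rcases hpm with e | e <;> simp [e], one_mul]
    exact (xg_gl (commute_of_pair C hcom _ _)).eq.symm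

include hq

theorem orbGL_mem {r : ℕ} (hr : orbOK r = true) {u : K} (hu : e6Sym.root r = r → u ^ p ^ n = u) :
    orbGL (p ^ n) r u ∈ twistedE6 K (p ^ n) := by
  have hfix : orbGL (p ^ n) r u ∈ (frobE6 K p n).fixedSub := by
    refine (frobE6 K p n).mem_fixedSub.2 ⟨?_, act_orbGL hn hr hu⟩
    rw [orbGL]
    split_ifs
    · exact (coreE6 K).xGL_mem_group _ _
    · exact mul_mem ((coreE6 K).xGL_mem_group _ _) ((coreE6 K).xGL_mem_group _ _)
  have g := gensE6 K hn hq
  simp only [orbOK, Bool.and_eq_true, decide_eq_true_eq, Bool.or_eq_true] at hr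
  obtain ⟨⟨⟨⟨⟨⟨h0, h1⟩, -⟩, -⟩, -⟩, -⟩, hside⟩ := hr
  rcases hside with ⟨hp, hp'⟩ | ⟨hp, hp'⟩
  · refine g.fixU_pos.1 (Subgroup.mem_inf.2 ⟨?_, hfix⟩)
    rw [orbGL]
    split_ifs
    · exact (coreE6 K).xGL_mem_Ucl (S := {k | chevE6.IsPosRoot k}) hp _
    · exact mul_mem ((coreE6 K).xGL_mem_Ucl (S := {k | chevE6.IsPosRoot k}) hp _)
        ((coreE6 K).xGL_mem_Ucl (S := {k | chevE6.IsPosRoot k}) hp' _)
  · obtain ⟨w, hw, hc, hneg⟩ := Gens.exists_longest_commute (φ := frobE6 K p n)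
    obtain ⟨m, -, hm, hmv⟩ := g.exists_rep_twist hw hc
    have hconj : ∀ {s : ℕ}, s < chevE6.nroots → chevE6.IsNegRoot s → ∀ t : K,
        m * (coreE6 K).xGL s t * m⁻¹ ∈ (coreE6 K).Ucl {k | chevE6.IsPosRoot k} := by
      intro s hs hsn t
      obtain ⟨v, hv⟩ := hmv.2 ⟨s, hs⟩ t
      have hpos : chevE6.IsPosRoot (w ⟨s, hs⟩) := by
        have h2 := hneg ⟨chevE6.neg s, (coreE6 K).R.neg_lt s hs⟩
          (((coreE6 K).R.isPos_neg_iff hs).2 hsn)
        rwa [(coreE6 K).hR.apply_neg hw ⟨s, hs⟩,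
          (coreE6 K).R.isNeg_neg_iff (w ⟨s, hs⟩).isLt] at h2
      rw [show (coreE6 K).xGL s t = (coreE6 K).xGL ((⟨s, hs⟩ : Fin chevE6.nroots) : ℕ) t from rfl, hv]
      exact (coreE6 K).xGL_mem_Ucl (S := {k | chevE6.IsPosRoot k}) hpos v
    have hU : m * orbGL (p ^ n) r u * m⁻¹ ∈ (coreE6 K).Ucl {k | chevE6.IsPosRoot k} := by
      rw [orbGL]
      split_ifs
      · exact hconj h0 hp u
      · rw [← conj_mul]
        exact mul_mem (hconj h0 hp _) (hconj h1 hp' _)
    have hG : m * orbGL (p ^ n) r u * m⁻¹ ∈ twistedE6 K (p ^ n) :=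
      g.fixU_pos.1 (Subgroup.mem_inf.2
        ⟨hU, mul_mem (mul_mem (g.le_fixed hm) hfix) (inv_mem (g.le_fixed hm))⟩)
    have := mul_mem (mul_mem (inv_mem hm) hG) hm
    simpa [mul_assoc] using this

open Classical in
/-- The element over an orbit as a member of the group. -/
noncomputable def el (K : Type*) [Field K] (q r : ℕ) (u : K) : ↥(twistedE6 K q) :=
  if h : orbGL q r u ∈ twistedE6 K q then ⟨orbGL q r u, h⟩ else 1

theorem coe_el {r : ℕ} (hr : orbOK r = true) {u : K} (hu : e6Sym.root r = r → u ^ p ^ n = u) :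
    (el K (p ^ n) r u : GL chevE6.Idx K) = orbGL (p ^ n) r u := by
  rw [el, dif_pos (orbGL_mem hn hq hr hu)]

/-- A member of the group on a root subgroup has a fixed parameter. -/
theorem fixed_param {r : ℕ} (hr : r < chevE6.nroots) (hroot : e6Sym.root r = r)
    (hsign : e6Sym.sign r = 1) {a : K} (h : (coreE6 K).xGL r a ∈ twistedE6 K (p ^ n)) :
    a ^ p ^ n = a := by
  have h1 := ((frobE6 K p n).mem_fixedSub.1 (le_fixedE6 K hn h)).2
  rw [(frobE6 K p n).act_word (root := e6Sym.root) (fun _ => rfl) hr, hroot] at h1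
  have h2 : (coreE6 K).xGL r ((e6Sym.sign r : K) * a ^ p ^ n) = (coreE6 K).xGL r a := h1
  rw [hsign, Int.cast_one, one_mul] at h2
  exact (coreE6 K).xGL_injective hr h2

omit hn hq [Fintype K] [ExpChar K p] in
/-- The coordinate vector of an orbit element. -/
theorem orbGL_rep {N : ℕ} {S : RSys (coreE6 K) N} {P : Pat N} {q : ℕ} {i : Fin N}
    (hsig : S.R (P.sig i) = e6Sym.root (S.R i)) (hfix : P.sig i = i ↔ e6Sym.root (S.R i) = S.R i)
    (heps : P.eps i = e6Sym.sign (S.R i)) (a : K) :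
    S.Rep (orbGL q (S.R i) a) (Pat.uvec P q i a) := by
  rw [orbGL, Pat.uvec]
  by_cases hf : P.sig i = i
  · rw [if_pos (hfix.1 hf), if_pos hf, add_zero]
    exact RSys.rep_single i a
  · rw [if_neg fun h => hf (hfix.2 h), if_neg hf, ← hsig, heps]
    exact (RSys.rep_single i a).mul (RSys.rep_single _ _)

/-- The roots of a pattern are moved as the pattern says. -/
def patCheck {N : ℕ} (R : Fin N → ℕ) (P : Pat N) : Bool :=
  (List.finRange N).all fun i => decide (R (P.sig i) = e6Sym.root (R i)) &&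
    decide (P.sig i = i ↔ e6Sym.root (R i) = R i) && decide (P.eps i = e6Sym.sign (R i)) && orbOK (R i)

/-- The torus element scaling by a fixed unit. -/
theorem exists_scale [DecidableEq K] {t : K} (ht : t ^ p ^ n = t) (ht0 : t ≠ 0) :
    ∃ h : ↥(twistedE6 K (p ^ n)), ∀ r < chevE6.nroots, chevE6.cartan 1 r = 1 →
      ∀ v : K, (h : GL chevE6.Idx K) * (coreE6 K).xGL r v * (h : GL chevE6.Idx K)⁻¹ =
        (coreE6 K).xGL r (t * v) := by
  set c : Fin chevE6.rank → Kˣ := Pi.mulSingle (nodeE6 1) (Units.mk0 t ht0) with hc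
  have hmem : c ∈ fixTorus (F := K) piE6 (fun _ => p ^ n) := by
    rw [mem_fixTorus]
    intro j
    obtain ⟨e0, e1, e2, e3, e4, e5⟩ := piE6_vals
    have hu : Units.mk0 t ht0 ^ p ^ n = Units.mk0 t ht0 := Units.ext (by simp [ht])
    rcases nodeE6_cases j with rfl | rfl | rfl | rfl | rfl | rfl <;>
      simp only [hc, e0, e1, e2, e3, e4, e5] <;> simp [Pi.mulSingle_apply, nodeE6, hu, Fin.ext_iff]
  refine ⟨⟨_, fixTorus_leE6 K c hmem⟩, fun r hr hcart v => ?_⟩
  show (coreE6 K).R.torus c * (coreE6 K).xGL r v * ((coreE6 K).R.torus c)⁻¹ = _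
  rw [show (coreE6 K).xGL r v = (coreE6 K).xGL ((⟨r, hr⟩ : Fin chevE6.nroots) : ℕ) v from rfl,
    (coreE6 K).acts_torus c ⟨r, hr⟩ v]
  have h1 := (coreE6 K).R.torusChar_single (nodeE6 1) (Units.mk0 t ht0) hr
  rw [show chevE6.cartan (nodeE6 1).val r = 1 from hcart, zpow_one] at h1
  rw [show (coreE6 K).R.torusChar c ((coreE6 K).R.α ((⟨r, hr⟩ : Fin chevE6.nroots) : ℕ)) =
    Units.mk0 t ht0 from h1]
  rfl

/-- The reflection of a node orbit as a product of root elements of the orbit. -/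
noncomputable def refEl (K : Type*) [Field K] (q : ℕ) (i : Fin chevE6.rank) : ↥(twistedE6 K q) :=
  el K q (chevE6.simple i.val) 1 * el K q (chevE6.neg (chevE6.simple i.val)) (-1) *
    el K q (chevE6.simple i.val) 1

/-- The checks on a node for the reflection. -/
def refOK (i : Fin chevE6.rank) (j : Fin chevE6.rank) : Bool :=
  let a := chevE6.simple i.val
  let b := chevE6.simple j.val
  decide (piE6 i = j) && orbOK a && orbOK (chevE6.neg a) && decide (e6Sym.root a = b) &&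
    decide (e6Sym.root (chevE6.neg a) = chevE6.neg b) && decide (e6Sym.sign a = 1) &&
    decide (e6Sym.sign (chevE6.neg a) = 1) &&
    (decide (i = j) || (decide (b ≠ a ∧ chevE6.neg b ≠ chevE6.neg a) &&
      [a, chevE6.neg a].all fun x => [b, chevE6.neg b].all fun y => commPair chevE6 x y))

/-- The effect of a node orbit on a root. -/
def refRoot (i : Fin chevE6.rank) (r : ℕ) : ℕ :=
  if piE6 i = i then chevE6.reflectRoot i.val r
  else chevE6.reflectRoot i.val (chevE6.reflectRoot (piE6 i).val r)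

theorem refEl_conj {i : Fin chevE6.rank} (hi : refOK i (piE6 i) = true) {r : ℕ} (hr : r < chevE6.nroots) :
    ∃ e : K, (e = 1 ∨ e = -1) ∧ ∀ t, (refEl K (p ^ n) i : GL chevE6.Idx K) * (coreE6 K).xGL r t *
      (refEl K (p ^ n) i : GL chevE6.Idx K)⁻¹ = (coreE6 K).xGL (refRoot i r) (e * t) := by
  simp only [refOK, Bool.and_eq_true, decide_eq_true_eq, Bool.or_eq_true] at hi
  obtain ⟨⟨⟨⟨⟨⟨⟨-, ha⟩, hna⟩, hb⟩, hnb⟩, hs⟩, hns⟩, hcom⟩ := hi
  have h1 : ((1 : K)) ^ p ^ n = 1 := one_pow _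
  have hm1 : ((-1 : K)) ^ p ^ n = -1 := neg_one_pow_expChar p n
  have hsq : ∀ {e : K}, e * e = 1 → e = 1 ∨ e = -1 := fun h => mul_self_eq_one_iff.1 h
  set C := coreE6 K
  set a := chevE6.simple i.val
  set b := chevE6.simple (piE6 i).val
  have hcoe : (refEl K (p ^ n) i : GL chevE6.Idx K) =
      orbGL (p ^ n) a 1 * orbGL (p ^ n) (chevE6.neg a) (-1) * orbGL (p ^ n) a 1 := by
    show ((el K (p ^ n) a 1 : GL chevE6.Idx K) * el K (p ^ n) (chevE6.neg a) (-1) *
      el K (p ^ n) a 1) = _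
    rw [coe_el hn hq ha fun _ => h1, coe_el hn hq hna fun _ => hm1]
  obtain ⟨e1, he1, hc1⟩ := nref_conj C i hr
  by_cases hf : piE6 i = i
  · refine ⟨e1, hsq he1, fun t => ?_⟩
    have hb' : e6Sym.root a = a := by rw [hb]; show chevE6.simple _ = _; rw [hf]
    have hnb' : e6Sym.root (chevE6.neg a) = chevE6.neg a := by
      rw [hnb]; show chevE6.neg (chevE6.simple _) = _; rw [hf]
    have h2 := congrArg Subtype.val (hc1 t)
    rw [refRoot, if_pos hf, hcoe, orbGL, orbGL, if_pos hb', if_pos hnb', mul_inv_eq_iff_eq_mul]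
    simpa [nref, xg, mul_assoc] using h2
  · obtain ⟨e2, he2, hc2⟩ := nref_conj C (piE6 i) hr
    have hr2 : chevE6.reflectRoot (piE6 i).val r < chevE6.nroots := C.hR.refl_lt _ r hr
    obtain ⟨e3, he3, hc3⟩ := nref_conj C i hr2
    refine ⟨e3 * e2, ?_, fun t => ?_⟩
    · rcases hsq he3 with rfl | rfl <;> rcases hsq he2 with rfl | rfl <;> simp
    obtain ⟨⟨hne, hne'⟩, hcomm⟩ := hcom.resolve_left (Ne.symm hf)
    simp only [List.all_cons, List.all_nil, Bool.and_eq_true, and_true] at hcomm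
    obtain ⟨⟨c1, c2⟩, c3, c4⟩ := hcomm
    have hb' : e6Sym.root a ≠ a := by rw [hb]; exact hne
    have hnb' : e6Sym.root (chevE6.neg a) ≠ chevE6.neg a := by rw [hnb]; exact hne'
    have hsplit : (refEl K (p ^ n) i : GL chevE6.Idx K) =
        (nref C i : GL chevE6.Idx K) * (nref C (piE6 i) : GL chevE6.Idx K) := by
      rw [hcoe, orbGL, orbGL, if_neg hb', if_neg hnb', hb, hnb, hs, hns, Int.cast_one, one_mul, one_mul,
        h1, hm1]
      show _ = (C.xGL a 1 * C.xGL (chevE6.neg a) (-1) * C.xGL a 1) *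
        (C.xGL b 1 * C.xGL (chevE6.neg b) (-1) * C.xGL b 1)
      have k1 : Commute (C.xGL b 1) (C.xGL (chevE6.neg a) (-1)) :=
        (xg_gl (commute_of_pair C c3 (-1) (1 : K))).symm
      have k2 : Commute (C.xGL b 1 * C.xGL (chevE6.neg b) (-1)) (C.xGL a 1) :=
        ((xg_gl (commute_of_pair C c1 (1 : K) 1)).symm).mul_left
          ((xg_gl (commute_of_pair C c2 (1 : K) (-1))).symm)
      calc C.xGL a 1 * C.xGL b 1 * (C.xGL (chevE6.neg a) (-1) * C.xGL (chevE6.neg b) (-1)) *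
            (C.xGL a 1 * C.xGL b 1)
          = C.xGL a 1 * (C.xGL b 1 * C.xGL (chevE6.neg a) (-1)) * C.xGL (chevE6.neg b) (-1) *
            C.xGL a 1 * C.xGL b 1 := by simp only [mul_assoc]
        _ = C.xGL a 1 * C.xGL (chevE6.neg a) (-1) *
            ((C.xGL b 1 * C.xGL (chevE6.neg b) (-1)) * C.xGL a 1) * C.xGL b 1 := by
          rw [k1.eq]; simp only [mul_assoc]
        _ = _ := by rw [k2.eq]; simp only [mul_assoc]
    have h2 : (nref C (piE6 i) : GL chevE6.Idx K) * C.xGL r t =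
        C.xGL (chevE6.reflectRoot (piE6 i).val r) (e2 * t) * (nref C (piE6 i) : GL chevE6.Idx K) :=
      congrArg Subtype.val (hc2 t)
    have h3 : (nref C i : GL chevE6.Idx K) * C.xGL (chevE6.reflectRoot (piE6 i).val r) (e2 * t) =
        C.xGL (chevE6.reflectRoot i.val (chevE6.reflectRoot (piE6 i).val r)) (e3 * (e2 * t)) *
          (nref C i : GL chevE6.Idx K) :=
      congrArg Subtype.val (hc3 (e2 * t))
    rw [refRoot, if_neg hf, hsplit, mul_inv_eq_iff_eq_mul, mul_assoc _ _ (C.xGL r t), h2, ← mul_assoc, h3,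
      ← mul_assoc e3]
    simp only [mul_assoc]

end CfsgLib.MinDeg2E6
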