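import Cfsg.Agent.Lib.MinDegE.Tools
import Cfsg.Agent.Lib.Twisted.FrobBuild

set_option autoImplicit false
set_option linter.unusedSectionVars false

/-!
The field of order `q ^ 2`, its fixed field under `x ↦ x ^ q`, and a character that is nontrivial
on the fixed field.
-/

namespace CfsgLib.MinDeg2E6

open CfsgLib.KnownSimple.ModulePerm

variable {K : Type*} [Field K] [Fintype K] [DecidableEq K]

/-- The hypotheses on the field. -/
structure QField (K : Type*) [Field K] [Fintype K] (q : ℕ) : Prop where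
  hq : 2 ≤ q
  card : Fintype.card K = q * q
  add : ∀ x y : K, (x + y) ^ q = x ^ q + y ^ q
  cast : ∀ z : ℤ, ((z : K)) ^ q = (z : K)

theorem QField.of_expChar {p n : ℕ} [ExpChar K p] (hn : Fintype.card K = (p ^ n) * (p ^ n))
    (hq : 2 ≤ p ^ n) : QField K (p ^ n) where
  hq := hq
  card := hn
  add x y := by simpa [iterateFrobenius_def] using map_add (iterateFrobenius K p n) x y
  cast z := by rw [← iterateFrobenius_def, map_intCast]

/-- The fixed field. -/
def fixK (K : Type*) [Field K] [Fintype K] [DecidableEq K] (q : ℕ) : Finset K :=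
  Finset.univ.filter fun x => x ^ q = x

theorem mem_fixK {q : ℕ} {x : K} : x ∈ fixK K q ↔ x ^ q = x := by simp [fixK]

namespace QField

variable {q : ℕ} (h : QField K q)

include h

theorem zero_pow : (0 : K) ^ q = 0 := _root_.zero_pow (by have := h.hq; omega)

theorem neg_pow (x : K) : (-x) ^ q = -(x ^ q) := by
  have h1 := h.add (-x) x
  rw [neg_add_cancel, h.zero_pow] at h1
  exact eq_neg_of_add_eq_zero_left h1.symm

theorem sub_pow (x y : K) : (x - y) ^ q = x ^ q - y ^ q := by
  rw [sub_eq_add_neg, h.add, h.neg_pow, ← sub_eq_add_neg]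

theorem sum_pow {ι : Type*} (s : Finset ι) (f : ι → K) :
    (∑ i ∈ s, f i) ^ q = ∑ i ∈ s, f i ^ q := by
  classical
  induction s using Finset.induction_on with
  | empty => simp [h.zero_pow]
  | insert a s ha ih => rw [Finset.sum_insert ha, Finset.sum_insert ha, h.add, ih]

theorem conj_conj (x : K) : (x ^ q) ^ q = x := by
  rw [← pow_mul, ← h.card, FiniteField.pow_card]

theorem zero_mem : (0 : K) ∈ fixK K q := mem_fixK.2 h.zero_pow

theorem one_mem : (1 : K) ∈ fixK K q := mem_fixK.2 (one_pow q)

theorem add_mem {x y : K} (hx : x ∈ fixK K q) (hy : y ∈ fixK K q) : x + y ∈ fixK K q := by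
  rw [mem_fixK] at *; rw [h.add, hx, hy]

theorem mul_mem {x y : K} (hx : x ∈ fixK K q) (hy : y ∈ fixK K q) : x * y ∈ fixK K q := by
  rw [mem_fixK] at *; rw [mul_pow, hx, hy]

theorem inv_mem {x : K} (hx : x ∈ fixK K q) : x⁻¹ ∈ fixK K q := by
  rw [mem_fixK] at *; rw [inv_pow, hx]

theorem neg_mem {x : K} (hx : x ∈ fixK K q) : -x ∈ fixK K q := by
  rw [mem_fixK] at *; rw [h.neg_pow, hx]

theorem cast_mem (z : ℤ) : (z : K) ∈ fixK K q := mem_fixK.2 (h.cast z)

theorem card_fixK : (fixK K q).card = q := by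
  have h1 := Twisted.card_pow_eq_self (F := K) h.hq (by
    rw [h.card, show q * q - 1 = (q + 1) * (q - 1) by
      rw [← Nat.sq_sub_sq, sq, one_pow]]
    exact Dvd.intro_left _ rfl)
  rw [Nat.card_coe_set_eq, Set.ncard_eq_toFinset_card'] at h1
  refine Eq.trans (congrArg Finset.card ?_) h1
  ext x
  simp [fixK]

omit h in
/-- A polynomial with few roots does not vanish everywhere. -/
theorem exists_eval_ne (P : Polynomial K) (hP : P ≠ 0) (hdeg : P.natDegree < Fintype.card K) :
    ∃ t : K, P.eval t ≠ 0 := by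
  by_contra hc
  push Not at hc
  exact hP (Polynomial.eq_zero_of_natDegree_lt_card_of_eval_eq_zero P (f := id) Function.injective_id hc hdeg)

theorem exists_not_fixed : ∃ u : K, u ^ q ≠ u := by
  by_contra hc
  push Not at hc
  have h1 : fixK K q = Finset.univ := Finset.eq_univ_iff_forall.2 fun x => mem_fixK.2 (hc x)
  have h2 := h.card_fixK
  rw [h1, Finset.card_univ, h.card] at h2
  nlinarith [h.hq]

/-- A linear form in `u` and `u ^ q` vanishing identically is zero. -/
theorem form_zero {a b : K} (hab : ∀ u : K, a * u + b * u ^ q = 0) : a = 0 ∧ b = 0 := by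
  obtain ⟨u, hu⟩ := h.exists_not_fixed
  have h1 := hab 1
  rw [one_pow, mul_one, mul_one] at h1
  have h2 : a * (u - u ^ q) = 0 := by linear_combination hab u - u ^ q * h1
  have ha : a = 0 := (mul_eq_zero.1 h2).resolve_right fun e => hu (sub_eq_zero.1 e).symm
  exact ⟨ha, by rwa [ha, zero_add] at h1⟩

theorem exists_trace_one : ∃ x : K, x + x ^ q = 1 := by
  obtain ⟨θ, hθ⟩ : ∃ θ : K, θ + θ ^ q ≠ 0 := by
    by_contra hc
    push Not at hc
    exact one_ne_zero (h.form_zero (a := (1 : K)) (b := 1) fun u => by rw [one_mul, one_mul, hc]).1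
  have hd : (θ + θ ^ q) ^ q = θ + θ ^ q := by rw [h.add, h.conj_conj, add_comm]
  exact ⟨θ / (θ + θ ^ q), by rw [div_pow, hd, ← add_div, div_self hθ]⟩

end QField

/-- A scalar moving the character of `K` to one nontrivial at `1`. -/
noncomputable def theta (K : Type*) [Field K] [Fintype K] [DecidableEq K] : K :=
  (MinDegE.exists_chi_ne (one_ne_zero (α := K))).choose

/-- A character of `K` nontrivial at `1`. -/
noncomputable def chr (K : Type*) [Field K] [Fintype K] [DecidableEq K] : AddChar K ℂ :=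
  (chi K).compAddMonoidHom (AddMonoidHom.mulLeft (theta K))

theorem chr_one_ne : chr K 1 ≠ 1 := by
  show chi K (theta K * 1) ≠ 1
  have h := (MinDegE.exists_chi_ne (one_ne_zero (α := K))).choose_spec
  rw [mul_one]
  simpa [theta] using h

namespace QField

variable {q : ℕ} (h : QField K q)

include h

theorem sum_chr {a : K} (ha : a ∈ fixK K q) :
    ∑ t ∈ fixK K q, chr K (a * t) = if a = 0 then (q : ℂ) else 0 := by
  split_ifs with h0
  · simp [h0, h.card_fixK]
  · have hmem : a⁻¹ ∈ fixK K q := h.inv_mem ha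
    have key : ∑ t ∈ fixK K q, chr K (a * t) = chr K 1 * ∑ t ∈ fixK K q, chr K (a * t) := by
      rw [Finset.mul_sum]
      refine Finset.sum_nbij' (i := fun t => t - a⁻¹) (j := fun t => t + a⁻¹) ?_ ?_ ?_ ?_ ?_
      · intro t ht; rw [sub_eq_add_neg]; exact h.add_mem ht (h.neg_mem hmem)
      · intro t ht; exact h.add_mem ht hmem
      · intro t _; exact sub_add_cancel t _
      · intro t _; exact add_sub_cancel_right t _
      · intro t _
        rw [← AddChar.map_add_eq_mul, mul_sub, mul_inv_cancel₀ h0, add_sub_cancel]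
    have h1 : (chr K 1 - 1) * ∑ t ∈ fixK K q, chr K (a * t) = 0 := by linear_combination -key
    exact (mul_eq_zero.1 h1).resolve_left (sub_ne_zero.2 chr_one_ne)

theorem sum_chr_nonzero {a : K} (ha : a ∈ fixK K q) (h0 : a ≠ 0) :
    ∑ t ∈ (fixK K q).filter (fun t => t ≠ 0), chr K (a * t) = -1 := by
  have h1 := h.sum_chr ha
  rw [if_neg h0, ← Finset.add_sum_erase _ _ h.zero_mem, mul_zero, AddChar.map_zero_eq_one] at h1
  rw [Finset.filter_ne']
  linear_combination h1

/-- The Gauss sum of the norm form. -/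
theorem gauss {c : K} (hc : c ∈ fixK K q) (h0 : c ≠ 0) :
    ∑ a : K, chr K (c * (a ^ q * a)) = -(q : ℂ) := by
  classical
  have hq := h.hq
  have hN : ∀ a : K, a ^ q * a ∈ fixK K q := fun a => mem_fixK.2 (by rw [mul_pow, h.conj_conj, mul_comm])
  set S := (Finset.univ : Finset K).filter fun a => a ≠ 0 with hS
  set T := (fixK K q).filter fun v => v ≠ 0 with hT
  have hmap : ∀ a ∈ S, a ^ q * a ∈ T := fun a ha => Finset.mem_filter.2 ⟨hN a,
    mul_ne_zero (pow_ne_zero _ (Finset.mem_filter.1 ha).2) (Finset.mem_filter.1 ha).2⟩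
  have hle : ∀ v ∈ T, (S.filter fun a => a ^ q * a = v).card ≤ q + 1 := by
    intro v _
    refine (Finset.card_le_card (t := (Polynomial.X ^ (q + 1) - Polynomial.C v).roots.toFinset) ?_).trans
      ((Multiset.toFinset_card_le _).trans ((Polynomial.card_roots' _).trans (le_of_eq
        (Polynomial.natDegree_X_pow_sub_C))))
    intro a ha
    rw [Multiset.mem_toFinset, Polynomial.mem_roots (Polynomial.X_pow_sub_C_ne_zero (by omega) v)]
    simp [pow_succ, (Finset.mem_filter.1 ha).2]
  have hTc : T.card = q - 1 := by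
    rw [hT, Finset.filter_ne', Finset.card_erase_of_mem h.zero_mem, h.card_fixK]
  have hSc : S.card = q * q - 1 := by
    rw [hS, Finset.filter_ne', Finset.card_erase_of_mem (Finset.mem_univ _), Finset.card_univ, h.card]
  have heq : ∀ v ∈ T, (S.filter fun a => a ^ q * a = v).card = q + 1 := by
    have h1 := Finset.card_eq_sum_card_fiberwise (s := S) (t := T) (f := fun a => a ^ q * a) hmap
    intro v hv
    refine le_antisymm (hle v hv) (not_lt.1 fun hlt => ?_)
    have h2 : ∑ w ∈ T, (S.filter fun a => a ^ q * a = w).card < ∑ _w ∈ T, (q + 1) :=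
      Finset.sum_lt_sum hle ⟨v, hv, hlt⟩
    rw [← h1, Finset.sum_const, hTc, hSc, smul_eq_mul] at h2
    obtain ⟨r, rfl⟩ : ∃ r, q = r + 1 := ⟨q - 1, by omega⟩
    simp only [add_tsub_cancel_right] at h2
    have : (r + 1) * (r + 1) = r * (r + 1 + 1) + 1 := by ring
    omega
  rw [← Finset.add_sum_erase _ _ (Finset.mem_univ (0 : K)), mul_zero, mul_zero, AddChar.map_zero_eq_one,
    show (Finset.univ : Finset K).erase 0 = S from (Finset.filter_ne' _ _).symm,
    ← Finset.sum_fiberwise_of_maps_to hmap fun a => chr K (c * (a ^ q * a)),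
    Finset.sum_congr rfl fun v hv => Finset.sum_congr rfl fun a ha => by
      rw [(Finset.mem_filter.1 ha).2],
    Finset.sum_congr rfl fun v hv => by rw [Finset.sum_const, heq v hv, nsmul_eq_mul],
    ← Finset.mul_sum, h.sum_chr_nonzero hc h0]
  push_cast
  ring

end QField

end CfsgLib.MinDeg2E6
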