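import Cfsg.Agent.Lib.MinDeg2E6.Pol

set_option autoImplicit false
set_option linter.unusedSectionVars false

/-!
The trace of a long root element of the Levi subgroup on an eigenspace of multiplicity one.
-/

namespace CfsgLib.MinDeg2E6

open Cfsg.Lie CfsgLib.ChevStr CfsgLib.Twisted CfsgLib.MinDegE
open scoped MatrixGroups

/-- The roots of the computation. -/
theorem gauss_roots :
    (rootsOf polB (8 : Fin 10) = 50 ∧ rootsOf polA (9 : Fin 10) = 68) ∧
    (e6Sym.root 38 = 57 ∧ e6Sym.sign 38 = -1 ∧ orbOK 38 = true) ∧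
    (e6Sym.root 41 = 58 ∧ e6Sym.sign 41 = 1 ∧ orbOK 41 = true) ∧
    (e6Sym.root 50 = 48 ∧ e6Sym.sign 50 = 1 ∧ orbOK 50 = true) ∧
    (e6Sym.root 60 = 60 ∧ e6Sym.sign 60 = 1 ∧ orbOK 60 = true) ∧
    (e6Sym.root 68 = 66 ∧ e6Sym.sign 68 = 1 ∧ orbOK 68 = true) := by decide +kernel

/-- The commutation relations of the computation. -/
theorem gauss_pairs :
    (pairTerm chevE6 38 58 = some (some (60, 1)) ∧ pairTerm chevE6 57 41 = some (some (60, -1)) ∧
      commPair chevE6 38 60 = true ∧ commPair chevE6 57 60 = true ∧ commPair chevE6 38 41 = true ∧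
      commPair chevE6 57 58 = true ∧ commPair chevE6 41 60 = true ∧ commPair chevE6 58 60 = true) ∧
    (pairTerm chevE6 48 60 = some (some (66, 1)) ∧ pairTerm chevE6 50 60 = some (some (68, 1)) ∧
      pairTerm chevE6 50 66 = some (some (71, 1)) ∧ commPair chevE6 48 66 = true ∧
      commPair chevE6 50 68 = true ∧ commPair chevE6 50 71 = true) ∧
    (commPair chevE6 38 71 = true ∧ commPair chevE6 57 71 = true ∧ commPair chevE6 41 71 = true ∧
      commPair chevE6 58 71 = true ∧ commPair chevE6 60 71 = true) := by decide +kernel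

theorem gauss_free : ∀ i : Fin 10, i.val < 6 → commPair chevE6 (rootsOf polB i) 60 = true := by
  decide +kernel

theorem pol_ops : gA.ok polPA = true ∧ dA.ok polPA = true ∧ eA.ok polPA = true ∧
    opCheck polA 60 gA = true ∧ opCheck polA 38 dA = true ∧ opCheck polA 41 eA = true := by
  have h := pol_ok
  simp only [Bool.and_eq_true] at h
  obtain ⟨⟨⟨⟨⟨⟨⟨-, h1⟩, h2⟩, h3⟩, h4⟩, h5⟩, h6⟩, -⟩ := h
  exact ⟨h1, h2, h3, h4, h5, h6⟩

theorem gA_codes : gA.fx = true ∧ gA.a 0 = some (6, -1) ∧ gA.a 1 = some (7, -1) ∧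
    (∀ i : Fin 10, i ≠ 0 → i ≠ 1 → gA.a i = none) := by decide +kernel

theorem gauss_orbits : (([0, 1, 2, 4] : List (Fin 10)).flatMap polPB.orb ++ [6, 7]).Nodup ∧
    (([0, 1, 2, 4] : List (Fin 10)).flatMap polPB.orb).length = 6 ∧
    (∀ j : Fin 10, j ∈ ([0, 1, 2, 4] : List (Fin 10)).flatMap polPB.orb ++ [6, 7] ∨ j = 8 ∨
      j = polPB.sig 8) ∧
    (8 : Fin 10) ∉ ([0, 1, 2, 4] : List (Fin 10)).flatMap polPB.orb ++ [6, 7] ∧
    polPB.sig 8 ∉ ([0, 1, 2, 4] : List (Fin 10)).flatMap polPB.orb ++ [6, 7] ∧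
    polPB.sig 8 ≠ 8 ∧
    (∀ i ∈ ([0, 1, 2, 4] : List (Fin 10)), (8 : Fin 10) ≠ i ∧ (8 : Fin 10) ≠ polPB.sig i) ∧
    (∀ j : Fin 10, j ∈ ([0, 1, 2, 4] : List (Fin 10)).flatMap polPB.orb → j.val < 6) ∧
    (∀ i : Fin 10, ¬ i.val < 6 → i = 6 ∨ i = 7 ∨ i = 8 ∨ i = polPB.sig 8) ∧
    ((6 : Fin 10) ≠ 8 ∧ (6 : Fin 10) ≠ polPB.sig 8 ∧ (7 : Fin 10) ≠ 8 ∧ (7 : Fin 10) ≠ polPB.sig 8) := by
  decide +kernel

variable {K : Type*} [Field K] [Fintype K] [DecidableEq K] {p n : ℕ} [ExpChar K p]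
  (hn : Fintype.card K = (p ^ n) * (p ^ n)) (hq : 2 ≤ p ^ n)
variable {V : Type*} [AddCommGroup V] [Module ℂ V]

include hn hq

theorem el_mem_alphaCent {r : ℕ} (hr : orbOK r = true) (h1 : commPair chevE6 r 71 = true)
    (h2 : commPair chevE6 (e6Sym.root r) 71 = true) {u : K} (hu : e6Sym.root r = r → u ^ p ^ n = u) :
    (el K (p ^ n) r u : GL chevE6.Idx K) ∈ alphaCent K := by
  rw [coe_el hn hq hr hu, orbGL]
  split_ifs
  · exact xGL_mem_alphaCent h1 u
  · exact mul_mem (xGL_mem_alphaCent h1 u) (xGL_mem_alphaCent h2 _)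

variable (ρ : Representation ℂ ↥(twistedE6 K (p ^ n)) V)

/-- An orbit element of the Levi subgroup acts on the first half through its tables. -/
theorem polA_act {b : K} (hb : b ∈ fixK K (p ^ n)) {s : ℕ} {O : Op 10} (hc : opCheck polA s O = true)
    (hO : O.ok polPA = true) (h1 : commPair chevE6 s 71 = true)
    (h2 : commPair chevE6 (e6Sym.root s) 71 = true) {u : K} (hu : O.Par (p ^ n) u) :
    (aFam hn hq ρ hb).Act (ρ (el K (p ^ n) s u)) (O.dl (p ^ n) u) (O.mv (p ^ n) u) := by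
  obtain ⟨hs, hfx, -⟩ := opCheck_spec hc
  refine RSys.fam_act (polA_onImage hn hq ρ hb) hO hu
    (el_twist hn hq (S := aSys K) rfl polPA_ok.1 hc hO (fun _ => trivial) (fun _ => trivial) hu)
    (commute_eb hn hq ρ (el_mem_alphaCent hn hq hs h1 h2 fun e => mem_fixK.1 (hu (hfx.2 e))) b)

theorem mask_commute {z : Fin 10 → K} (hz : ∀ i : Fin 10, ¬ i.val < 6 → z i = 0) {y : GL chevE6.Idx K}
    (hy : (bSys K).Rep y z) (t : K) : Commute y ((coreE6 K).xGL 60 t) := by
  have key : ∀ v : Fin 10 → K, ∀ a : GL chevE6.Idx K,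
      (bSys K).Rep a (fun i => if i.val < 6 then v i else 0) → Commute a ((coreE6 K).xGL 60 t) := by
    intro v
    induction v using Fam.pi_induction with
    | h0 =>
      intro a ha
      rw [show (fun i : Fin 10 => if i.val < 6 then (0 : Fin 10 → K) i else 0) = 0 by
        funext i; simp] at ha
      rw [exSys_zero ha]
      exact Commute.one_left _
    | hadd v w hv hw =>
      intro a ha
      obtain ⟨c, hc⟩ := exSys_exists (h := polB_comm) (hN := polB_length)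
        (fun i : Fin 10 => if i.val < 6 then v i else 0)
      obtain ⟨d, hd⟩ := exSys_exists (h := polB_comm) (hN := polB_length)
        (fun i : Fin 10 => if i.val < 6 then w i else 0)
      have hcd := hc.mul hd
      rw [show (fun i : Fin 10 => if i.val < 6 then v i else 0) +
          (fun i : Fin 10 => if i.val < 6 then w i else 0) =
          fun i : Fin 10 => if i.val < 6 then (v + w) i else 0 by
        funext i; simp only [Pi.add_apply]; split_ifs <;> simp] at hcd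
      rw [exSys_unique ha hcd]
      exact (hv c hc).mul_left (hw d hd)
    | h1 i u =>
      intro a ha
      by_cases hi : i.val < 6
      · rw [show (fun j : Fin 10 => if j.val < 6 then (Pi.single i u : Fin 10 → K) j else 0) =
            Pi.single i u by
          funext j
          rcases eq_or_ne j i with rfl | hj
          · simp [hi]
          · simp [hj]] at ha
        rw [exSys_unique ha (RSys.rep_single i u)]
        exact xg_gl (commute_of_pair (coreE6 K) (gauss_free i hi) u t)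
      · rw [show (fun j : Fin 10 => if j.val < 6 then (Pi.single i u : Fin 10 → K) j else 0) = 0 by
          funext j
          rcases eq_or_ne j i with rfl | hj
          · simp [hi]
          · simp [hj]] at ha
        rw [exSys_zero ha]
        exact Commute.one_left _
  refine key z y ?_
  rwa [show (fun i : Fin 10 => if i.val < 6 then z i else 0) = z by
    funext i; split_ifs with hi <;> simp [hz i, hi]]

/-- A long root element of the Levi subgroup is a commutator of two orbit elements of it. -/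
theorem comm60 {t x : K} (ht : t ∈ fixK K (p ^ n)) (hx : x + x ^ p ^ n = 1) :
    el K (p ^ n) 60 t * (el K (p ^ n) 41 1 * el K (p ^ n) 38 (t * x)) =
      el K (p ^ n) 38 (t * x) * el K (p ^ n) 41 1 := by
  obtain ⟨-, ⟨r38, s38, o38⟩, ⟨r41, s41, o41⟩, -, ⟨r60, -, o60⟩, -⟩ := gauss_roots
  obtain ⟨⟨p1, p2, c1, c2, c3, c4, c5, c6⟩, -, -⟩ := gauss_pairs
  refine Subtype.ext ?_
  have e38 : ∀ {u : K}, e6Sym.root 38 = 38 → u ^ p ^ n = u := fun e => by rw [r38] at e; cases e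
  rw [Subgroup.coe_mul, Subgroup.coe_mul, Subgroup.coe_mul, coe_el hn hq o60 fun _ => mem_fixK.1 ht,
    coe_el hn hq o41 fun _ => one_pow _, coe_el hn hq o38 e38, orbGL, orbGL, orbGL, if_pos r60,
    if_neg (by rw [r41]; decide), if_neg (by rw [r38]; decide), r41, s41, r38, s38, one_pow,
    Int.cast_one, one_mul, Int.cast_neg, Int.cast_one, neg_one_mul, mul_pow, mem_fixK.1 ht]
  set C := coreE6 K
  set u := t * x
  set v := t * x ^ p ^ n
  have huv : u + v = t := by rw [← mul_add, hx, mul_one]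
  have h2 : C.xGL 57 (-v) * C.xGL 41 1 = C.xGL 41 1 * C.xGL 60 v * C.xGL 57 (-v) := by
    have := congrArg Subtype.val (shift_of_pair C p2 c2 (-v) (1 : K))
    simpa [xg] using this
  have h1 : C.xGL 38 u * C.xGL 58 1 = C.xGL 58 1 * C.xGL 60 u * C.xGL 38 u := by
    have := congrArg Subtype.val (shift_of_pair C p1 c1 u (1 : K))
    simpa [xg] using this
  have k1 : Commute (C.xGL 38 u) (C.xGL 41 1) := xg_gl (commute_of_pair C c3 u 1)
  have k2 : Commute (C.xGL 57 (-v)) (C.xGL 58 1) := xg_gl (commute_of_pair C c4 (-v) 1)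
  have k3 : Commute (C.xGL 38 u) (C.xGL 60 v) := xg_gl (commute_of_pair C c1 u v)
  have k4 : ∀ z, Commute (C.xGL 41 1) (C.xGL 60 z) := fun z => xg_gl (commute_of_pair C c5 1 z)
  have k5 : ∀ z, Commute (C.xGL 58 1) (C.xGL 60 z) := fun z => xg_gl (commute_of_pair C c6 1 z)
  calc C.xGL 60 t * (C.xGL 41 1 * C.xGL 58 1 * (C.xGL 38 u * C.xGL 57 (-v)))
      = C.xGL 41 1 * C.xGL 60 v * C.xGL 58 1 * C.xGL 60 u * C.xGL 38 u * C.xGL 57 (-v) := by
        rw [← huv, add_comm u v, C.xGL_add]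
        rw [(k4 v).eq, mul_assoc (C.xGL 60 v * C.xGL 41 1) (C.xGL 58 1) (C.xGL 60 u), (k5 u).eq]
        simp only [mul_assoc]
        rw [← mul_assoc (C.xGL 60 u) (C.xGL 41 1), ← (k4 u).eq]
        simp only [mul_assoc]
    _ = C.xGL 41 1 * C.xGL 60 v * (C.xGL 38 u * C.xGL 58 1) * C.xGL 57 (-v) := by
        rw [h1]; simp only [mul_assoc]
    _ = C.xGL 38 u * (C.xGL 41 1 * C.xGL 60 v * C.xGL 57 (-v)) * C.xGL 58 1 := by
        simp only [mul_assoc]
        rw [k2.eq, ← mul_assoc (C.xGL 60 v), ← k3.eq]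
        simp only [mul_assoc]
        rw [← mul_assoc (C.xGL 41 1) (C.xGL 38 u), ← k1.eq]
        simp only [mul_assoc]
    _ = _ := by rw [← h2]; simp only [mul_assoc]

/-- The crossing orbit moves a long root element into the first half and the centre. -/
theorem conj60 {t : K} (ht : t ∈ fixK K (p ^ n)) (w : K) :
    el K (p ^ n) 50 w * el K (p ^ n) 60 t * (el K (p ^ n) 50 w)⁻¹ =
      el K (p ^ n) 60 t * el K (p ^ n) 68 (w * t) * el K (p ^ n) 71 (w * (w ^ p ^ n * t)) := by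
  obtain ⟨-, -, -, ⟨r50, s50, o50⟩, ⟨r60, -, o60⟩, ⟨r68, s68, o68⟩⟩ := gauss_roots
  obtain ⟨-, ⟨p1, p2, p3, c1, c2, c3⟩, -⟩ := gauss_pairs
  have hqf := QField.of_expChar hn hq
  have hz : w * (w ^ p ^ n * t) ∈ fixK K (p ^ n) := mem_fixK.2 (by
    rw [mul_pow, mul_pow, hqf.conj_conj, mem_fixK.1 ht]; ring)
  rw [mul_inv_eq_iff_eq_mul]
  refine Subtype.ext ?_
  simp only [Subgroup.coe_mul]
  rw [coe_el hn hq o50 (fun e => by rw [r50] at e; cases e), coe_el hn hq o60 (fun _ => mem_fixK.1 ht),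
    coe_el hn hq o68 (fun e => by rw [r68] at e; cases e), coe_el71 hn hq hz, orbGL, orbGL, orbGL,
    if_pos r60, if_neg (by rw [r50]; decide), if_neg (by rw [r68]; decide), r50, s50, r68, s68,
    Int.cast_one, one_mul, one_mul, mul_pow, mem_fixK.1 ht]
  set C := coreE6 K
  set v := w ^ p ^ n
  have h1 : C.xGL 48 v * C.xGL 60 t = C.xGL 60 t * C.xGL 66 (v * t) * C.xGL 48 v := by
    have := congrArg Subtype.val (shift_of_pair C p1 c1 v t)
    simpa [xg] using this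
  have h2 : C.xGL 50 w * C.xGL 60 t = C.xGL 60 t * C.xGL 68 (w * t) * C.xGL 50 w := by
    have := congrArg Subtype.val (shift_of_pair C p2 c2 w t)
    simpa [xg] using this
  have h3 : C.xGL 50 w * C.xGL 66 (v * t) =
      C.xGL 66 (v * t) * C.xGL 71 (w * (v * t)) * C.xGL 50 w := by
    have := congrArg Subtype.val (shift_of_pair C p3 c3 w (v * t))
    simpa [xg] using this
  calc C.xGL 50 w * C.xGL 48 v * C.xGL 60 t
      = (C.xGL 50 w * C.xGL 60 t) * C.xGL 66 (v * t) * C.xGL 48 v := by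
        rw [mul_assoc, h1]; simp only [mul_assoc]
    _ = C.xGL 60 t * C.xGL 68 (w * t) * (C.xGL 50 w * C.xGL 66 (v * t)) * C.xGL 48 v := by
        rw [h2]; simp only [mul_assoc]
    _ = _ := by rw [h3]; simp only [mul_assoc]

theorem trace_conjugate (g y : ↥(twistedE6 K (p ^ n))) (P : Module.End ℂ V) :
    LinearMap.trace ℂ V (ρ g * (ρ y⁻¹ * P * ρ y)) = LinearMap.trace ℂ V (ρ (y * g * y⁻¹) * P) := by
  rw [← mul_assoc, ← mul_assoc, ← map_mul, LinearMap.trace_mul_comm, ← mul_assoc, ← map_mul, ← mul_assoc]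

variable [FiniteDimensional ℂ V]

/-- On the zero eigenspace of the first half a long root element is trivial. -/
theorem g60_pr0 {b : K} (hb : b ∈ fixK K (p ^ n)) (h1 : (aFam hn hq ρ hb).dimPr 0 = 1) {t : K}
    (ht : t ∈ fixK K (p ^ n)) :
    ρ (el K (p ^ n) 60 t) * (aFam hn hq ρ hb).pr 0 = (aFam hn hq ρ hb).pr 0 := by
  obtain ⟨x, hx⟩ := (QField.of_expChar hn hq).exists_trace_one
  obtain ⟨-, o2, o3, -, c2, c3⟩ := pol_ops
  obtain ⟨-, ⟨r38, -, -⟩, ⟨r41, -, -⟩, -⟩ := gauss_roots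
  obtain ⟨-, -, ⟨d1, d2, d3, d4, -⟩⟩ := gauss_pairs
  have hd : ∀ u : K, dA.Par (p ^ n) u := fun u h => absurd h (by decide)
  have he : ∀ u : K, eA.Par (p ^ n) u := fun u h => absurd h (by decide)
  have ha := polA_act hn hq ρ hb c2 o2 d1 (by rw [r38]; exact d2) (hd (t * x))
  have hb' := polA_act hn hq ρ hb c3 o3 d3 (by rw [r41]; exact d4) (he 1)
  exact ((aFam hn hq ρ hb).trace_commutator (Pat.zero_mem polPA_ok.1 (QField.of_expChar hn hq)) h1
    (ha.commute_pr (by rw [Op.mv, Table.move_zero, Table.move_zero]))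
    (hb'.commute_pr (by rw [Op.mv, Table.move_zero, Table.move_zero])) (comm60 hn hq ht hx)).1

/-- The trace of a long root element on a translate of the zero eigenspace. -/
theorem trace60_shift {b : K} (hb : b ∈ fixK K (p ^ n)) (h1 : (aFam hn hq ρ hb).dimPr 0 = 1) {t : K}
    (ht : t ∈ fixK K (p ^ n)) {v : Fin 10 → K} (hv : v ∈ polPB.W (p ^ n) K) (h6 : v 6 = 0)
    (h7 : v 7 = 0) :
    LinearMap.trace ℂ V (ρ (el K (p ^ n) 60 t) * (aFam hn hq ρ hb).pr (shift b v)) =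
      chr K (b * t * ((v 8) ^ (p ^ n) * v 8)) := by
  have hK := QField.of_expChar hn hq
  obtain ⟨⟨hR8, hR9⟩, -, -, -, ⟨r60, -, o60⟩, -⟩ := gauss_roots
  obtain ⟨-, -, -, -, -, hs8, -, -, hcase, h68, h68', h78, h78'⟩ := gauss_orbits
  set w := v 8 with hw
  set u := Pat.uvec polPB (p ^ n) 8 w with hu
  have huW : u ∈ polPB.W (p ^ n) K := Pat.uvec_mem polPA_ok.2 hK fun e => absurd e hs8
  have hzW : v - u ∈ polPB.W (p ^ n) K := Pat.sub_mem polPA_ok.2 hK hv huW
  have hz : ∀ i : Fin 10, ¬ i.val < 6 → (v - u) i = 0 := fun i hi => by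
    have h8 : (v - u) 8 = 0 := by rw [Pi.sub_apply, hu, Pat.uvec_self polPA_ok.2 hK, sub_self]
    rcases hcase i hi with rfl | rfl | rfl | rfl
    · rw [Pi.sub_apply, h6, hu, Pat.uvec_other polPA_ok.2 hK _ h68 h68', sub_zero]
    · rw [Pi.sub_apply, h7, hu, Pat.uvec_other polPA_ok.2 hK _ h78 h78', sub_zero]
    · exact h8
    · rw [Pat.apply_sig polPA_ok.2 hzW, h8, hK.zero_pow, mul_zero]
  obtain ⟨z, hzrep, -⟩ := (polB_onImage hn hq ρ).exists_rep hzW
  have hy : (bSys K).Rep (el K (p ^ n) 50 w : GL chevE6.Idx K) u := by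
    have := el_rep hn hq (S := bSys K) polB_pat 8 (a := w) fun e => absurd e hs8
    rwa [show (bSys K).R 8 = 50 from hR8] at this
  have hyz : (bSys K).Rep ((el K (p ^ n) 50 w * z : ↥(twistedE6 K (p ^ n))) : GL chevE6.Idx K) v := by
    have := hy.mul hzrep
    rwa [add_sub_cancel] at this
  have hcomm : z * el K (p ^ n) 60 t * z⁻¹ = el K (p ^ n) 60 t := by
    rw [mul_inv_eq_iff_eq_mul]
    refine Subtype.ext ?_
    simp only [Subgroup.coe_mul, coe_el hn hq o60 fun _ => mem_fixK.1 ht, orbGL, if_pos r60]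
    exact (mask_commute hn hq hz hzrep t).eq
  set y := el K (p ^ n) 50 w
  have hpr : (aFam hn hq ρ hb).pr (shift b v) = ρ (y * z)⁻¹ * (aFam hn hq ρ hb).pr 0 * ρ (y * z) := by
    rw [pr_shift hn hq ρ hb hv, bFam, RSys.fam_T _ hyz, RSys.fam_T _ (h := (y * z)⁻¹) hyz.inv, mul_one,
      mul_one]
  rw [hpr, trace_conjugate hn hq, show y * z * el K (p ^ n) 60 t * (y * z)⁻¹ =
    y * (z * el K (p ^ n) 60 t * z⁻¹) * y⁻¹ by group, hcomm, conj60 hn hq ht w]
  have hzm : w * (w ^ p ^ n * t) ∈ fixK K (p ^ n) := mem_fixK.2 (by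
    rw [mul_pow, mul_pow, hK.conj_conj, mem_fixK.1 ht]; ring)
  have hrep9 : (aSys K).Rep (el K (p ^ n) 68 (w * t) : GL chevE6.Idx K)
      (Pat.uvec polPA (p ^ n) 9 (w * t)) := by
    have := el_rep hn hq (S := aSys K) polA_pat 9 (a := w * t) fun e => absurd e (by decide)
    rwa [show (aSys K).R 9 = 68 from hR9] at this
  have h9 : Pat.uvec polPA (p ^ n) 9 (w * t) ∈ polPA.W (p ^ n) K :=
    Pat.uvec_mem polPA_ok.1 hK fun e => absurd e (by decide)
  have key : ρ (el K (p ^ n) 68 (w * t)) * (aFam hn hq ρ hb).pr 0 = (aFam hn hq ρ hb).pr 0 := by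
    have h2 := (aFam hn hq ρ hb).T_mul_pr (v := Pat.uvec polPA (p ^ n) 9 (w * t)) h9 0
    rw [zero_dotProduct, AddChar.map_zero_eq_one, one_smul, aFam, RSys.fam_T _ hrep9, mul_assoc] at h2
    have h3 := (aFam hn hq ρ hb).E_mul_pr 0
    rw [show (aFam hn hq ρ hb).E = eb hn hq ρ b from rfl] at h3
    rwa [← aFam, h3] at h2
  have key2 : ρ (el K (p ^ n) 71 (w * (w ^ p ^ n * t))) * (aFam hn hq ρ hb).pr 0 =
      chr K (b * t * (w ^ p ^ n * w)) • (aFam hn hq ρ hb).pr 0 := by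
    conv_lhs => rw [← (aFam hn hq ρ hb).E_mul_pr 0, ← mul_assoc,
      show (aFam hn hq ρ hb).E = eb hn hq ρ b from rfl, rho_alpha_eb hn hq ρ hzm, smul_mul_assoc,
      show eb hn hq ρ b = (aFam hn hq ρ hb).E from rfl, (aFam hn hq ρ hb).E_mul_pr 0,
      show b * (w * (w ^ p ^ n * t)) = b * t * (w ^ p ^ n * w) by ring]
  rw [map_mul ρ, map_mul ρ, mul_assoc _ _ ((aFam hn hq ρ hb).pr 0), key2, mul_smul_comm, map_smul,
    mul_assoc _ _ ((aFam hn hq ρ hb).pr 0), key,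
    g60_pr0 hn hq ρ hb h1 ht, (aFam hn hq ρ hb).trace_pr (Pat.zero_mem polPA_ok.1 hK), h1,
    Nat.cast_one, smul_eq_mul, mul_one]

/-- The trace of a long root element of the Levi subgroup on an eigenspace of multiplicity one. -/
theorem trace60_eb {b : K} (hb : b ∈ fixK K (p ^ n)) (hb0 : b ≠ 0)
    (h1 : (aFam hn hq ρ hb).dimPr 0 = 1) {t : K} (ht : t ∈ fixK K (p ^ n)) (ht0 : t ≠ 0) :
    LinearMap.trace ℂ V (ρ (el K (p ^ n) 60 t) * eb hn hq ρ b) = -((p ^ n : ℕ) : ℂ) ^ 7 := by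
  have hK := QField.of_expChar hn hq
  obtain ⟨o1, -, -, c1, -, -⟩ := pol_ops
  obtain ⟨hfx, a0, a1, arest⟩ := gA_codes
  obtain ⟨hnd, hlen, hall, ho1, ho2, hs8, h8i, -⟩ := gauss_orbits
  have hpar : ∀ {u : K}, u ∈ fixK K (p ^ n) → gA.Par (p ^ n) u := fun h _ => h
  have hact := polA_act hn hq ρ hb c1 o1 gauss_pairs.2.2.2.2.2.2
    (by rw [gauss_roots.2.2.2.2.1.1]; exact gauss_pairs.2.2.2.2.2.2) (hpar ht)
  have hmove : ∀ (ψ : Fin 10 → K), gA.mv (p ^ n) (-t) ψ = gA.a.move (-t) ψ := fun ψ => by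
    rw [Op.mv, Op.b_move polPA_ok.1 hK o1 hfx]
  have hzero : ∀ ψ ∈ (aFam hn hq ρ hb).W, ¬ (ψ 6 = 0 ∧ ψ 7 = 0) →
      LinearMap.trace ℂ V (ρ (el K (p ^ n) 60 t) * (aFam hn hq ρ hb).pr ψ) = 0 := by
    intro ψ hψ hne
    rw [← Op.mv_neg' polPA_ok.1 hK o1 t ψ]
    refine hact.trace_moved (Op.mv_mem polPA_ok.1 hK o1 (Op.par_neg polPA_ok.1 hK o1 (hpar ht)) hψ) ?_
    rw [Op.mv_neg' polPA_ok.1 hK o1, hmove]
    intro e
    refine hne ⟨?_, ?_⟩
    · have h2 := congrFun e 0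
      rw [Table.move_some a0] at h2
      simpa [ht0] using h2
    · have h2 := congrFun e 1
      rw [Table.move_some a1] at h2
      simpa [ht0] using h2
  rw [show eb hn hq ρ b = (aFam hn hq ρ hb).E from rfl, ← (aFam hn hq ρ hb).sum_pr, Finset.mul_sum,
    map_sum, ← Finset.sum_filter_of_ne (p := fun ψ : Fin 10 → K => ψ 6 = 0 ∧ ψ 7 = 0) fun ψ hψ h => by
      by_contra hne; exact h (hzero ψ hψ hne)]
  have hsum : ∑ ψ ∈ ((aFam hn hq ρ hb).W).filter (fun ψ => ψ 6 = 0 ∧ ψ 7 = 0),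
      LinearMap.trace ℂ V (ρ (el K (p ^ n) 60 t) * (aFam hn hq ρ hb).pr ψ) =
      ∑ v ∈ (polPB.W (p ^ n) K).filter (fun v => ∀ j ∈ ([6, 7] : List (Fin 10)), v j = 0),
        chr K (b * t * ((v 8) ^ (p ^ n) * v 8)) := by
    symm
    refine Finset.sum_bij (fun v _ => shift b v) (fun v hv => ?_) (fun v _ w _ e => ?_) (fun ψ hψ => ?_)
      fun v hv => ?_
    · obtain ⟨hv, h0⟩ := Finset.mem_filter.1 hv
      rw [Finset.mem_filter, aFam_W]
      exact ⟨shift_mem hn hq hb hv, by simp [shift, h0 6 (by simp)], by simp [shift, h0 7 (by simp)]⟩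
    · funext i
      have h2 := mul_left_cancel₀ hb0 (congrFun e i)
      exact mul_left_cancel₀ (left_ne_zero_of_mul_eq_one (sgnP_sq i)) h2
    · obtain ⟨hψ, h6, h7⟩ := Finset.mem_filter.1 hψ
      obtain ⟨v, hv, rfl⟩ := shift_bij hn hq hb hb0 ψ (aFam_W hn hq ρ hb ▸ hψ)
      refine ⟨v, Finset.mem_filter.2 ⟨hv, fun j hj => ?_⟩, rfl⟩
      have hs : ∀ i : Fin 10, (sgnP i : K) ≠ 0 := fun i => left_ne_zero_of_mul_eq_one (sgnP_sq i)
      simp only [List.mem_cons, List.not_mem_nil, or_false] at hj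
      rcases hj with rfl | rfl
      · simpa [shift, hb0, hs] using h6
      · simpa [shift, hb0, hs] using h7
    · obtain ⟨hv, h0⟩ := Finset.mem_filter.1 hv
      exact (trace60_shift hn hq ρ hb h1 ht hv (h0 6 (by simp)) (h0 7 (by simp))).symm
  rw [hsum, Pat.sum_orbits polPA_ok.2 hK _ [0, 1, 2, 4] [6, 7] hnd (fun i hi v a => by
      rw [Pi.add_apply, Pat.uvec_other polPA_ok.2 hK _ (h8i i hi).1 (h8i i hi).2, add_zero]),
    Pat.sum_orbit_pair polPA_ok.2 hK (fun a => chr K (b * t * (a ^ (p ^ n) * a))) hs8 hall ⟨ho1, ho2⟩,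
    hK.gauss (hK.mul_mem hb ht) (mul_ne_zero hb0 ht0), hlen]
  ring

end CfsgLib.MinDeg2E6
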