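import Cfsg.Agent.Lib.MinDeg2E6.Setup

set_option autoImplicit false
set_option linter.unusedSectionVars false

/-!
The eigenspaces of the long root subgroup of ²E₆(q).
-/

namespace CfsgLib.MinDeg2E6

open Cfsg.Lie CfsgLib.ChevStr CfsgLib.Twisted CfsgLib.MinDegE
open scoped MatrixGroups

/-- The transports of the fixed roots from the highest one. -/
theorem long_steps : stepOK (nodeE6 1) 71 70 = true ∧ stepOK (nodeE6 3) 70 69 = true ∧
    stepOK (nodeE6 2) 69 65 = true ∧ stepOK (nodeE6 3) 65 63 = true ∧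
    stepOK (nodeE6 1) 63 60 = true ∧ stepOK (nodeE6 0) 65 53 = true ∧
    stepOK (nodeE6 3) 53 51 = true ∧ stepOK (nodeE6 1) 51 44 = true ∧
    stepOK (nodeE6 2) 51 47 = true ∧ stepOK (nodeE6 1) 47 39 = true ∧
    stepOK (nodeE6 3) 47 46 = true := by decide +kernel

variable {K : Type*} [Field K] [Fintype K] [DecidableEq K] {p n : ℕ} [ExpChar K p]
  (hn : Fintype.card K = (p ^ n) * (p ^ n)) (hq : 2 ≤ p ^ n)
variable {V : Type*} [AddCommGroup V] [Module ℂ V]
variable (ρ : Representation ℂ ↥(twistedE6 K (p ^ n)) V)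

/-- The pattern of the long root. -/
def alphaP : Pat 1 := mkPat [0] [1]

theorem alpha_pat : patCheck (rootsOf [71]) alphaP = true := by decide +kernel

theorem alpha_ok : alphaP.ok = true := by decide +kernel

theorem alpha_orb : orbOK 71 = true ∧ e6Sym.root 71 = 71 ∧ e6Sym.sign 71 = 1 ∧
    chevE6.cartan 1 71 = 1 ∧ (71 : ℕ) < chevE6.nroots := by decide +kernel

/-- The system of the long root. -/
noncomputable def alphaSys (K : Type*) [Field K] : RSys (coreE6 K) 1 :=
  exSys K [71] alpha_length alpha_comm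

include hn hq

theorem coe_el71 {t : K} (ht : t ∈ fixK K (p ^ n)) :
    (el K (p ^ n) 71 t : GL chevE6.Idx K) = (coreE6 K).xGL 71 t := by
  rw [coe_el hn hq alpha_orb.1 fun _ => mem_fixK.1 ht, orbGL, if_pos alpha_orb.2.1]

theorem alpha_onImage : (alphaSys K).OnImage alphaP (p ^ n) ρ 1 where
  ok := alpha_ok
  qf := QField.of_expChar hn hq
  idem := one_mul 1
  gen i a ha := ⟨el K (p ^ n) ((alphaSys K).R i) a, el_rep hn hq (S := alphaSys K) alpha_pat i ha,
    Commute.one_right _⟩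
  triv m hm := by
    have h1 : m = 1 := Subtype.ext (exSys_zero hm)
    rw [h1, map_one, mul_one]
    exact ⟨rfl, Commute.one_right _⟩

/-- The long root family on the whole space. -/
noncomputable def zFam : OFam ρ K (p ^ n) 1 := RSys.fam (alpha_onImage hn hq ρ)

/-- The eigenspace of a parameter of the long root. -/
noncomputable def eb (b : K) : Module.End ℂ V := (zFam hn hq ρ).pr fun _ => b

theorem const_mem {b : K} (hb : b ∈ fixK K (p ^ n)) :
    (fun _ : Fin 1 => b) ∈ (zFam hn hq ρ).W := by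
  have hv : ∀ i : Fin 1, alphaP.sig i = i ∧ alphaP.eps i = 1 := by decide
  refine Pat.mem_W.2 (funext fun i => ?_)
  show (alphaP.eps i : K) * b ^ (p ^ n) = b
  rw [(hv i).2, Int.cast_one, one_mul, mem_fixK.1 hb]

theorem eq_const {w : Fin 1 → K} : w = fun _ => w 0 := funext fun i => by rw [Subsingleton.elim i 0]

theorem mem_const {w : Fin 1 → K} (hw : w ∈ (zFam hn hq ρ).W) : w 0 ∈ fixK K (p ^ n) :=
  Pat.apply_fixed alpha_ok hw (by decide)

theorem zT {t : K} (ht : t ∈ fixK K (p ^ n)) :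
    (zFam hn hq ρ).T (fun _ => t) = ρ (el K (p ^ n) 71 t) := by
  have hrep : (alphaSys K).Rep (el K (p ^ n) 71 t : GL chevE6.Idx K) (fun _ => t) := by
    rw [coe_el71 hn hq ht]
    have h := RSys.rep_single (S := alphaSys K) 0 t
    rwa [show (Pi.single (0 : Fin 1) t : Fin 1 → K) = fun _ => t from
      funext fun i => by rw [Subsingleton.elim i 0, Pi.single_eq_same]] at h
  show (RSys.fam (alpha_onImage hn hq ρ)).T _ = _
  rw [RSys.fam_T _ hrep, mul_one]

theorem dot_const (a b : K) : (fun _ : Fin 1 => a) ⬝ᵥ (fun _ : Fin 1 => b) = a * b := by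
  simp [dotProduct]

/-- An element commuting with the long root subgroup commutes with its eigenspaces. -/
theorem commute_eb {h : ↥(twistedE6 K (p ^ n))} (hh : (h : GL chevE6.Idx K) ∈ alphaCent K) (b : K) :
    Commute (ρ h) (eb hn hq ρ b) := by
  refine (zFam hn hq ρ).commute_pr (fun w hw => ?_) _
  have hw0 := mem_const hn hq ρ hw
  rw [eq_const hn hq (w := w), zT hn hq ρ hw0]
  have hc := mem_alphaCent.1 hh (w 0)
  have e : el K (p ^ n) 71 (w 0) * h = h * el K (p ^ n) 71 (w 0) := Subtype.ext (by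
    simp only [Subgroup.coe_mul, coe_el71 hn hq hw0]
    exact hc.eq)
  show _ * _ = _ * _
  rw [← map_mul, ← map_mul, e]

theorem rho_alpha_eb {t b : K} (ht : t ∈ fixK K (p ^ n)) :
    ρ (el K (p ^ n) 71 t) * eb hn hq ρ b = chr K (b * t) • eb hn hq ρ b := by
  rw [← zT hn hq ρ ht, eb, (zFam hn hq ρ).T_mul_pr (const_mem hn hq ρ ht), dot_const hn hq]

theorem idem_eb {b : K} (hb : b ∈ fixK K (p ^ n)) : eb hn hq ρ b * eb hn hq ρ b = eb hn hq ρ b :=
  (zFam hn hq ρ).idem_pr (const_mem hn hq ρ hb)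

variable [FiniteDimensional ℂ V]

/-- The dimension of a nontrivial eigenspace. -/
noncomputable def dN : ℕ := (zFam hn hq ρ).dimPr fun _ => 1

theorem dimPr_eb {b : K} (hb : b ∈ fixK K (p ^ n)) (hb0 : b ≠ 0) :
    (zFam hn hq ρ).dimPr (fun _ => b) = dN hn hq ρ := by
  obtain ⟨h, hh⟩ := exists_scale hn hq (mem_fixK.1 hb) hb0
  have hqf := QField.of_expChar hn hq
  have hact : (zFam hn hq ρ).Act (ρ h) (fun w i => b * w i) (fun w i => b * w i) := by
    have hmap : ∀ w ∈ (zFam hn hq ρ).W, (fun i => b * w i) ∈ (zFam hn hq ρ).W := fun w hw => by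
      rw [eq_const hn hq (w := w)]
      exact const_mem hn hq ρ (hqf.mul_mem hb (mem_const hn hq ρ hw))
    refine ⟨hmap, fun v _ w _ e => funext fun i => mul_left_cancel₀ hb0 (congrFun e i), hmap,
      fun ψ w => ?_, fun w hw => ?_⟩
    · simp [dotProduct, mul_left_comm, mul_assoc]
    · have hw0 := mem_const hn hq ρ hw
      conv_lhs => rw [eq_const hn hq (w := w)]
      rw [show (fun i => b * w i) = fun _ : Fin 1 => b * w 0 from
        funext fun i => by rw [Subsingleton.elim i 0], zT hn hq ρ hw0, zT hn hq ρ (hqf.mul_mem hb hw0),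
        ← map_mul, ← map_mul]
      refine congrArg ρ (Subtype.ext ?_)
      have h1 := hh 71 alpha_orb.2.2.2.2 alpha_orb.2.2.2.1 (w 0)
      simp only [Subgroup.coe_mul, coe_el71 hn hq hw0, coe_el71 hn hq (hqf.mul_mem hb hw0)]
      rw [← h1, inv_mul_cancel_right]
  have h2 := hact.dimPr_move (const_mem hn hq ρ hqf.one_mem)
  simp only [mul_one] at h2
  exact h2

theorem trace_eb {b : K} (hb : b ∈ fixK K (p ^ n)) (hb0 : b ≠ 0) :
    LinearMap.trace ℂ V (eb hn hq ρ b) = (dN hn hq ρ : ℂ) := by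
  rw [eb, (zFam hn hq ρ).trace_pr (const_mem hn hq ρ hb), dimPr_eb hn hq ρ hb hb0]

theorem sum_alpha {M : Type*} [AddCommMonoid M] (f : (Fin 1 → K) → M) :
    ∑ ψ ∈ (zFam hn hq ρ).W, f ψ = f 0 +
      ∑ b ∈ (fixK K (p ^ n)).filter (fun b => b ≠ 0), f (fun _ => b) := by
  have hqf := QField.of_expChar hn hq
  rw [Finset.filter_ne', show f 0 = f (fun _ => (0 : K)) from rfl,
    Finset.add_sum_erase _ (fun b : K => f (fun _ => b)) hqf.zero_mem]
  refine Finset.sum_bij' (fun w _ => w 0) (fun b _ => fun _ => b) (fun w hw => mem_const hn hq ρ hw)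
    (fun b hb => const_mem hn hq ρ hb) (fun w _ => (eq_const hn hq (w := w)).symm) (fun b _ => rfl)
    fun w _ => ?_
  rw [← eq_const hn hq (w := w)]

theorem sum_eb : eb hn hq ρ 0 + ∑ b ∈ (fixK K (p ^ n)).filter (fun b => b ≠ 0), eb hn hq ρ b = 1 := by
  have h := (zFam hn hq ρ).sum_pr
  rw [sum_alpha hn hq ρ] at h
  exact h

theorem card_nz : (((fixK K (p ^ n)).filter fun b => b ≠ 0).card : ℂ) = ((p ^ n : ℕ) : ℂ) - 1 := by
  have hqf := QField.of_expChar hn hq
  rw [Finset.filter_ne', Finset.card_erase_of_mem hqf.zero_mem, hqf.card_fixK,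
    Nat.cast_sub (by omega), Nat.cast_one]

theorem finrank_split :
    (Module.finrank ℂ V : ℂ) = LinearMap.trace ℂ V (eb hn hq ρ 0) +
      (((p ^ n : ℕ) : ℂ) - 1) * (dN hn hq ρ : ℂ) := by
  rw [← LinearMap.trace_one ℂ V, ← sum_eb hn hq ρ, map_add, map_sum,
    Finset.sum_congr rfl fun b hb => trace_eb hn hq ρ (Finset.mem_filter.1 hb).1 (Finset.mem_filter.1 hb).2,
    Finset.sum_const, nsmul_eq_mul, card_nz hn hq]

theorem trace_alpha : TrFix ρ 1 71 (LinearMap.trace ℂ V (eb hn hq ρ 0) - (dN hn hq ρ : ℂ)) := by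
  intro t ht ht0
  rw [mul_one]
  conv_lhs => rw [← mul_one (ρ _), ← sum_eb hn hq ρ, mul_add, Finset.mul_sum]
  rw [rho_alpha_eb hn hq ρ ht, zero_mul, AddChar.map_zero_eq_one, one_smul, map_add, map_sum,
    Finset.sum_congr rfl fun b hb => by
      rw [rho_alpha_eb hn hq ρ ht, map_smul, smul_eq_mul,
        trace_eb hn hq ρ (Finset.mem_filter.1 hb).1 (Finset.mem_filter.1 hb).2, mul_comm b t],
    ← Finset.sum_mul, (QField.of_expChar hn hq).sum_chr_nonzero ht ht0]
  ring

/-- All long root elements have the same trace. -/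
theorem trace_long {r : ℕ} (hr : r ∈ [46, 47, 51, 53, 63, 65, 69, 70, 60]) :
    TrFix ρ 1 r (LinearMap.trace ℂ V (eb hn hq ρ 0) - (dN hn hq ρ : ℂ)) := by
  obtain ⟨s70, s69, s65, s63, s60, s53, s51, -, s47, -, s46⟩ := long_steps
  have h1 : ∀ w, Commute (ρ w) (1 : Module.End ℂ V) := fun w => Commute.one_right _
  have t71 := trace_alpha hn hq ρ
  have t70 := t71.step hn hq s70 (h1 _)
  have t69 := t70.step hn hq s69 (h1 _)
  have t65 := t69.step hn hq s65 (h1 _)
  have t63 := t65.step hn hq s63 (h1 _)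
  have t53 := t65.step hn hq s53 (h1 _)
  have t51 := t53.step hn hq s51 (h1 _)
  have t47 := t51.step hn hq s47 (h1 _)
  simp only [List.mem_cons, List.not_mem_nil, or_false] at hr
  rcases hr with rfl | rfl | rfl | rfl | rfl | rfl | rfl | rfl | rfl
  · exact t47.step hn hq s46 (h1 _)
  · exact t47
  · exact t51
  · exact t53
  · exact t63
  · exact t65
  · exact t69
  · exact t70
  · exact t63.step hn hq s60 (h1 _)

theorem dN_ne_zero (hnt : ¬ ∀ g, ρ g = 1) : dN hn hq ρ ≠ 0 := by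
  intro h0
  apply hnt
  have hx : ρ (el K (p ^ n) 71 1) = 1 := by
    have hqf := QField.of_expChar hn hq
    have hz : ∀ b ∈ (fixK K (p ^ n)).filter (fun b => b ≠ 0), eb hn hq ρ b = 0 := fun b hb =>
      (zFam hn hq ρ).pr_eq_zero (by
        rw [dimPr_eb hn hq ρ (Finset.mem_filter.1 hb).1 (Finset.mem_filter.1 hb).2, h0])
    have he := sum_eb hn hq ρ
    rw [Finset.sum_eq_zero hz, add_zero] at he
    have h1 := rho_alpha_eb hn hq ρ (b := 0) hqf.one_mem
    rw [zero_mul, AddChar.map_zero_eq_one, one_smul, he, mul_one] at h1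
    exact h1
  have hne : el K (p ^ n) 71 1 ≠ 1 := fun e => by
    have h1 := congrArg Subtype.val e
    rw [coe_el71 hn hq (QField.of_expChar hn hq).one_mem] at h1
    exact one_ne_zero (((coreE6 K).xGL_eq_one_iff alpha_orb.2.2.2.2).1 h1)
  have hsimp := (isSimpleE6 K hn hq).1
  let f := MonoidHom.toHomUnits ρ
  rcases hsimp.eq_bot_or_eq_top_of_normal f.ker (MonoidHom.normal_ker f) with h | h
  · refine absurd ?_ hne
    have : el K (p ^ n) 71 1 ∈ f.ker := MonoidHom.mem_ker.2 (Units.ext hx)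
    rwa [h, Subgroup.mem_bot] at this
  · intro g
    have : g ∈ f.ker := h ▸ Subgroup.mem_top g
    exact congrArg Units.val (MonoidHom.mem_ker.1 this)

end CfsgLib.MinDeg2E6
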