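import Cfsg.Agent.Lib.MinDeg2E6.Top

set_option autoImplicit false
set_option linter.unusedSectionVars false

/-!
The last step of the descent in ²E₆(q).
-/

namespace CfsgLib.MinDeg2E6

open Cfsg.Lie CfsgLib.ChevStr CfsgLib.Twisted CfsgLib.MinDegE
open scoped MatrixGroups

theorem low_sub : (∀ r ∈ lowR, r ∈ topL) ∧ (∀ r ∈ lowL, r ∈ topL) := by decide +kernel

theorem low_nodes : (∀ i ∈ [nodeE6 0, nodeE6 2], orbOK (chevE6.simple i.val) = true ∧
      orbOK (chevE6.neg (chevE6.simple i.val)) = true ∧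
      chevE6.simple i.val ∈ topL ∧ chevE6.neg (chevE6.simple i.val) ∈ topL) ∧
    stepOK (nodeE6 0) 60 44 = true ∧ stepOK (nodeE6 2) 44 39 = true := by decide +kernel

theorem low_strata : (Finset.univ.filter fun b : Fin 9 => lowP.sig b = b) = {0, 5, 8} ∧
    (∀ b : Fin 9, lowP.sig b = b → rootsOf lowR b ∈ [39, 44, 60]) ∧
    ∀ b : Fin 9, lowP.sig b = b →
      ∃ B ∈ lowC.betas, B.b = b ∧ (lowC.P.members B.up).length = [0, 0, 0, 0, 0, 2, 0, 0, 4].getD b.val 0 := by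
  decide +kernel

/-- The arithmetic of multiplicity one. -/
theorem arith_one {q D k : ℕ} (hq : 2 ≤ q) (hD : (q - 1) * (1 + q ^ 2 + q ^ 4) ≤ D)
    (hk : (k : ℂ) = (D : ℂ) + ((q : ℂ) - 1) * (1 + (q : ℂ) + (q : ℂ) ^ 3 + (q : ℂ) ^ 4 + (q : ℂ) ^ 5 +
      (q : ℂ) ^ 6 + (q : ℂ) ^ 8 + (q : ℂ) ^ 9) + ((q : ℂ) - 1) * (q : ℂ) ^ 10) :
    (q : ℤ) ^ 11 - (q : ℤ) ^ 8 + (q : ℤ) ^ 7 + (q : ℤ) ^ 5 - (q : ℤ) ^ 4 + (q : ℤ) - 2 ≤ (k : ℤ) := by
  have hk' : (k : ℤ) = (D : ℤ) + ((q : ℤ) - 1) *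
      (1 + (q : ℤ) + (q : ℤ) ^ 3 + (q : ℤ) ^ 4 + (q : ℤ) ^ 5 + (q : ℤ) ^ 6 + (q : ℤ) ^ 8 + (q : ℤ) ^ 9) +
        ((q : ℤ) - 1) * (q : ℤ) ^ 10 := by
    exact_mod_cast hk
  have hD' : (((q - 1) * (1 + q ^ 2 + q ^ 4) : ℕ) : ℤ) ≤ (D : ℤ) := by exact_mod_cast hD
  push_cast [Nat.cast_sub (by omega : 1 ≤ q)] at hD'
  linarith

/-- The arithmetic of higher multiplicity. -/
theorem arith_two {q m k : ℕ} (hq : 2 ≤ q) (hm : 2 ≤ m)
    (h : (q - 1) * (q ^ 9 * m) + (q - 1) * (q ^ 10 * m) ≤ k) :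
    (q : ℤ) ^ 11 - (q : ℤ) ^ 8 + (q : ℤ) ^ 7 + (q : ℤ) ^ 5 - (q : ℤ) ^ 4 + (q : ℤ) - 2 ≤ (k : ℤ) := by
  have h' : (((q - 1) * (q ^ 9 * m) + (q - 1) * (q ^ 10 * m) : ℕ) : ℤ) ≤ (k : ℤ) := by exact_mod_cast h
  push_cast [Nat.cast_sub (by omega : 1 ≤ q)] at h'
  have hq' : (2 : ℤ) ≤ (q : ℤ) := by exact_mod_cast hq
  have hm' : (2 : ℤ) ≤ (m : ℤ) := by exact_mod_cast hm
  have h1 : (1 : ℤ) ≤ (q : ℤ) := by linarith
  have p9 : (0 : ℤ) ≤ (q : ℤ) ^ 9 := by positivity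
  have p10 : (0 : ℤ) ≤ (q : ℤ) ^ 10 := by positivity
  have e1 : ((q : ℤ) - 1) * (((q : ℤ) ^ 9 + (q : ℤ) ^ 10) * 2) ≤
      ((q : ℤ) - 1) * (((q : ℤ) ^ 9 + (q : ℤ) ^ 10) * m) :=
    mul_le_mul_of_nonneg_left (mul_le_mul_of_nonneg_left hm' (by linarith)) (by linarith)
  have e2 : 4 * (q : ℤ) ^ 9 ≤ (q : ℤ) ^ 11 := by
    have : (q : ℤ) ^ 11 = (q : ℤ) ^ 9 * ((q : ℤ) * q) := by ring
    rw [this]
    nlinarith [mul_le_mul hq' hq' (by norm_num) (by linarith)]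
  have e7 : (q : ℤ) ^ 7 ≤ (q : ℤ) ^ 9 := pow_le_pow_right₀ h1 (by norm_num)
  have e5 : (q : ℤ) ^ 5 ≤ (q : ℤ) ^ 8 := pow_le_pow_right₀ h1 (by norm_num)
  have ea : (q : ℤ) ≤ (q : ℤ) ^ 4 := le_self_pow₀ h1 (by norm_num)
  linarith

variable {K : Type*} [Field K] [Fintype K] [DecidableEq K] {p n : ℕ} [ExpChar K p]
  (hn : Fintype.card K = (p ^ n) * (p ^ n)) (hq : 2 ≤ p ^ n)
variable {V : Type*} [AddCommGroup V] [Module ℂ V] [FiniteDimensional ℂ V]
variable (ρ : Representation ℂ ↥(twistedE6 K (p ^ n)) V)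

include hn hq

/-- The Levi subgroup preserves the zero eigenspace of the quotient. -/
theorem levi_commute_pr0 {s : ℕ} (hs : s ∈ topL) {u : K} (hu : e6Sym.root s = s → u ∈ fixK K (p ^ n)) :
    Commute (ρ (el K (p ^ n) s u)) ((topFam hn hq ρ).pr 0) := by
  obtain ⟨δ, hδ, rfl⟩ := List.getElem_of_mem hs
  have hlen : δ < topC.ops.length := by
    have h := top_ops
    simp only [opsCheck, Bool.and_eq_true, decide_eq_true_eq] at h
    show δ < topOps.length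
    omega
  have hO : topC.ops[δ]? = some topC.ops[δ] := List.getElem?_eq_getElem hlen
  obtain ⟨-, hc⟩ := opsCheck_spec top_ops hO
  obtain ⟨-, hfx, -⟩ := opCheck_spec hc
  have hget : topL.getD δ 0 = topL[δ] := List.getD_eq_getElem _ _ hδ
  rw [hget] at hfx
  have h := ((top_acting hn hq ρ).act δ _ hO u fun h => hu (hfx.1 h)).commute_pr (ψ := 0)
    (by rw [Op.mv, Table.move_zero, Table.move_zero])
  rwa [topY, hget] at h

theorem refEl_commute {i : Fin chevE6.rank} (hi : i ∈ [nodeE6 0, nodeE6 2]) :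
    Commute (ρ (refEl K (p ^ n) i)) ((topFam hn hq ρ).pr 0) := by
  have hK := QField.of_expChar hn hq
  obtain ⟨-, -, ha, hb⟩ := low_nodes.1 i hi
  rw [refEl, map_mul ρ, map_mul ρ]
  exact ((levi_commute_pr0 hn hq ρ ha fun _ => hK.one_mem).mul_left
    (levi_commute_pr0 hn hq ρ hb fun _ => hK.neg_mem hK.one_mem)).mul_left
    (levi_commute_pr0 hn hq ρ ha fun _ => hK.one_mem)

/-- The system of the last step. -/
noncomputable def lowSys (K : Type*) [Field K] : RSys (coreE6 K) 9 := exSys K lowR low_length low_comm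

theorem low_onImage : (lowSys K).OnImage lowP (p ^ n) ρ ((topFam hn hq ρ).pr 0) where
  ok := by have h := low_beta; simp only [LevelC.okBeta, Bool.and_eq_true] at h; exact h.1.1.1
  qf := QField.of_expChar hn hq
  idem := (topFam hn hq ρ).idem_pr (Pat.zero_mem (topFam hn hq ρ).ok (QField.of_expChar hn hq))
  gen i a ha := ⟨el K (p ^ n) ((lowSys K).R i) a, el_rep hn hq (S := lowSys K) low_pat i ha,
    levi_commute_pr0 hn hq ρ (low_sub.1 _ (rootsOf_mem low_length i))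
      fun e => ha ((patCheck_spec low_pat i).2.1.2 e)⟩
  triv m hm := by
    have h1 : m = 1 := Subtype.ext (exSys_zero hm)
    rw [h1, map_one, one_mul]
    exact ⟨rfl, Commute.one_left _⟩

/-- The family of the last step. -/
noncomputable def lowFam : OFam ρ K (p ^ n) 9 := RSys.fam (low_onImage hn hq ρ)

/-- The elements acting on the last step. -/
noncomputable def lowY (K : Type*) [Field K] (q δ : ℕ) (u : K) : ↥(twistedE6 K q) :=
  el K q (lowL.getD δ 0) u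

theorem low_acting : Acting (lowFam hn hq ρ) lowC.ops (lowY K (p ^ n)) := by
  have hb := low_beta
  simp only [LevelC.okBeta, Bool.and_eq_true, List.all_eq_true] at hb
  have hops : ∀ (δ : ℕ) (O : Op 9), lowC.ops[δ]? = some O → O.ok lowP = true := fun δ O hO =>
    hb.1.1.2 O (List.mem_of_getElem? hO)
  refine ⟨hops, fun δ O hO u hu => ?_⟩
  obtain ⟨hlt, hc⟩ := opsCheck_spec low_ops hO
  obtain ⟨-, hfx, -⟩ := opCheck_spec hc
  exact RSys.fam_act (low_onImage hn hq ρ) (hops δ O hO) hu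
    (el_twist hn hq (S := lowSys K) rfl hb.1.1.1 hc (hops δ O hO) (fun _ => trivial) (fun _ => trivial) hu)
    (levi_commute_pr0 hn hq ρ (low_sub.2 _ (by rw [List.getD_eq_getElem _ _ hlt]; exact List.getElem_mem _))
      fun e => hu (hfx.2 e))

variable (hd : dN hn hq ρ = (p ^ n) ^ 10)

include hd

theorem low_trfix {r : ℕ} (hr : r ∈ [39, 44, 60]) : TrFix ρ ((topFam hn hq ρ).pr 0) r
    (LinearMap.trace ℂ V ((topFam hn hq ρ).pr 0) - ((p ^ n : ℕ) : ℂ) ^ 5) := by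
  have h60 := top_pr0 hn hq ρ hd
  have h44 := h60.step hn hq low_nodes.2.1 (refEl_commute hn hq ρ (by simp))
  simp only [List.mem_cons, List.not_mem_nil, or_false] at hr
  rcases hr with rfl | rfl | rfl
  · exact h44.step hn hq low_nodes.2.2 (refEl_commute hn hq ρ (by simp))
  · exact h44
  · exact h60

theorem low_fibres : Fibres (lowFam hn hq ρ) lowC.a :=
  fibres_of_trace fun i hi t ht ht0 => by
    have hrep := el_rep hn hq (S := lowSys K) low_pat i (a := t) fun _ => ht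
    rw [show Pat.uvec lowP (p ^ n) i t = Pi.single i t by
      have hi' : lowP.sig i = i := hi
      simp [Pat.uvec, hi']] at hrep
    rw [lowFam, RSys.fam_T _ hrep]
    exact low_trfix hn hq ρ hd (low_strata.2.1 i hi) t ht ht0

/-- The zero eigenspace of the quotient is large. -/
theorem pr0_ge : (p ^ n - 1) * (1 + (p ^ n) ^ 2 + (p ^ n) ^ 4) ≤ (topFam hn hq ρ).dimPr 0 := by
  classical
  have hK := QField.of_expChar hn hq
  set Φ := lowFam hn hq ρ
  have hA := low_acting hn hq ρ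
  have hF := low_fibres hn hq ρ hd
  have hle := strata_le (Φ := Φ)
  have hsl : ∀ b ∈ Finset.univ.filter (fun b => Φ.P.sig b = b),
      ∀ s ∈ (fixK K (p ^ n)).filter (fun s => s ≠ 0), ∑ ψ ∈ slice Φ (Below b) b s [], Φ.dimPr ψ =
        (p ^ n) ^ [0, 0, 0, 0, 0, 2, 0, 0, 4].getD b.val 0 := fun b hb s hs =>
    LevelC.stratum_dim (X := lowC) (Φ := Φ) rfl hA low_beta hF
      (low_strata.2.2 b (Finset.mem_filter.1 hb).2) (Finset.mem_filter.1 hs).1 (Finset.mem_filter.1 hs).2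
  rw [Finset.sum_congr rfl fun b hb => Finset.sum_congr rfl fun s hs => hsl b hb s hs,
    Finset.sum_congr rfl fun b _ => by rw [Finset.sum_const, smul_eq_mul, Finset.filter_ne',
      Finset.card_erase_of_mem hK.zero_mem, hK.card_fixK],
    show (Finset.univ.filter fun b : Fin 9 => Φ.P.sig b = b) = _ from low_strata.1] at hle
  have hE : ((∑ ψ ∈ Φ.W, Φ.dimPr ψ : ℕ) : ℂ) = ((topFam hn hq ρ).dimPr 0 : ℂ) := by
    rw [← Φ.trace_E, ← (topFam hn hq ρ).trace_pr (Pat.zero_mem (topFam hn hq ρ).ok hK)]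
    rfl
  rw [Nat.cast_inj.1 hE] at hle
  simp only [Finset.sum_insert, Finset.mem_insert, Finset.mem_singleton, Fin.reduceEq, or_self, not_false_eq_true,
    Finset.sum_singleton] at hle
  norm_num at hle
  rw [mul_add, mul_add, mul_one]
  omega

omit hd

/-- A representation without fixed line has degree at least the bound less two. -/
theorem degree_ge (hnt : ¬ ∀ g, ρ g = 1) :
    ((p ^ n : ℕ) : ℤ) ^ 11 - ((p ^ n : ℕ) : ℤ) ^ 8 + ((p ^ n : ℕ) : ℤ) ^ 7 + ((p ^ n : ℕ) : ℤ) ^ 5 -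
      ((p ^ n : ℕ) : ℤ) ^ 4 + ((p ^ n : ℕ) : ℤ) - 2 ≤ (Module.finrank ℂ V : ℤ) := by
  have hK := QField.of_expChar hn hq
  obtain ⟨m, hm⟩ : ∃ m, (aFam hn hq ρ hK.one_mem).dimPr 0 = m := ⟨_, rfl⟩
  have hdN : dN hn hq ρ = (p ^ n) ^ 10 * m := hm ▸ dN_eq hn hq ρ hK.one_mem one_ne_zero
  rcases Nat.lt_or_ge m 2 with hm2 | hm2
  · interval_cases m
    · exact absurd (by rw [hdN, mul_zero]) (dN_ne_zero hn hq ρ hnt)
    · rw [mul_one] at hdN
      have hfin := finrank_split hn hq ρ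
      rw [top_eb0 hn hq ρ hdN, hdN, Nat.cast_pow (p ^ n) 10] at hfin
      exact arith_one hq (pr0_ge hn hq ρ hdN) hfin
  · have h := eb0_ge hn hq ρ
    rw [hm, hdN] at h
    exact arith_two hq hm2 h

end CfsgLib.MinDeg2E6
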