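import Cfsg.Agent.Lib.MinDeg2E6.Sym

set_option autoImplicit false
set_option linter.unusedSectionVars false

/-!
Abelian families indexed by orbits of roots on the image of an idempotent, and their eigen
projections.
-/

namespace CfsgLib.MinDeg2E6

open Matrix

variable {G V : Type*} [Group G] [AddCommGroup V] [Module ℂ V]

/-- A representation of the fixed vectors of a pattern on the image of `E`. -/
structure OFam (ρ : Representation ℂ G V) (K : Type*) [Field K] [Fintype K] [DecidableEq K] (q N : ℕ) where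
  P : Pat N
  ok : P.ok = true
  qf : QField K q
  E : Module.End ℂ V
  idem : E * E = E
  T : (Fin N → K) → Module.End ℂ V
  T_zero : T 0 = E
  T_add : ∀ v ∈ P.W q K, ∀ w ∈ P.W q K, T v * T w = T (v + w)

namespace OFam

variable {ρ : Representation ℂ G V} {K : Type*} [Field K] [Fintype K] [DecidableEq K] {q N : ℕ}
variable (Φ : OFam ρ K q N)

/-- The parameters and characters. -/
abbrev W : Finset (Fin N → K) := Φ.P.W q K

theorem E_mul_T {w : Fin N → K} (hw : w ∈ Φ.W) : Φ.E * Φ.T w = Φ.T w := by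
  rw [← Φ.T_zero, Φ.T_add 0 (Pat.zero_mem Φ.ok Φ.qf) w hw, zero_add]

theorem T_mul_E {w : Fin N → K} (hw : w ∈ Φ.W) : Φ.T w * Φ.E = Φ.T w := by
  rw [← Φ.T_zero, Φ.T_add w hw 0 (Pat.zero_mem Φ.ok Φ.qf), add_zero]

theorem card_W_ne : ((Φ.W).card : ℂ) ≠ 0 :=
  Nat.cast_ne_zero.2 (Finset.card_ne_zero.2 ⟨0, Pat.zero_mem Φ.ok Φ.qf⟩)

/-- The projection on the eigenspace of a character. -/
noncomputable def pr (ψ : Fin N → K) : Module.End ℂ V :=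
  ((Φ.W).card : ℂ)⁻¹ • ∑ w ∈ Φ.W, chr K (-(ψ ⬝ᵥ w)) • Φ.T w

theorem T_mul_pr {v : Fin N → K} (hv : v ∈ Φ.W) (ψ : Fin N → K) :
    Φ.T v * Φ.pr ψ = chr K (ψ ⬝ᵥ v) • Φ.pr ψ := by
  simp only [pr, Finset.mul_sum, mul_smul_comm, Finset.smul_sum, smul_smul]
  refine Finset.sum_nbij' (i := fun w => v + w) (j := fun w => w - v)
    (fun w hw => Pat.add_mem Φ.ok Φ.qf hv hw) (fun w hw => Pat.sub_mem Φ.ok Φ.qf hw hv)
    (fun w _ => add_sub_cancel_left v w) (fun w _ => add_sub_cancel v w) fun w hw => ?_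
  rw [Φ.T_add v hv w hw]
  congr 1
  rw [mul_left_comm, ← AddChar.map_add_eq_mul, dotProduct_add]
  ring_nf

theorem E_mul_pr (ψ : Fin N → K) : Φ.E * Φ.pr ψ = Φ.pr ψ := by
  simp only [pr, mul_smul_comm, Finset.mul_sum]
  congr 1
  exact Finset.sum_congr rfl fun w hw => by rw [Φ.E_mul_T hw]

theorem pr_mul_E (ψ : Fin N → K) : Φ.pr ψ * Φ.E = Φ.pr ψ := by
  simp only [pr, smul_mul_assoc, Finset.sum_mul]
  congr 1
  exact Finset.sum_congr rfl fun w hw => by rw [Φ.T_mul_E hw]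

theorem pr_mul_pr {ψ φ : Fin N → K} (hψ : ψ ∈ Φ.W) (hφ : φ ∈ Φ.W) :
    Φ.pr ψ * Φ.pr φ = if ψ = φ then Φ.pr ψ else 0 := by
  conv_lhs => arg 1; rw [pr]
  rw [smul_mul_assoc, Finset.sum_mul, Finset.sum_congr rfl fun w hw => by
    rw [smul_mul_assoc, Φ.T_mul_pr hw, smul_smul, ← AddChar.map_add_eq_mul,
      show -(ψ ⬝ᵥ w) + φ ⬝ᵥ w = (φ - ψ) ⬝ᵥ w by rw [sub_dotProduct]; ring]]
  rw [← Finset.sum_smul, Pat.sum_chr_dot Φ.ok Φ.qf (Pat.sub_mem Φ.ok Φ.qf hφ hψ)]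
  simp only [sub_eq_zero, eq_comm (a := φ)]
  split_ifs with h
  · rw [h, smul_smul, inv_mul_cancel₀ Φ.card_W_ne, one_smul]
  · simp

theorem idem_pr {ψ : Fin N → K} (hψ : ψ ∈ Φ.W) : Φ.pr ψ * Φ.pr ψ = Φ.pr ψ := by
  rw [Φ.pr_mul_pr hψ hψ, if_pos rfl]

theorem sum_pr : ∑ ψ ∈ Φ.W, Φ.pr ψ = Φ.E := by
  simp only [pr, ← Finset.smul_sum]
  rw [Finset.sum_comm, Finset.sum_congr rfl fun w hw => by
    rw [← Finset.sum_smul, Finset.sum_congr rfl fun ψ _ => by rw [← dotProduct_neg],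
      Pat.sum_chr_dot' Φ.ok Φ.qf (Pat.neg_mem Φ.ok Φ.qf hw)]]
  rw [Finset.sum_eq_single (0 : Fin N → K)]
  · rw [neg_zero, if_pos rfl, Φ.T_zero, smul_smul, inv_mul_cancel₀ Φ.card_W_ne, one_smul]
  · intro w _ hw
    rw [if_neg (neg_ne_zero.2 hw), zero_smul]
  · exact fun h => absurd (Pat.zero_mem Φ.ok Φ.qf) h

theorem commute_pr {g : Module.End ℂ V} (h : ∀ w ∈ Φ.W, Commute g (Φ.T w)) (ψ : Fin N → K) :
    Commute g (Φ.pr ψ) := by
  show g * Φ.pr ψ = Φ.pr ψ * g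
  simp only [pr, mul_smul_comm, smul_mul_assoc, Finset.mul_sum, Finset.sum_mul]
  congr 1
  exact Finset.sum_congr rfl fun w hw => by rw [(h w hw).eq]

/-- Transport of the projections by an intertwining operator. -/
theorem mul_pr {g : Module.End ℂ V} {A : (Fin N → K) → Fin N → K} (hmap : ∀ w ∈ Φ.W, A w ∈ Φ.W)
    (hinj : ∀ v ∈ Φ.W, ∀ w ∈ Φ.W, A v = A w → v = w) {η : Fin N → K}
    (h : ∀ w ∈ Φ.W, g * Φ.T w = chr K (η ⬝ᵥ w) • (Φ.T (A w) * g)) {ψ φ : Fin N → K}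
    (hψ : ∀ w ∈ Φ.W, φ ⬝ᵥ w = ψ ⬝ᵥ A w + η ⬝ᵥ w) : g * Φ.pr φ = Φ.pr ψ * g := by
  simp only [pr, mul_smul_comm, smul_mul_assoc, Finset.mul_sum, Finset.sum_mul]
  congr 1
  refine Finset.sum_bij (fun w _ => A w) hmap (fun v hv w hw e => hinj v hv w hw e)
    (fun w hw => ?_) fun w hw => ?_
  · obtain ⟨v, hv, e⟩ := Finset.surj_on_of_inj_on_of_card_le (s := Φ.W) (fun v _ => A v) hmap
      (fun v w hv hw e => hinj v hv w hw e) le_rfl w hw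
    exact ⟨v, hv, e.symm⟩
  rw [h w hw, smul_smul, ← AddChar.map_add_eq_mul, hψ w hw]
  congr 2
  ring

variable [FiniteDimensional ℂ V]

/-- The dimension of an eigenspace. -/
noncomputable def dimPr (ψ : Fin N → K) : ℕ := Module.finrank ℂ (LinearMap.range (Φ.pr ψ))

theorem trace_pr {ψ : Fin N → K} (hψ : ψ ∈ Φ.W) :
    LinearMap.trace ℂ V (Φ.pr ψ) = (Φ.dimPr ψ : ℂ) :=
  SLMinDeg.trace_eq_finrank_range _ (Φ.idem_pr hψ)

theorem pr_eq_zero {ψ : Fin N → K} (h : Φ.dimPr ψ = 0) : Φ.pr ψ = 0 :=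
  LinearMap.range_eq_bot.mp (Submodule.finrank_eq_zero.mp h)

theorem trace_E : LinearMap.trace ℂ V Φ.E = ((∑ ψ ∈ Φ.W, Φ.dimPr ψ : ℕ) : ℂ) := by
  rw [← Φ.sum_pr, map_sum, Nat.cast_sum]
  exact Finset.sum_congr rfl fun ψ hψ => Φ.trace_pr hψ

theorem trace_T {w : Fin N → K} (hw : w ∈ Φ.W) :
    LinearMap.trace ℂ V (Φ.T w) = ∑ ψ ∈ Φ.W, chr K (ψ ⬝ᵥ w) * (Φ.dimPr ψ : ℂ) := by
  conv_lhs => rw [← Φ.T_mul_E hw, ← Φ.sum_pr, Finset.mul_sum]
  rw [map_sum]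
  refine Finset.sum_congr rfl fun ψ hψ => ?_
  rw [Φ.T_mul_pr hw, map_smul, Φ.trace_pr hψ, smul_eq_mul]

/-- A fixed coordinate line. -/
theorem single_mem {i : Fin N} (hi : Φ.P.sig i = i) {t : K} (ht : t ∈ fixK K q) :
    (Pi.single i t : Fin N → K) ∈ Φ.W := by
  have h := Pat.uvec_mem Φ.ok Φ.qf (i := i) (a := t) fun _ => ht
  simpa [Pat.uvec, hi] using h

/-- The eigenspaces with a fixed nonzero value of one fixed coordinate. -/
theorem sum_dimPr_fiber {i : Fin N} (hi : Φ.P.sig i = i) {d : ℂ}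
    (h : ∀ t ∈ fixK K q, t ≠ 0 → LinearMap.trace ℂ V (Φ.T (Pi.single i t)) =
      LinearMap.trace ℂ V Φ.E - d) {s : K} (hs : s ∈ fixK K q) (hs0 : s ≠ 0) :
    (q : ℂ) * ∑ ψ ∈ (Φ.W).filter (fun ψ => ψ i = s), (Φ.dimPr ψ : ℂ) = d := by
  have key : ∑ t ∈ fixK K q, chr K (-s * t) * LinearMap.trace ℂ V (Φ.T (Pi.single i t)) =
      (q : ℂ) * ∑ ψ ∈ (Φ.W).filter (fun ψ => ψ i = s), (Φ.dimPr ψ : ℂ) := by
    rw [Finset.sum_congr rfl fun t ht => by rw [Φ.trace_T (Φ.single_mem hi ht), Finset.mul_sum]]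
    rw [Finset.sum_comm, Finset.mul_sum, Finset.sum_filter]
    refine Finset.sum_congr rfl fun ψ hψ => ?_
    rw [Finset.sum_congr rfl fun t _ => by
      rw [dotProduct_single, ← mul_assoc, ← AddChar.map_add_eq_mul,
        show -s * t + ψ i * t = (ψ i - s) * t by ring], ← Finset.sum_mul,
      Φ.qf.sum_chr (by rw [sub_eq_add_neg]; exact Φ.qf.add_mem (Pat.apply_fixed Φ.ok hψ hi) (Φ.qf.neg_mem hs))]
    simp only [sub_eq_zero]
    split_ifs <;> simp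
  have h2 : ∑ t ∈ fixK K q, chr K (-s * t) * LinearMap.trace ℂ V (Φ.T (Pi.single i t)) =
      ∑ t ∈ fixK K q, (chr K (-s * t) * (LinearMap.trace ℂ V Φ.E - d) + if t = 0 then d else 0) := by
    refine Finset.sum_congr rfl fun t ht => ?_
    split_ifs with ht0
    · subst ht0
      rw [Pi.single_zero, Φ.T_zero, mul_zero, AddChar.map_zero_eq_one]; ring
    · rw [h t ht ht0, add_zero]
  rw [← key, h2, Finset.sum_add_distrib, ← Finset.sum_mul, Φ.qf.sum_chr (Φ.qf.neg_mem hs),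
    if_neg (neg_ne_zero.mpr hs0), Finset.sum_ite_eq' _ _ (fun _ => d), if_pos Φ.qf.zero_mem]
  simp

/-- An element acting on the family through `A` on parameters and `mv` on characters. -/
structure Act (g : Module.End ℂ V) (A mv : (Fin N → K) → Fin N → K) : Prop where
  mapA : ∀ w ∈ Φ.W, A w ∈ Φ.W
  injA : ∀ v ∈ Φ.W, ∀ w ∈ Φ.W, A v = A w → v = w
  mapM : ∀ ψ ∈ Φ.W, mv ψ ∈ Φ.W
  adj : ∀ ψ w, mv ψ ⬝ᵥ w = ψ ⬝ᵥ A w
  twine : ∀ w ∈ Φ.W, g * Φ.T w = Φ.T (A w) * g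

variable {Φ}

theorem Act.mul_pr {g : Module.End ℂ V} {A mv : (Fin N → K) → Fin N → K} (h : Φ.Act g A mv)
    (ψ : Fin N → K) : g * Φ.pr (mv ψ) = Φ.pr ψ * g :=
  Φ.mul_pr h.mapA h.injA (η := 0) (fun w hw => by
    rw [zero_dotProduct, AddChar.map_zero_eq_one, one_smul, h.twine w hw])
    fun w _ => by rw [zero_dotProduct, add_zero, h.adj]

theorem Act.commute_pr {g : Module.End ℂ V} {A mv : (Fin N → K) → Fin N → K} (h : Φ.Act g A mv)
    {ψ : Fin N → K} (hψ : mv ψ = ψ) : Commute g (Φ.pr ψ) := by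
  have := h.mul_pr ψ
  rwa [hψ] at this

theorem Act.trace_move {y : G} {A mv : (Fin N → K) → Fin N → K} (h : Φ.Act (ρ y) A mv)
    {g : G} (hg : Commute g y) (ψ : Fin N → K) :
    LinearMap.trace ℂ V (ρ g * Φ.pr (mv ψ)) = LinearMap.trace ℂ V (ρ g * Φ.pr ψ) := by
  have h1 : Φ.pr (mv ψ) = ρ y⁻¹ * (Φ.pr ψ * ρ y) := by
    rw [← h.mul_pr, ← mul_assoc, ← map_mul, inv_mul_cancel, map_one, one_mul]
  rw [h1, ← mul_assoc, ← map_mul, hg.inv_right.eq, map_mul ρ, mul_assoc,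
    LinearMap.trace_mul_comm ℂ (ρ y⁻¹), mul_assoc, mul_assoc (Φ.pr ψ), ← map_mul, mul_inv_cancel,
    map_one, mul_one]

theorem Act.dimPr_move {y : G} {A mv : (Fin N → K) → Fin N → K} (h : Φ.Act (ρ y) A mv)
    {ψ : Fin N → K} (hψ : ψ ∈ Φ.W) : Φ.dimPr (mv ψ) = Φ.dimPr ψ := by
  have h1 := h.trace_move (g := 1) (Commute.one_left _) ψ
  rw [map_one, one_mul, one_mul, Φ.trace_pr (h.mapM ψ hψ), Φ.trace_pr hψ] at h1
  exact_mod_cast h1

/-- An operator moving an eigenspace has trace zero on it. -/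
theorem Act.trace_moved {g : Module.End ℂ V} {A mv : (Fin N → K) → Fin N → K} (h : Φ.Act g A mv)
    {ψ : Fin N → K} (hψ : ψ ∈ Φ.W) (hne : mv ψ ≠ ψ) :
    LinearMap.trace ℂ V (g * Φ.pr (mv ψ)) = 0 :=
  OrthDeg.trace_zero_of_moved (X' := Φ.pr ψ) (Φ.idem_pr (h.mapM ψ hψ)) (h.mul_pr ψ)
    (by rw [Φ.pr_mul_pr (h.mapM ψ hψ) hψ, if_neg hne])

/-- A commutator of two elements preserving a one-dimensional eigenspace is trivial on it. -/
theorem trace_commutator {ψ : Fin N → K} (hψ : ψ ∈ Φ.W) (hd : Φ.dimPr ψ = 1) {g a b : G}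
    (ha : Commute (ρ a) (Φ.pr ψ)) (hb : Commute (ρ b) (Φ.pr ψ)) (hg : g * (b * a) = a * b) :
    ρ g * Φ.pr ψ = Φ.pr ψ ∧ LinearMap.trace ℂ V (ρ g * Φ.pr ψ) = 1 := by
  have hP := Φ.idem_pr hψ
  have ht : LinearMap.trace ℂ V (Φ.pr ψ) = 1 := by rw [Φ.trace_pr hψ, hd, Nat.cast_one]
  have hA := SLMinDeg.mul_eq_trace_smul _ _ hP ht ha
  have hB := SLMinDeg.mul_eq_trace_smul _ _ hP ht hb
  set x := LinearMap.trace ℂ V (ρ a * Φ.pr ψ)
  set y := LinearMap.trace ℂ V (ρ b * Φ.pr ψ)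
  have hab : ρ (a * b) * Φ.pr ψ = (y * x) • Φ.pr ψ := by
    rw [map_mul, mul_assoc, hB, mul_smul_comm, hA, smul_smul]
  have hba : ρ (b * a) * Φ.pr ψ = (x * y) • Φ.pr ψ := by
    rw [map_mul, mul_assoc, hA, mul_smul_comm, hB, smul_smul]
  have hne : x * y ≠ 0 := by
    intro h0
    have h1 : Φ.pr ψ = ρ (b * a)⁻¹ * (ρ (b * a) * Φ.pr ψ) := by
      rw [← mul_assoc, ← map_mul, inv_mul_cancel, map_one, one_mul]
    rw [hba, h0, zero_smul, mul_zero] at h1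
    rw [h1, map_zero] at ht
    exact one_ne_zero ht.symm
  have h2 : (x * y) • (ρ g * Φ.pr ψ) = (x * y) • Φ.pr ψ := by
    rw [← mul_smul_comm, ← hba, ← mul_assoc, ← map_mul, hg, hab, hba, mul_comm]
  have h3 : ρ g * Φ.pr ψ = Φ.pr ψ := smul_right_injective _ hne h2
  exact ⟨h3, by rw [h3, ht]⟩

end OFam

end CfsgLib.MinDeg2E6
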