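import Cfsg.Agent.Lib.MinDeg2E6.OFam

set_option autoImplicit false
set_option linter.unusedSectionVars false

/-!
The action of one orbit of root elements: two tables exchanged by the semilinear involution.
-/

namespace CfsgLib.MinDeg2E6

open Matrix CfsgLib.MinDegE

/-- An acting orbit: the tables of its two roots (the second one is empty for a fixed root). -/
structure Op (N : ℕ) where
  fx : Bool
  d : ℤ
  a : Table (Fin N)
  b : Table (Fin N)

namespace Op

variable {N : ℕ}

/-- `b` is the transform of `a` by the involution. -/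
def eqv (P : Pat N) (a b : Table (Fin N)) (d : ℤ) : Bool :=
  (List.finRange N).all fun i =>
    decide (b (P.sig i) = (a i).map fun p => (P.sig p.1, p.2 * d * P.eps i * P.eps p.1))

/-- The composition of two steps. -/
def comp (b a : Table (Fin N)) (i : Fin N) : Option (Fin N × ℤ) :=
  (b i).bind fun p => (a p.1).map fun r => (r.1, p.2 * r.2)

variable (O : Op N) (P : Pat N)

/-- The conditions on an acting orbit. -/
def ok : Bool :=
  decide O.a.Nilp && decide O.b.Nilp && decide (O.d = 1 ∨ O.d = -1) &&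
  if O.fx then decide (O.d = 1) && eqv P O.a O.a O.d && (List.finRange N).all (fun i => (O.b i).isNone)
  else eqv P O.a O.b O.d && eqv P O.b O.a O.d &&
    (List.finRange N).all fun i => decide (comp O.b O.a i = comp O.a O.b i)

variable {K : Type*} [Field K] [Fintype K] [DecidableEq K] (q : ℕ)

/-- The admissible parameters. -/
def Par (u : K) : Prop := O.fx = true → u ∈ fixK K q

/-- The transformation of characters. -/
def mv (u : K) (ψ : Fin N → K) : Fin N → K :=
  O.b.move ((O.d : K) * u ^ q) (O.a.move u ψ)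

/-- The transformation of parameters. -/
def dl (u : K) (w : Fin N → K) : Fin N → K :=
  O.a.dual u (O.b.dual ((O.d : K) * u ^ q) w)

variable {O} {P} {q}

theorem mv_dot (u : K) (ψ w : Fin N → K) : O.mv q u ψ ⬝ᵥ w = ψ ⬝ᵥ O.dl q u w := by
  rw [mv, dl, Table.move_dot, Table.move_dot]

theorem dl_add (u : K) (v w : Fin N → K) : O.dl q u (v + w) = O.dl q u v + O.dl q u w := by
  rw [dl, dl, dl, map_add, map_add]

theorem move_eq (a : Table (Fin N)) (u : K) (ψ : Fin N → K) (i : Fin N) :
    a.move u ψ i = ψ i + a.part u ψ i := rfl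

/-- The second step after the first. -/
theorem part_move (a b : Table (Fin N)) (u v : K) (ψ : Fin N → K) (i : Fin N) :
    b.part v (a.move u ψ) i = b.part v ψ i +
      (match comp b a i with | none => 0 | some r => (r.2 : K) * (u * v) * ψ r.1) := by
  rcases hb : b i with _ | ⟨l, e⟩
  · rw [Table.part_none hb, Table.part_none hb, comp, hb, Option.bind_none, add_zero]
  rcases ha : a l with _ | ⟨m, f⟩
  · rw [Table.part_some hb, Table.part_some hb, Table.move_none ha, comp, hb]
    simp [ha]
  · rw [Table.part_some hb, Table.part_some hb, Table.move_some ha, comp, hb]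
    simp only [Option.bind_some, ha, Option.map_some, Int.cast_mul]
    ring

theorem move_comm {a b : Table (Fin N)} (h : ∀ i, comp b a i = comp a b i) (u v : K) (ψ : Fin N → K) :
    b.move v (a.move u ψ) = a.move u (b.move v ψ) := by
  funext i
  rw [move_eq b, move_eq a u (b.move v ψ), part_move, part_move, move_eq a, move_eq b, h i,
    mul_comm u v]
  ring

variable (hP : P.ok = true) (hK : QField K q)

include hP hK

theorem cj_move {a b : Table (Fin N)} {d : ℤ} (hd : d = 1 ∨ d = -1) (h : eqv P a b d = true) (u : K)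
    (φ : Fin N → K) : P.cj q (a.move u φ) = b.move ((d : K) * u ^ q) (P.cj q φ) := by
  simp only [eqv, List.all_eq_true, decide_eq_true_eq] at h
  have key : ∀ i, P.cj q (a.move u φ) (P.sig i) =
      b.move ((d : K) * u ^ q) (P.cj q φ) (P.sig i) := by
    intro i
    obtain ⟨hss, -, hes, -⟩ := Pat.ok_spec hP i
    have hb := h i (List.mem_finRange i)
    rcases ha : a i with _ | ⟨l, e⟩
    · rw [ha] at hb
      rw [Table.move_none (show b (P.sig i) = none from hb), Pat.cj, Pat.cj, hss, Table.move_none ha]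
    · rw [ha] at hb
      rw [Table.move_some (show b (P.sig i) = some (P.sig l, e * d * P.eps i * P.eps l) from hb),
        Pat.cj, Pat.cj, Pat.cj, hss, (Pat.ok_spec hP l).1, hes, (Pat.ok_spec hP l).2.2.1,
        Table.move_some ha, hK.add, mul_pow, mul_pow, hK.cast]
      push_cast
      have hdd : (d : K) * (d : K) = 1 := by rcases hd with rfl | rfl <;> simp
      have he := Pat.eps_sq (K := K) hP l
      linear_combination (-((P.eps i : K) * (e : K) * u ^ q * φ l ^ q) * (P.eps l : K) * (P.eps l : K)) * hdd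
        - ((P.eps i : K) * (e : K) * u ^ q * φ l ^ q) * he
  funext j
  have h2 := key (P.sig j)
  rwa [(Pat.ok_spec hP j).1] at h2

variable (hO : O.ok P = true)

include hO

theorem d_unit : O.d = 1 ∨ O.d = -1 := by
  simp only [ok, Bool.and_eq_true, decide_eq_true_eq] at hO
  exact hO.1.2

theorem nilp : O.a.Nilp ∧ O.b.Nilp := by
  simp only [ok, Bool.and_eq_true, decide_eq_true_eq] at hO
  exact hO.1.1

theorem b_none (hf : O.fx = true) (i : Fin N) : O.b i = none := by
  simp only [ok, hf, if_true, Bool.and_eq_true, List.all_eq_true, Option.isNone_iff_eq_none] at hO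
  exact hO.2.2 i (List.mem_finRange i)

theorem b_move (hf : O.fx = true) (v : K) (ψ : Fin N → K) : O.b.move v ψ = ψ := by
  funext i; exact Table.move_none (b_none hP hK hO hf i)

theorem comm_ab (u v : K) (ψ : Fin N → K) :
    O.b.move v (O.a.move u ψ) = O.a.move u (O.b.move v ψ) := by
  cases hf : O.fx
  · simp only [ok, hf, Bool.false_eq_true, if_false, Bool.and_eq_true, List.all_eq_true,
      decide_eq_true_eq] at hO
    exact move_comm (fun i => hO.2.2 i (List.mem_finRange i)) u v ψ
  · rw [b_move hP hK hO hf, b_move hP hK hO hf]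

theorem cj_mv {u : K} (hu : O.Par q u) (ψ : Fin N → K) :
    P.cj q (O.mv q u ψ) = O.mv q u (P.cj q ψ) := by
  have hd := d_unit hP hK hO
  cases hf : O.fx
  · have hO' := hO
    simp only [ok, hf, Bool.false_eq_true, if_false, Bool.and_eq_true] at hO'
    rw [mv, mv, cj_move hP hK hd hO'.2.1.2, cj_move hP hK hd hO'.2.1.1, mul_pow, hK.cast, hK.conj_conj,
      ← mul_assoc, show (O.d : K) * (O.d : K) = 1 by rcases hd with h | h <;> simp [h], one_mul,
      ← comm_ab hP hK hO]
  · have hO' := hO
    simp only [ok, hf, if_true, Bool.and_eq_true, decide_eq_true_eq] at hO'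
    rw [mv, mv, b_move hP hK hO hf, b_move hP hK hO hf, cj_move hP hK hd hO'.2.1.2, hO'.2.1.1,
      Int.cast_one, one_mul, mem_fixK.1 (hu hf)]

theorem mv_mem {u : K} (hu : O.Par q u) {ψ : Fin N → K} (hψ : ψ ∈ P.W q K) : O.mv q u ψ ∈ P.W q K := by
  rw [Pat.mem_W] at *
  rw [cj_mv hP hK hO hu, hψ]

theorem dl_mem {u : K} (hu : O.Par q u) {w : Fin N → K} (hw : w ∈ P.W q K) : O.dl q u w ∈ P.W q K := by
  rw [Pat.mem_W] at *
  refine sub_eq_zero.1 (dotProduct_eq_zero _ fun ψ => ?_)
  rw [dotProduct_comm, dotProduct_sub, sub_eq_zero, ← Pat.cj_cj hP hK ψ, Pat.cj_dot hP hK, ← mv_dot,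
    ← Pat.cj_dot hP hK (O.mv q u (P.cj q ψ)) w, cj_mv hP hK hO hu, hw, mv_dot]

theorem mv_neg (u : K) (ψ : Fin N → K) : O.mv q (-u) (O.mv q u ψ) = ψ := by
  have e : (O.d : K) * (-u) ^ q = -((O.d : K) * u ^ q) := by rw [hK.neg_pow, mul_neg]
  rw [mv, mv, e, comm_ab hP hK hO, Table.move_neg (nilp hP hK hO).2, Table.move_neg (nilp hP hK hO).1]

theorem mv_neg' (u : K) (ψ : Fin N → K) : O.mv q u (O.mv q (-u) ψ) = ψ := by
  simpa using mv_neg hP hK hO (-u) ψ

theorem par_neg {u : K} (hu : O.Par q u) : O.Par q (-u) := fun h => hK.neg_mem (hu h)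

theorem dl_injective (u : K) : Function.Injective (O.dl q u : (Fin N → K) → Fin N → K) :=
  (Table.dual_injective (nilp hP hK hO).1 u).comp (Table.dual_injective (nilp hP hK hO).2 _)

/-- The action of an element intertwining the family through the tables. -/
theorem act {G V : Type*} [Group G] [AddCommGroup V] [Module ℂ V] {ρ : Representation ℂ G V}
    {Φ : OFam ρ K q N} (hΦ : Φ.P = P) {g : Module.End ℂ V} {u : K} (hu : O.Par q u)
    (h : ∀ w ∈ Φ.W, g * Φ.T w = Φ.T (O.dl q u w) * g) :
    Φ.Act g (O.dl q u) (O.mv q u) := by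
  refine ⟨fun w hw => ?_, fun v _ w _ e => dl_injective hP hK hO u e, fun ψ hψ => ?_, mv_dot u, h⟩
  · rw [OFam.W, hΦ] at hw ⊢; exact dl_mem hP hK hO hu hw
  · rw [OFam.W, hΦ] at hψ ⊢; exact mv_mem hP hK hO hu hψ

end Op

end CfsgLib.MinDeg2E6
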