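import Cfsg.Agent.Lib.MinDeg2E6.Long
import Cfsg.Agent.Lib.MinDeg2E6.Count

set_option autoImplicit false
set_option linter.unusedSectionVars false

/-!
The two halves of the polarisation of the Heisenberg group on an eigenspace of the long root.
-/

namespace CfsgLib.MinDeg2E6

open Cfsg.Lie CfsgLib.ChevStr CfsgLib.Twisted CfsgLib.MinDegE
open scoped MatrixGroups

/-- The sign of the pairing at a place. -/
def sgnP (i : Fin 10) : ℤ := polS.getD i.val 0

theorem pol_pairing : ∀ i j : Fin 10,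
    (i = j → pairTerm chevE6 (rootsOf polB i) (rootsOf polA j) = some (some (71, sgnP i))) ∧
    (i ≠ j → commPair chevE6 (rootsOf polB i) (rootsOf polA j) = true) ∧
    commPair chevE6 (rootsOf polB i) 71 = true ∧ commPair chevE6 (rootsOf polA j) 71 = true := by
  decide +kernel

theorem pol_signs : ∀ i : Fin 10, polPA.sig i = polPB.sig i ∧
    polPA.eps i = sgnP i * sgnP (polPA.sig i) * polPB.eps i ∧ (sgnP i = 1 ∨ sgnP i = -1) := by
  decide +kernel

theorem polPA_ok : polPA.ok = true ∧ polPB.ok = true := by decide +kernel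

variable {K : Type*} [Field K]

/-- The system of the first half. -/
noncomputable def aSys (K : Type*) [Field K] : RSys (coreE6 K) 10 := exSys K polA polA_length polA_comm

/-- The system of the second half. -/
noncomputable def bSys (K : Type*) [Field K] : RSys (coreE6 K) 10 := exSys K polB polB_length polB_comm

/-- The pairing of the halves. -/
def sv (v : Fin 10 → K) : Fin 10 → K := fun i => (sgnP i : K) * v i

theorem sgnP_sq (i : Fin 10) : (sgnP i : K) * (sgnP i : K) = 1 := by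
  rcases (pol_signs i).2.2 with h | h <;> simp [h]

theorem pair_single (j : Fin 10) (u : K) {c : GL chevE6.Idx K} {w : Fin 10 → K} (hc : (aSys K).Rep c w)
    [Fintype K] : (coreE6 K).xGL (rootsOf polB j) u * c =
      (coreE6 K).xGL 71 (sv (Pi.single j u) ⬝ᵥ w) * c * (coreE6 K).xGL (rootsOf polB j) u := by
  classical
  induction w using Fam.pi_induction generalizing c with
  | h0 =>
    rw [exSys_zero hc, dotProduct_zero, (coreE6 K).xGL_zero, one_mul, one_mul, mul_one]
  | hadd v w hv hw =>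
    obtain ⟨a, ha⟩ := exSys_exists (h := polA_comm) (hN := polA_length) v
    obtain ⟨a', ha'⟩ := exSys_exists (h := polA_comm) (hN := polA_length) w
    rw [exSys_unique hc (ha.mul ha'), ← mul_assoc, hv ha, mul_assoc _ _ a', hw ha', dotProduct_add,
      (coreE6 K).xGL_add]
    have hcomm : Commute ((coreE6 K).xGL 71 (sv (Pi.single j u) ⬝ᵥ w)) a := by
      clear hv hc hw ha' a' c
      induction v using Fam.pi_induction generalizing a with
      | h0 => rw [exSys_zero ha]; exact Commute.one_right _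
      | hadd x y hx hy =>
        obtain ⟨b, hb⟩ := exSys_exists (h := polA_comm) (hN := polA_length) x
        obtain ⟨b', hb'⟩ := exSys_exists (h := polA_comm) (hN := polA_length) y
        rw [exSys_unique ha (hb.mul hb')]
        exact (hx b hb).mul_right (hy b' hb')
      | h1 i t =>
        rw [exSys_unique ha (RSys.rep_single i t)]
        exact (xg_gl (commute_of_pair (coreE6 K) (pol_pairing j i).2.2.2 t _)).symm
    simp only [mul_assoc]
    rw [← mul_assoc a, ← hcomm.eq]
    simp only [mul_assoc]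
  | h1 i t =>
    have e : c = (coreE6 K).xGL (rootsOf polA i) t := exSys_unique hc (RSys.rep_single i t)
    rw [e, dotProduct_single, sv]
    rcases eq_or_ne j i with rfl | hji
    · have h1 : (coreE6 K).xGL (rootsOf polB j) u * (coreE6 K).xGL (rootsOf polA j) t =
          (coreE6 K).xGL (rootsOf polA j) t * (coreE6 K).xGL 71 ((sgnP j : K) * u * t) *
            (coreE6 K).xGL (rootsOf polB j) u :=
        congrArg Subtype.val (shift_of_pair (coreE6 K) ((pol_pairing j j).1 rfl) (pol_pairing j j).2.2.1 u t)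
      rw [h1, Pi.single_eq_same,
        ((xg_gl (commute_of_pair (coreE6 K) (pol_pairing j j).2.2.2 t ((sgnP j : K) * u * t)))).eq]
    · rw [Pi.single_eq_of_ne (Ne.symm hji), mul_zero, zero_mul, (coreE6 K).xGL_zero, one_mul,
        (xg_gl (commute_of_pair (coreE6 K) ((pol_pairing j i).2.1 hji) u t)).eq]

/-- The commutator of the two halves. -/
theorem pair_comm [Fintype K] {a c : GL chevE6.Idx K} {v w : Fin 10 → K} (ha : (bSys K).Rep a v)
    (hc : (aSys K).Rep c w) : a * c = (coreE6 K).xGL 71 (sv v ⬝ᵥ w) * c * a := by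
  classical
  induction v using Fam.pi_induction generalizing a with
  | h0 =>
    rw [exSys_zero ha, show sv (0 : Fin 10 → K) = 0 by funext i; simp [sv], zero_dotProduct,
      (coreE6 K).xGL_zero, one_mul, mul_one]
  | hadd v v' hv hv' =>
    obtain ⟨b, hb⟩ := exSys_exists (h := polB_comm) (hN := polB_length) v
    obtain ⟨b', hb'⟩ := exSys_exists (h := polB_comm) (hN := polB_length) v'
    rw [exSys_unique ha (hb.mul hb'), mul_assoc, hv' hb',
      show sv (v + v') = sv v + sv v' by funext i; simp [sv, mul_add], add_dotProduct]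
    have hz : ∀ z : K, Commute ((coreE6 K).xGL 71 z) b := by
      clear hv hv' ha hb' b' a
      induction v using Fam.pi_induction generalizing b with
      | h0 => intro z; rw [exSys_zero hb]; exact Commute.one_right _
      | hadd x y hx hy =>
        obtain ⟨d, hd⟩ := exSys_exists (h := polB_comm) (hN := polB_length) x
        obtain ⟨d', hd'⟩ := exSys_exists (h := polB_comm) (hN := polB_length) y
        intro z
        rw [exSys_unique hb (hd.mul hd')]
        exact (hx d hd z).mul_right (hy d' hd' z)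
      | h1 i t =>
        intro z
        rw [exSys_unique hb (RSys.rep_single i t)]
        exact (xg_gl (commute_of_pair (coreE6 K) (pol_pairing i i).2.2.1 t z)).symm
    rw [← mul_assoc b, ← mul_assoc b, ← (hz _).eq, mul_assoc _ b c, hv hb, add_comm (sv v ⬝ᵥ w),
      (coreE6 K).xGL_add]
    simp only [mul_assoc]
  | h1 j u =>
    rw [exSys_unique ha (RSys.rep_single j u)]
    exact pair_single j u hc

variable [Fintype K] [DecidableEq K] {p n : ℕ} [ExpChar K p]
  (hn : Fintype.card K = (p ^ n) * (p ^ n)) (hq : 2 ≤ p ^ n)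
variable {V : Type*} [AddCommGroup V] [Module ℂ V]
variable (ρ : Representation ℂ ↥(twistedE6 K (p ^ n)) V)

/-- The translation of the characters of the first half. -/
def shift (b : K) (v : Fin 10 → K) : Fin 10 → K := fun i => b * ((sgnP i : K) * v i)

include hn hq

theorem shift_mem {b : K} (hb : b ∈ fixK K (p ^ n)) {v : Fin 10 → K} (hv : v ∈ polPB.W (p ^ n) K) :
    shift b v ∈ polPA.W (p ^ n) K := by
  refine Pat.mem_W.2 (funext fun i => ?_)
  obtain ⟨hs, he, -⟩ := pol_signs i
  have h1 := Pat.apply_sig polPA_ok.2 hv i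
  have hK := QField.of_expChar hn hq
  show (polPA.eps i : K) * (b * ((sgnP (polPA.sig i) : K) * v (polPA.sig i))) ^ (p ^ n) =
    b * ((sgnP i : K) * v i)
  rw [hs] at he ⊢
  rw [h1, mul_pow, mul_pow, mul_pow, mem_fixK.1 hb, hK.cast, hK.cast, hK.conj_conj, he]
  push_cast
  have e1 := sgnP_sq (K := K) (polPB.sig i)
  have e2 := Pat.eps_sq (K := K) polPA_ok.2 i
  linear_combination ((sgnP i : K) * b * v i * (polPB.eps i : K) * (polPB.eps i : K)) * e1 +
    ((sgnP i : K) * b * v i) * e2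

theorem shift_bij {b : K} (hb : b ∈ fixK K (p ^ n)) (hb0 : b ≠ 0) :
    ∀ η ∈ polPA.W (p ^ n) K, ∃ v ∈ polPB.W (p ^ n) K, shift b v = η := by
  intro η hη
  refine ⟨fun i => b⁻¹ * ((sgnP i : K) * η i), ?_, funext fun i => ?_⟩
  · refine Pat.mem_W.2 (funext fun i => ?_)
    obtain ⟨hs, he, -⟩ := pol_signs i
    have h1 := Pat.apply_sig polPA_ok.1 hη i
    have hK := QField.of_expChar hn hq
    rw [hs] at he h1
    show (polPB.eps i : K) * (b⁻¹ * ((sgnP (polPB.sig i) : K) * η (polPB.sig i))) ^ (p ^ n) =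
      b⁻¹ * ((sgnP i : K) * η i)
    rw [h1, mul_pow, mul_pow, mul_pow, inv_pow, mem_fixK.1 hb, hK.cast, hK.cast, hK.conj_conj, he]
    push_cast
    have e1 := sgnP_sq (K := K) (polPB.sig i)
    have e2 := Pat.eps_sq (K := K) polPA_ok.2 i
    linear_combination ((sgnP i : K) * b⁻¹ * η i * (polPB.eps i : K) * (polPB.eps i : K)) * e1 +
      ((sgnP i : K) * b⁻¹ * η i) * e2
  · show b * ((sgnP i : K) * (b⁻¹ * ((sgnP i : K) * η i))) = η i
    have e := sgnP_sq (K := K) i
    field_simp
    linear_combination η i * e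

theorem polA_onImage {b : K} (hb : b ∈ fixK K (p ^ n)) :
    (aSys K).OnImage polPA (p ^ n) ρ (eb hn hq ρ b) where
  ok := polPA_ok.1
  qf := QField.of_expChar hn hq
  idem := idem_eb hn hq ρ hb
  gen i a ha := by
    refine ⟨el K (p ^ n) ((aSys K).R i) a, el_rep hn hq (S := aSys K) polA_pat i ha,
      commute_eb hn hq ρ ?_ b⟩
    obtain ⟨h1, h2, -, h4⟩ := patCheck_spec polA_pat i
    have hc : ∀ j, commPair chevE6 (rootsOf polA j) 71 = true := fun j => (pol_pairing j j).2.2.2
    rw [coe_el hn hq (show orbOK ((aSys K).R i) = true from h4) fun e => mem_fixK.1 (ha (h2.2 e)), orbGL]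
    split_ifs
    · exact xGL_mem_alphaCent (hc i) a
    · refine mul_mem (xGL_mem_alphaCent (hc i) a) (xGL_mem_alphaCent ?_ _)
      show commPair chevE6 (e6Sym.root (rootsOf polA i)) 71 = true
      rw [← h1]; exact hc _
  triv m hm := by
    have h1 : m = 1 := Subtype.ext (exSys_zero hm)
    rw [h1, map_one, one_mul]
    exact ⟨rfl, Commute.one_left _⟩

theorem polB_onImage : (bSys K).OnImage polPB (p ^ n) ρ 1 where
  ok := polPA_ok.2
  qf := QField.of_expChar hn hq
  idem := one_mul 1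
  gen i a ha := ⟨el K (p ^ n) ((bSys K).R i) a, el_rep hn hq (S := bSys K) polB_pat i ha,
    Commute.one_right _⟩
  triv m hm := by
    have h1 : m = 1 := Subtype.ext (exSys_zero hm)
    rw [h1, map_one, mul_one]
    exact ⟨rfl, Commute.one_right _⟩

/-- The first half on an eigenspace. -/
noncomputable def aFam {b : K} (hb : b ∈ fixK K (p ^ n)) : OFam ρ K (p ^ n) 10 :=
  RSys.fam (polA_onImage hn hq ρ hb)

/-- The second half on the whole space. -/
noncomputable def bFam : OFam ρ K (p ^ n) 10 := RSys.fam (polB_onImage hn hq ρ)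

theorem aFam_W {b : K} (hb : b ∈ fixK K (p ^ n)) :
    (aFam hn hq ρ hb).W = polPA.W (p ^ n) K := rfl

theorem bT_commute_eb {v : Fin 10 → K} (hv : v ∈ polPB.W (p ^ n) K) (b : K) :
    Commute ((bFam hn hq ρ).T v) (eb hn hq ρ b) := by
  obtain ⟨h, hh, -⟩ := (polB_onImage hn hq ρ).exists_rep hv
  rw [bFam, RSys.fam_T _ hh, mul_one]
  refine commute_eb hn hq ρ ?_ b
  rw [mem_alphaCent]
  intro t
  obtain ⟨a, ha⟩ : ∃ a, (bSys K).Rep a v := ⟨_, hh⟩
  rw [exSys_unique hh ha]
  clear hh h hv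
  induction v using Fam.pi_induction generalizing a with
  | h0 => rw [exSys_zero ha]; exact Commute.one_right _
  | hadd x y hx hy =>
    obtain ⟨d, hd⟩ := exSys_exists (h := polB_comm) (hN := polB_length) x
    obtain ⟨d', hd'⟩ := exSys_exists (h := polB_comm) (hN := polB_length) y
    rw [exSys_unique ha (hd.mul hd')]
    exact (hx d hd).mul_right (hy d' hd')
  | h1 i u =>
    rw [exSys_unique ha (RSys.rep_single i u)]
    exact (xg_gl (commute_of_pair (coreE6 K) (pol_pairing i i).2.2.1 u t)).symm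

theorem bT_intertwine {b : K} (hb : b ∈ fixK K (p ^ n)) {v : Fin 10 → K} (hv : v ∈ polPB.W (p ^ n) K)
    {w : Fin 10 → K} (hw : w ∈ polPA.W (p ^ n) K) :
    (bFam hn hq ρ).T v * (aFam hn hq ρ hb).T w =
      chr K (shift b v ⬝ᵥ w) • ((aFam hn hq ρ hb).T w * (bFam hn hq ρ).T v) := by
  have hcomm := bT_commute_eb hn hq ρ hv b
  obtain ⟨x, hx, -⟩ := (polB_onImage hn hq ρ).exists_rep hv
  obtain ⟨y, hy, -⟩ := (polA_onImage hn hq ρ hb).exists_rep hw
  rw [bFam, RSys.fam_T _ hx, mul_one] at hcomm ⊢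
  rw [aFam, RSys.fam_T _ hy]
  set t := sv v ⬝ᵥ w with ht
  have hdot : shift b v ⬝ᵥ w = b * t := by
    rw [ht, dotProduct, dotProduct, Finset.mul_sum]
    exact Finset.sum_congr rfl fun i _ => by simp [shift, sv, mul_assoc]
  have htk : t ∈ fixK K (p ^ n) := by
    have h1 := Pat.dot_mem polPA_ok.1 (QField.of_expChar hn hq)
      (shift_mem hn hq (QField.of_expChar hn hq).one_mem hv) hw
    rwa [show shift (1 : K) v = sv v by funext i; simp [shift, sv]] at h1
  have e : x * y = el K (p ^ n) 71 t * y * x := Subtype.ext (by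
    simp only [Subgroup.coe_mul, coe_el71 hn hq htk]
    exact pair_comm hx hy)
  have heby : Commute (ρ y) (eb hn hq ρ b) := (polA_onImage hn hq ρ hb).commute hw hy
  calc ρ x * (ρ y * eb hn hq ρ b) = ρ (el K (p ^ n) 71 t) * ρ y * ρ x * eb hn hq ρ b := by
        rw [← mul_assoc, ← map_mul, e, map_mul, map_mul]
    _ = ρ (el K (p ^ n) 71 t) * eb hn hq ρ b * (ρ y * ρ x) := by
        rw [mul_assoc _ (ρ x), hcomm.eq, ← mul_assoc, mul_assoc _ (ρ y), heby.eq, ← mul_assoc,
          mul_assoc _ (ρ y) (ρ x)]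
    _ = chr K (b * t) • (eb hn hq ρ b * (ρ y * ρ x)) := by
        rw [rho_alpha_eb hn hq ρ htk, smul_mul_assoc]
    _ = _ := by rw [hdot, ← mul_assoc, ← heby.eq]

theorem pr_translate {b : K} (hb : b ∈ fixK K (p ^ n)) {v : Fin 10 → K} (hv : v ∈ polPB.W (p ^ n) K)
    (ψ : Fin 10 → K) :
    (bFam hn hq ρ).T v * (aFam hn hq ρ hb).pr (ψ + shift b v) =
      (aFam hn hq ρ hb).pr ψ * (bFam hn hq ρ).T v := by
  have h1 : ∀ w ∈ (aFam hn hq ρ hb).W, (bFam hn hq ρ).T v * (aFam hn hq ρ hb).T w =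
      chr K (shift b v ⬝ᵥ w) • ((aFam hn hq ρ hb).T (id w) * (bFam hn hq ρ).T v) := by
    intro w hw
    rw [aFam_W] at hw
    rw [id]
    exact bT_intertwine hn hq ρ hb hv hw
  have h2 : ∀ w ∈ (aFam hn hq ρ hb).W, (ψ + shift b v) ⬝ᵥ w = ψ ⬝ᵥ id w + shift b v ⬝ᵥ w :=
    fun w _ => by rw [id, add_dotProduct]
  have e1 : ∀ w ∈ (aFam hn hq ρ hb).W, id w ∈ (aFam hn hq ρ hb).W := fun w h => by rw [id]; exact h
  have e2 : ∀ v ∈ (aFam hn hq ρ hb).W, ∀ w ∈ (aFam hn hq ρ hb).W, id v = id w → v = w :=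
    fun v _ w _ e => by rwa [id, id] at e
  exact OFam.mul_pr (aFam hn hq ρ hb) (A := id) e1 e2 (η := shift b v) h1 h2

theorem pr_shift {b : K} (hb : b ∈ fixK K (p ^ n)) {v : Fin 10 → K} (hv : v ∈ polPB.W (p ^ n) K) :
    (aFam hn hq ρ hb).pr (shift b v) =
      (bFam hn hq ρ).T (-v) * (aFam hn hq ρ hb).pr 0 * (bFam hn hq ρ).T v := by
  have hK := QField.of_expChar hn hq
  rw [mul_assoc, ← pr_translate hn hq ρ hb hv 0, ← mul_assoc,
    (bFam hn hq ρ).T_add (-v) (Pat.neg_mem polPA_ok.2 hK hv) v hv, neg_add_cancel,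
    (bFam hn hq ρ).T_zero, zero_add]
  exact (one_mul _).symm

variable [FiniteDimensional ℂ V]

theorem dimPr_shift {b : K} (hb : b ∈ fixK K (p ^ n)) {v : Fin 10 → K} (hv : v ∈ polPB.W (p ^ n) K) :
    (aFam hn hq ρ hb).dimPr (shift b v) = (aFam hn hq ρ hb).dimPr 0 := by
  have hK := QField.of_expChar hn hq
  have h := congrArg (LinearMap.trace ℂ V) (pr_shift hn hq ρ hb hv)
  rw [LinearMap.trace_mul_comm, ← mul_assoc, (bFam hn hq ρ).T_add v hv (-v)
    (Pat.neg_mem polPA_ok.2 hK hv), add_neg_cancel, (bFam hn hq ρ).T_zero,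
    (aFam hn hq ρ hb).trace_pr (shift_mem hn hq hb hv)] at h
  rw [show (bFam hn hq ρ).E * (aFam hn hq ρ hb).pr 0 = (aFam hn hq ρ hb).pr 0 from one_mul _,
    (aFam hn hq ρ hb).trace_pr (Pat.zero_mem polPA_ok.1 hK)] at h
  exact_mod_cast h

omit hn hq in
theorem pol_reps : (([0, 1, 2, 4, 6, 7, 8] : List (Fin 10)).flatMap polPA.orb).Nodup ∧
    (∀ j : Fin 10, j ∈ ([0, 1, 2, 4, 6, 7, 8] : List (Fin 10)).flatMap polPA.orb) ∧
    (([0, 1, 2, 4, 6, 7, 8] : List (Fin 10)).flatMap polPA.orb).length = 10 := by decide +kernel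

theorem dN_eq {b : K} (hb : b ∈ fixK K (p ^ n)) (hb0 : b ≠ 0) :
    dN hn hq ρ = (p ^ n) ^ 10 * (aFam hn hq ρ hb).dimPr 0 := by
  have hK := QField.of_expChar hn hq
  have h1 := (aFam hn hq ρ hb).trace_E
  rw [show (aFam hn hq ρ hb).E = eb hn hq ρ b from rfl, trace_eb hn hq ρ hb hb0] at h1
  have h2 : dN hn hq ρ = ∑ ψ ∈ (aFam hn hq ρ hb).W, (aFam hn hq ρ hb).dimPr ψ := by exact_mod_cast h1
  rw [h2, Finset.sum_congr rfl (g := fun _ => (aFam hn hq ρ hb).dimPr 0) fun ψ hψ => by
    obtain ⟨v, hv, rfl⟩ := shift_bij hn hq hb hb0 ψ hψ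
    exact dimPr_shift hn hq ρ hb hv]
  obtain ⟨r1, r2, r3⟩ := pol_reps
  rw [Finset.sum_const, smul_eq_mul, show (aFam hn hq ρ hb).W = polPA.W (p ^ n) K from rfl,
    Pat.card_W polPA_ok.1 hK r1 r2, r3]

end CfsgLib.MinDeg2E6
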