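import Cfsg.Agent.Lib.MinDeg2E6.Strata
import Cfsg.Agent.Lib.MinDegE.Conn

set_option autoImplicit false
set_option linter.unusedSectionVars false

/-!
Vectors of root parameters in a central quotient of a subgroup of a Chevalley group.
-/

namespace CfsgLib.MinDeg2E6

open Cfsg.Lie CfsgLib.ChevStr CfsgLib.MinDegE
open scoped MatrixGroups

/-- A list of roots whose elements commute modulo a normal subgroup `M` of `Γ`. -/
structure RSys {D : ChevalleyDatum} {K : Type*} [Field K] (C : ChevCore D K) (N : ℕ) where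
  R : Fin N → ℕ
  Γ : Subgroup (GL D.Idx K)
  M : Subgroup Γ
  normal : M.Normal
  mem : ∀ i t, C.xGL (R i) t ∈ Γ
  comm : ∀ i j, i ≠ j → ∀ t u,
    Commute (QuotientGroup.mk (s := M) ⟨C.xGL (R i) t, mem i t⟩ : Γ ⧸ M)
      (QuotientGroup.mk (s := M) ⟨C.xGL (R j) u, mem j u⟩)

namespace RSys

variable {D : ChevalleyDatum} {K : Type*} [Field K] {C : ChevCore D K} {N : ℕ} (S : RSys C N)

instance : S.M.Normal := S.normal

/-- The class of one root element. -/
def gi (i : Fin N) : Multiplicative K →* (S.Γ ⧸ S.M) where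
  toFun t := QuotientGroup.mk ⟨C.xGL (S.R i) t.toAdd, S.mem i _⟩
  map_one' := by
    rw [← QuotientGroup.mk_one]
    exact congrArg QuotientGroup.mk (Subtype.ext (C.xGL_zero _))
  map_mul' t u := by
    rw [← QuotientGroup.mk_mul]
    exact congrArg QuotientGroup.mk (Subtype.ext (C.xGL_add _ t.toAdd u.toAdd))

theorem pairwise_gi : Pairwise fun i j : Fin N =>
    ∀ (t : Multiplicative K) (u : Multiplicative K), Commute (S.gi i t) (S.gi j u) :=
  fun i j hij t u => S.comm i j hij t.toAdd u.toAdd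

/-- The class of a vector. -/
noncomputable def X (w : Fin N → K) : S.Γ ⧸ S.M :=
  MonoidHom.noncommPiCoprod S.gi S.pairwise_gi fun i => Multiplicative.ofAdd (w i)

theorem X_add (v w : Fin N → K) : S.X (v + w) = S.X v * S.X w := by
  rw [X, X, X, ← map_mul]; rfl

theorem X_zero : S.X 0 = 1 := by
  rw [X]; exact map_one _

theorem X_single (i : Fin N) (t : K) :
    S.X (Pi.single i t) = QuotientGroup.mk ⟨C.xGL (S.R i) t, S.mem i t⟩ := by
  have h : (fun j => Multiplicative.ofAdd ((Pi.single i t : Fin N → K) j)) =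
      (Pi.mulSingle i (Multiplicative.ofAdd t) : Fin N → Multiplicative K) := by
    funext j
    rcases eq_or_ne j i with rfl | hj
    · simp
    · simp [hj]
  rw [X, h, MonoidHom.noncommPiCoprod_mulSingle]
  rfl

/-- The element `h` represents the vector `w`. -/
def Rep (h : GL D.Idx K) (w : Fin N → K) : Prop :=
  ∃ hh : h ∈ S.Γ, (QuotientGroup.mk ⟨h, hh⟩ : S.Γ ⧸ S.M) = S.X w

variable {S}

theorem rep_one : S.Rep 1 0 := ⟨one_mem _, by rw [S.X_zero, ← QuotientGroup.mk_one]; rfl⟩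

theorem rep_single (i : Fin N) (t : K) : S.Rep (C.xGL (S.R i) t) (Pi.single i t) :=
  ⟨S.mem i t, (S.X_single i t).symm⟩

theorem Rep.mul {a b : GL D.Idx K} {v w : Fin N → K} (ha : S.Rep a v) (hb : S.Rep b w) :
    S.Rep (a * b) (v + w) := by
  obtain ⟨ha, ea⟩ := ha
  obtain ⟨hb, eb⟩ := hb
  exact ⟨mul_mem ha hb, by rw [S.X_add, ← ea, ← eb, ← QuotientGroup.mk_mul]; rfl⟩

theorem Rep.inv {a : GL D.Idx K} {v : Fin N → K} (ha : S.Rep a v) : S.Rep a⁻¹ (-v) := by
  obtain ⟨ha, ea⟩ := ha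
  refine ⟨inv_mem ha, ?_⟩
  rw [show (⟨a⁻¹, inv_mem ha⟩ : S.Γ) = ⟨a, ha⟩⁻¹ from rfl, QuotientGroup.mk_inv, ea,
    inv_eq_iff_mul_eq_one, ← S.X_add, add_neg_cancel, S.X_zero]

variable (S) in
/-- Conjugation by `g` induces `A` on the vectors. -/
def Twist (g : GL D.Idx K) (A : (Fin N → K) → Fin N → K) : Prop :=
  ∀ h w, S.Rep h w → S.Rep (g * h * g⁻¹) (A w)

theorem Twist.mul {g g' : GL D.Idx K} {A A' : (Fin N → K) → Fin N → K} (h : S.Twist g A)
    (h' : S.Twist g' A') : S.Twist (g * g') (A ∘ A') := fun x w hx => by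
  rw [show g * g' * x * (g * g')⁻¹ = g * (g' * x * g'⁻¹) * g⁻¹ by group]
  exact h _ _ (h' x w hx)

/-- Conjugation by an element of `Γ` is determined on the single coordinates. -/
theorem twist_of_single [Fintype K] {g : GL D.Idx K} (hg : g ∈ S.Γ) (A : (Fin N → K) →+ (Fin N → K))
    (h : ∀ i t, S.Rep (g * C.xGL (S.R i) t * g⁻¹) (A (Pi.single i t))) : S.Twist g A := by
  intro x w hx
  obtain ⟨hx, ex⟩ := hx
  refine ⟨mul_mem (mul_mem hg hx) (inv_mem hg), ?_⟩
  have key : ∀ v : Fin N → K, (QuotientGroup.mk ⟨g, hg⟩ : S.Γ ⧸ S.M) * S.X v *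
      (QuotientGroup.mk ⟨g, hg⟩ : S.Γ ⧸ S.M)⁻¹ = S.X (A v) := by
    intro v
    induction v using Fam.pi_induction with
    | h0 => rw [map_zero, S.X_zero, mul_one, mul_inv_cancel]
    | hadd a b ha hb =>
      rw [S.X_add, map_add, S.X_add, ← ha, ← hb]
      group
    | h1 i t =>
      obtain ⟨hm, e⟩ := h i t
      rw [← e, S.X_single, ← QuotientGroup.mk_inv, ← QuotientGroup.mk_mul, ← QuotientGroup.mk_mul]
      rfl
  rw [← key, ← ex, ← QuotientGroup.mk_inv, ← QuotientGroup.mk_mul, ← QuotientGroup.mk_mul]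
  rfl

/-- The action table of a root element is correct. -/
def tblCheck (D : ChevalleyDatum) (R : Fin N → ℕ) (s : ℕ) (a : Table (Fin N)) : Bool :=
  (List.finRange N).all fun i =>
    match a i with
    | none => commPair D s (R i)
    | some (l, e) => decide (pairTerm D s (R i) = some (some (R l, e))) && commPair D s (R l)

theorem twist_root [Fintype K] {s : ℕ} {a : Table (Fin N)} (hc : tblCheck D S.R s a = true) {u : K}
    (hs : C.xGL s u ∈ S.Γ) : S.Twist (C.xGL s u) (a.dual u) := by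
  refine twist_of_single hs (a.dual u) fun i t => ?_
  simp only [tblCheck, List.all_eq_true] at hc
  have h := hc i (List.mem_finRange i)
  rw [Table.dual_single]
  rcases ha : a i with _ | ⟨l, e⟩
  · rw [ha] at h
    have e1 : C.xGL s u * C.xGL (S.R i) t = C.xGL (S.R i) t * C.xGL s u :=
      congrArg Subtype.val (commute_of_pair C h u t).eq
    rw [Table.col_none ha, add_zero, e1, mul_inv_cancel_right]
    exact rep_single i t
  · rw [ha] at h
    simp only [Bool.and_eq_true, decide_eq_true_eq] at h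
    have e1 : C.xGL s u * C.xGL (S.R i) t =
        C.xGL (S.R i) t * C.xGL (S.R l) ((e : K) * u * t) * C.xGL s u :=
      congrArg Subtype.val (shift_of_pair C h.1 h.2 u t)
    rw [Table.col_some ha, e1, mul_inv_cancel_right]
    exact (rep_single i t).mul (rep_single l _)

/-! ### The family of a representation -/

variable [Fintype K] [DecidableEq K] {q : ℕ} {H : Subgroup (GL D.Idx K)}
variable {V : Type*} [AddCommGroup V] [Module ℂ V] {ρ : Representation ℂ H V}

variable (S) in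
/-- The hypotheses giving a family on the image of `E`. -/
structure OnImage (P : Pat N) (q : ℕ) (ρ : Representation ℂ H V) (E : Module.End ℂ V) : Prop where
  ok : P.ok = true
  qf : QField K q
  idem : E * E = E
  gen : ∀ i a, (P.sig i = i → a ∈ fixK K q) →
    ∃ h : H, S.Rep h (Pat.uvec P q i a) ∧ Commute (ρ h) E
  triv : ∀ m : H, S.Rep m 0 → ρ m * E = E ∧ Commute (ρ m) E

variable {P : Pat N} {E : Module.End ℂ V}

theorem OnImage.exists_rep (hI : S.OnImage P q ρ E) {w : Fin N → K} (hw : w ∈ P.W q K) :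
    ∃ h : H, S.Rep h w ∧ Commute (ρ h) E := by
  refine Pat.induction hI.ok hI.qf
    (p := fun v => ∃ h : H, S.Rep h v ∧ Commute (ρ h) E)
    ⟨1, rep_one, by rw [map_one]; exact Commute.one_left E⟩ ?_ hI.gen hw
  rintro v - u - ⟨a, ha, ha'⟩ ⟨b, hb, hb'⟩
  exact ⟨a * b, ha.mul hb, by rw [map_mul]; exact ha'.mul_left hb'⟩

theorem OnImage.commute (hI : S.OnImage P q ρ E) {h : H} {w : Fin N → K} (hw : w ∈ P.W q K)
    (hh : S.Rep h w) : Commute (ρ h) E := by
  obtain ⟨h', hr, hc⟩ := hI.exists_rep hw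
  have hm := hr.inv.mul hh
  rw [neg_add_cancel] at hm
  have := (hI.triv (h'⁻¹ * h) hm).2
  rw [show ρ h = ρ h' * ρ (h'⁻¹ * h) by rw [← map_mul, mul_inv_cancel_left]]
  exact hc.mul_left this

open Classical in
/-- The family. -/
noncomputable def fam (hI : S.OnImage P q ρ E) : OFam ρ K q N where
  P := P
  ok := hI.ok
  qf := hI.qf
  E := E
  idem := hI.idem
  T w := if h : ∃ x : H, S.Rep x w then ρ h.choose * E else 0
  T_zero := by
    have hex : ∃ x : H, S.Rep x 0 := ⟨1, rep_one⟩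
    rw [dif_pos hex]
    exact (hI.triv _ hex.choose_spec).1
  T_add v hv w hw := by
    obtain ⟨a, ha, -⟩ := hI.exists_rep hv
    obtain ⟨b, hb, -⟩ := hI.exists_rep hw
    have hexv : ∃ x : H, S.Rep x v := ⟨a, ha⟩
    have hexw : ∃ x : H, S.Rep x w := ⟨b, hb⟩
    have hex : ∃ x : H, S.Rep x (v + w) := ⟨a * b, ha.mul hb⟩
    rw [dif_pos hexv, dif_pos hexw, dif_pos hex]
    set x := hexv.choose
    set y := hexw.choose
    set z := hex.choose
    have hm : S.Rep ((x * y)⁻¹ * z : H) 0 := by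
      have h1 := (hexv.choose_spec.mul hexw.choose_spec).inv.mul hex.choose_spec
      rw [neg_add_cancel] at h1
      exact h1
    rw [mul_assoc (ρ x), ← mul_assoc E, ← (hI.commute hw hexw.choose_spec).eq, mul_assoc, hI.idem,
      show ρ z = ρ x * ρ y * ρ ((x * y)⁻¹ * z) by rw [← map_mul, ← map_mul, mul_inv_cancel_left],
      mul_assoc (ρ x * ρ y), (hI.triv _ hm).1, mul_assoc]

theorem fam_T (hI : S.OnImage P q ρ E) {h : H} {w : Fin N → K} (hh : S.Rep h w) :
    (fam hI).T w = ρ h * E := by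
  classical
  have hex : ∃ x : H, S.Rep x w := ⟨h, hh⟩
  dsimp only [fam]
  rw [dif_pos hex]
  have hm : S.Rep ((h⁻¹ * hex.choose : H) : GL D.Idx K) 0 := by
    have h1 := hh.inv.mul hex.choose_spec
    rw [neg_add_cancel] at h1
    exact h1
  conv_lhs => rw [show ρ hex.choose = ρ h * ρ (h⁻¹ * hex.choose) by rw [← map_mul, mul_inv_cancel_left]]
  rw [mul_assoc, (hI.triv _ hm).1]

theorem fam_twine (hI : S.OnImage P q ρ E) {g : H} {A : (Fin N → K) → Fin N → K}
    (hg : S.Twist (g : GL D.Idx K) A) (hgE : Commute (ρ g) E) {w : Fin N → K} (hw : w ∈ P.W q K) :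
    ρ g * (fam hI).T w = (fam hI).T (A w) * ρ g := by
  obtain ⟨h, hh, -⟩ := hI.exists_rep hw
  rw [fam_T hI hh, fam_T hI (h := g * h * g⁻¹) (hg _ _ hh), mul_assoc (ρ (g * h * g⁻¹)), ← hgE.eq,
    ← mul_assoc, ← mul_assoc, ← map_mul, ← map_mul, inv_mul_cancel_right]

theorem fam_act (hI : S.OnImage P q ρ E) {O : Op N} (hO : O.ok P = true) {g : H} {u : K}
    (hu : O.Par q u) (hg : S.Twist (g : GL D.Idx K) (O.dl q u)) (hgE : Commute (ρ g) E) :
    (fam hI).Act (ρ g) (O.dl q u) (O.mv q u) :=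
  Op.act hI.ok hI.qf hO rfl hu fun w hw => fam_twine hI hg hgE hw

end RSys

end CfsgLib.MinDeg2E6
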