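import Cfsg.Agent.Lib.MinDeg2E6.Checks

set_option autoImplicit false
set_option linter.unusedSectionVars false

/-!
The systems of roots of the descent in ²E₆(q), transport of traces, and the long root on the whole
space.
-/

namespace CfsgLib.MinDeg2E6

open Cfsg.Lie CfsgLib.ChevStr CfsgLib.Twisted CfsgLib.MinDegE
open scoped MatrixGroups

variable {K : Type*} [Field K]

theorem rootsOf_mem {R : List ℕ} {N : ℕ} (hN : N = R.length) (i : Fin N) : rootsOf R i ∈ R := by
  subst hN
  show R.getD i.val 0 ∈ R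
  rw [List.getD_eq_getElem _ _ i.isLt]
  exact List.getElem_mem _

theorem commR_spec {R : List ℕ} (h : commR R = true) {r s : ℕ} (hr : r ∈ R) (hs : s ∈ R) :
    commPair chevE6 r s = true := by
  simp only [commR, List.all_eq_true] at h
  exact h r hr s hs

theorem commMod_spec {R : List ℕ} {a : ℕ} (h : commMod R a = true) {r : ℕ} (hr : r ∈ R) :
    commPair chevE6 r a = true ∧ ∀ s ∈ R, r = s ∨ commPair chevE6 r s = true ∨
      ∃ e : ℤ, pairTerm chevE6 r s = some (some (a, e)) := by
  simp only [commMod, List.all_eq_true, Bool.and_eq_true, Bool.or_eq_true, decide_eq_true_eq] at h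
  refine ⟨(h r hr).1, fun s hs => ?_⟩
  rcases (h r hr).2 s hs with (h1 | h1) | h1 | h1
  · exact Or.inl h1
  · exact Or.inr (Or.inl h1)
  · exact Or.inr (Or.inr ⟨1, h1⟩)
  · exact Or.inr (Or.inr ⟨-1, h1⟩)

/-- The elements commuting with the long root subgroup. -/
noncomputable def alphaCent (K : Type*) [Field K] : Subgroup (GL chevE6.Idx K) :=
  Subgroup.centralizer (Set.range ((coreE6 K).xGL 71))

theorem mem_alphaCent {g : GL chevE6.Idx K} :
    g ∈ alphaCent K ↔ ∀ t, Commute ((coreE6 K).xGL 71 t) g := by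
  simp [alphaCent, Subgroup.mem_centralizer_iff, Commute, SemiconjBy]

theorem xGL_mem_alphaCent {r : ℕ} (h : commPair chevE6 r 71 = true) (t : K) :
    (coreE6 K).xGL r t ∈ alphaCent K :=
  mem_alphaCent.2 fun u => (xg_gl (commute_of_pair (coreE6 K) h t u)).symm

/-- The long root subgroup. -/
noncomputable def alphaHom (K : Type*) [Field K] : Multiplicative K →* GL chevE6.Idx K where
  toFun t := (coreE6 K).xGL 71 t.toAdd
  map_one' := (coreE6 K).xGL_zero _
  map_mul' t u := (coreE6 K).xGL_add _ t.toAdd u.toAdd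

theorem alpha_normal : ((alphaHom K).range.subgroupOf (alphaCent K)).Normal := by
  refine ⟨fun m hm g => ?_⟩
  obtain ⟨t, ht⟩ := hm
  refine ⟨t, ?_⟩
  have hc := mem_alphaCent.1 g.2 t.toAdd
  change _ = (g : GL chevE6.Idx K) * (m : GL chevE6.Idx K) * (g : GL chevE6.Idx K)⁻¹
  rw [show (m : GL chevE6.Idx K) = alphaHom K t from ht.symm]
  show (coreE6 K).xGL 71 t.toAdd = (g : GL chevE6.Idx K) * (coreE6 K).xGL 71 t.toAdd * _
  rw [← hc.eq, mul_inv_cancel_right]

instance alpha_quot_normal : ((alphaHom K).range.subgroupOf (alphaCent K)).Normal := alpha_normal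

/-- Commuting roots. -/
noncomputable def exSys (K : Type*) [Field K] (R : List ℕ) {N : ℕ} (hN : N = R.length)
    (h : commR R = true) : RSys (coreE6 K) N where
  R := rootsOf R
  Γ := ⊤
  M := ⊥
  normal := inferInstance
  mem _ _ := trivial
  comm i j _ t u :=
    (show Commute (⟨_, trivial⟩ : (⊤ : Subgroup (GL chevE6.Idx K))) ⟨_, trivial⟩ from Subtype.ext
      (xg_gl (commute_of_pair (coreE6 K) (commR_spec h (rootsOf_mem hN i) (rootsOf_mem hN j)) t u)).eq).map
      (QuotientGroup.mk' _)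

theorem exSys_unique {R : List ℕ} {N : ℕ} {hN : N = R.length} {h : commR R = true}
    {a b : GL chevE6.Idx K} {w : Fin N → K} (ha : (exSys K R hN h).Rep a w)
    (hb : (exSys K R hN h).Rep b w) : a = b := by
  obtain ⟨_, ea⟩ := ha
  obtain ⟨_, eb⟩ := hb
  have h1 := ea.trans eb.symm
  rw [QuotientGroup.eq] at h1
  have h2 := congrArg Subtype.val ((Subgroup.mem_bot).1 h1)
  exact inv_mul_eq_one.1 h2

theorem exSys_zero {R : List ℕ} {N : ℕ} {hN : N = R.length} {h : commR R = true}
    {a : GL chevE6.Idx K} (ha : (exSys K R hN h).Rep a 0) : a = 1 :=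
  exSys_unique ha RSys.rep_one

theorem exSys_exists [Fintype K] {R : List ℕ} {N : ℕ} {hN : N = R.length} {h : commR R = true}
    (w : Fin N → K) : ∃ a, (exSys K R hN h).Rep a w := by
  induction w using Fam.pi_induction with
  | h0 => exact ⟨1, RSys.rep_one⟩
  | hadd v w hv hw => exact ⟨_, hv.choose_spec.mul hw.choose_spec⟩
  | h1 i t => exact ⟨_, RSys.rep_single i t⟩

theorem top_length : 20 = topR.length := by decide
theorem low_length : 9 = lowR.length := by decide
theorem polA_length : 10 = polA.length := by decide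
theorem polB_length : 10 = polB.length := by decide
theorem alpha_length : 1 = [71].length := by decide

theorem alpha_comm : commR [71] = true := by decide +kernel

/-- The roots of the Heisenberg quotient. -/
noncomputable def topSys (K : Type*) [Field K] : RSys (coreE6 K) 20 where
  R := rootsOf topR
  Γ := alphaCent K
  M := (alphaHom K).range.subgroupOf (alphaCent K)
  normal := alpha_normal
  mem i t := xGL_mem_alphaCent (commMod_spec top_comm (rootsOf_mem top_length i)).1 t
  comm i j _ t u := by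
    obtain ⟨h1, h2⟩ := commMod_spec top_comm (rootsOf_mem top_length i)
    rcases h2 _ (rootsOf_mem top_length j) with h3 | h3 | ⟨e, he⟩
    · show _ * _ = _ * _
      rw [← QuotientGroup.mk_mul, ← QuotientGroup.mk_mul]
      refine congrArg QuotientGroup.mk (Subtype.ext ?_)
      show (coreE6 K).xGL _ t * (coreE6 K).xGL _ u = (coreE6 K).xGL _ u * (coreE6 K).xGL _ t
      rw [h3, ← (coreE6 K).xGL_add, ← (coreE6 K).xGL_add, add_comm]
    · show _ * _ = _ * _
      rw [← QuotientGroup.mk_mul, ← QuotientGroup.mk_mul]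
      exact congrArg QuotientGroup.mk (Subtype.ext (xg_gl (commute_of_pair (coreE6 K) h3 t u)).eq)
    · show _ * _ = _ * _
      rw [← QuotientGroup.mk_mul, ← QuotientGroup.mk_mul, QuotientGroup.eq, Subgroup.mem_subgroupOf]
      refine ⟨Multiplicative.ofAdd (-((e : K) * t * u)), ?_⟩
      have hs : (coreE6 K).xGL (rootsOf topR i) t * (coreE6 K).xGL (rootsOf topR j) u =
          (coreE6 K).xGL (rootsOf topR j) u * (coreE6 K).xGL 71 ((e : K) * t * u) *
            (coreE6 K).xGL (rootsOf topR i) t :=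
        congrArg Subtype.val (shift_of_pair (coreE6 K) he h1 t u)
      have hc : Commute ((coreE6 K).xGL 71 ((e : K) * t * u)) ((coreE6 K).xGL (rootsOf topR i) t) :=
        (xg_gl (commute_of_pair (coreE6 K) h1 t _)).symm
      show (coreE6 K).xGL 71 (-((e : K) * t * u)) =
        ((coreE6 K).xGL (rootsOf topR i) t * (coreE6 K).xGL (rootsOf topR j) u)⁻¹ *
          ((coreE6 K).xGL (rootsOf topR j) u * (coreE6 K).xGL (rootsOf topR i) t)
      rw [← (coreE6 K).xGL_inv, hs, mul_assoc _ ((coreE6 K).xGL 71 _), hc.eq]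
      group

variable [Fintype K] [DecidableEq K] {p n : ℕ} [ExpChar K p]
  (hn : Fintype.card K = (p ^ n) * (p ^ n)) (hq : 2 ≤ p ^ n)

include hn hq

omit hn hq [DecidableEq K] [Fintype K] [ExpChar K p] in
theorem patCheck_spec {N : ℕ} {R : Fin N → ℕ} {P : Pat N} (h : patCheck R P = true) (i : Fin N) :
    R (P.sig i) = e6Sym.root (R i) ∧ (P.sig i = i ↔ e6Sym.root (R i) = R i) ∧
      P.eps i = e6Sym.sign (R i) ∧ orbOK (R i) = true := by
  simp only [patCheck, List.all_eq_true, Bool.and_eq_true, decide_eq_true_eq] at h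
  obtain ⟨⟨⟨h1, h2⟩, h3⟩, h4⟩ := h i (List.mem_finRange i)
  exact ⟨h1, h2, h3, h4⟩

/-- The orbit elements of a pattern represent the orbit vectors. -/
theorem el_rep {N : ℕ} {S : RSys (coreE6 K) N} {P : Pat N} (h : patCheck S.R P = true) (i : Fin N) {a : K}
    (ha : P.sig i = i → a ∈ fixK K (p ^ n)) :
    S.Rep (el K (p ^ n) (S.R i) a : GL chevE6.Idx K) (Pat.uvec P (p ^ n) i a) := by
  obtain ⟨h1, h2, h3, h4⟩ := patCheck_spec h i
  rw [coe_el hn hq h4 fun e => mem_fixK.1 (ha (h2.2 e))]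
  exact orbGL_rep h1 h2 h3 a

omit hn hq [DecidableEq K] [Fintype K] [ExpChar K p] in
theorem opsCheck_spec {N : ℕ} {R L : List ℕ} {ops : List (Op N)} (h : opsCheck R L ops = true) {δ : ℕ}
    {O : Op N} (hO : ops[δ]? = some O) : δ < L.length ∧ opCheck R (L.getD δ 0) O = true := by
  simp only [opsCheck, Bool.and_eq_true, decide_eq_true_eq, List.all_eq_true, List.mem_range] at h
  obtain ⟨hlt, -⟩ := List.getElem?_eq_some_iff.1 hO
  refine ⟨h.1 ▸ hlt, ?_⟩
  have := h.2 δ hlt
  rwa [hO, Option.all_some] at this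

omit hn hq [DecidableEq K] [Fintype K] [ExpChar K p] in
theorem opCheck_spec {N : ℕ} {R : List ℕ} {s : ℕ} {O : Op N} (h : opCheck R s O = true) :
    orbOK s = true ∧ (O.fx = true ↔ e6Sym.root s = s) ∧ O.d = e6Sym.sign s := by
  simp only [opCheck, Bool.and_eq_true, decide_eq_true_eq] at h
  refine ⟨h.1.1.1.1, ?_, h.1.1.2⟩
  rw [h.1.1.1.2]; simp

/-- An orbit element acts through its tables. -/
theorem el_twist {N : ℕ} {S : RSys (coreE6 K) N} {R : List ℕ} (hSR : S.R = rootsOf R) {P : Pat N}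
    (hP : P.ok = true) {s : ℕ} {O : Op N} (hc : opCheck R s O = true) (hO : O.ok P = true)
    (hΓ : ∀ u, (coreE6 K).xGL s u ∈ S.Γ) (hΓ' : ∀ u, (coreE6 K).xGL (e6Sym.root s) u ∈ S.Γ) {u : K}
    (hu : O.Par (p ^ n) u) :
    S.Twist (el K (p ^ n) s u : GL chevE6.Idx K) (O.dl (p ^ n) u) := by
  obtain ⟨hs, hfx, hd⟩ := opCheck_spec hc
  simp only [opCheck, Bool.and_eq_true] at hc
  rw [coe_el hn hq hs fun e => mem_fixK.1 (hu (hfx.2 e)), orbGL]
  rw [← hSR] at hc
  by_cases hf : e6Sym.root s = s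
  · rw [if_pos hf]
    have hdl : O.dl (p ^ n) u = (O.a.dual u : (Fin N → K) → Fin N → K) := by
      funext w
      rw [Op.dl]
      refine congrArg (O.a.dual u) ?_
      rw [Table.dual_apply, add_eq_left]
      refine Finset.sum_eq_zero fun i _ => ?_
      rw [Table.col_none (Op.b_none hP (QField.of_expChar hn hq) hO (hfx.2 hf) i)]
    rw [hdl]
    exact RSys.twist_root hc.1.2 (hΓ u)
  · rw [if_neg hf, ← hd]
    have hfalse : O.fx = false := by
      rw [← Bool.not_eq_true]; exact fun h => hf (hfx.1 h)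
    have hb := hc.2
    rw [hfalse, if_neg (by simp)] at hb
    exact (RSys.twist_root hc.1.2 (hΓ u)).mul (RSys.twist_root hb (hΓ' _))

variable {V : Type*} [AddCommGroup V] [Module ℂ V] (ρ : Representation ℂ ↥(twistedE6 K (p ^ n)) V)

/-- All nontrivial elements over a fixed root have trace `c` on the image of `E`. -/
def TrFix (E : Module.End ℂ V) (r : ℕ) (c : ℂ) : Prop :=
  ∀ t ∈ fixK K (p ^ n), t ≠ 0 → LinearMap.trace ℂ V (ρ (el K (p ^ n) r t) * E) = c

/-- The roots of a transport step. -/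
def stepOK (i : Fin chevE6.rank) (a b : ℕ) : Bool :=
  refOK i (piE6 i) && decide (refRoot i a = b) && orbOK a && orbOK b &&
    decide (e6Sym.root a = a) && decide (e6Sym.root b = b)

variable {ρ}

omit hn hq [ExpChar K p] in
theorem trace_conj' {E : Module.End ℂ V} {w a b : ↥(twistedE6 K (p ^ n))} (hE : Commute (ρ w) E)
    (h : w * a * w⁻¹ = b) : LinearMap.trace ℂ V (ρ b * E) = LinearMap.trace ℂ V (ρ a * E) := by
  rw [← h, map_mul ρ, map_mul ρ, mul_assoc, LinearMap.trace_mul_comm ℂ (ρ w * ρ a), mul_assoc,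
    ← mul_assoc E, ← hE.eq, ← mul_assoc (ρ w⁻¹), ← mul_assoc (ρ w⁻¹), ← map_mul ρ, inv_mul_cancel,
    map_one, one_mul, LinearMap.trace_mul_comm]

theorem TrFix.step {E : Module.End ℂ V} {i : Fin chevE6.rank} {a b : ℕ} (hs : stepOK i a b = true)
    (hE : Commute (ρ (refEl K (p ^ n) i)) E) {c : ℂ} (h : TrFix ρ E a c) : TrFix ρ E b c := by
  simp only [stepOK, Bool.and_eq_true, decide_eq_true_eq] at hs
  obtain ⟨⟨⟨⟨⟨hi, hab⟩, ha⟩, hb⟩, hfa⟩, hfb⟩ := hs
  have hlt : a < chevE6.nroots := by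
    simp only [orbOK, Bool.and_eq_true, decide_eq_true_eq] at ha
    exact ha.1.1.1.1.1.1
  obtain ⟨e, he, hconj⟩ := refEl_conj hn hq hi hlt
  intro t ht ht0
  have hqf := QField.of_expChar hn hq
  have hee : e * e = 1 := by rcases he with rfl | rfl <;> simp
  have hemem : e ∈ fixK K (p ^ n) := by
    rcases he with rfl | rfl
    · exact hqf.one_mem
    · exact hqf.neg_mem hqf.one_mem
  have het := hqf.mul_mem hemem ht
  rw [← h (e * t) het (mul_ne_zero (left_ne_zero_of_mul_eq_one hee) ht0)]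
  refine trace_conj' hE (Subtype.ext ?_)
  simp only [Subgroup.coe_mul, InvMemClass.coe_inv, coe_el hn hq ha fun _ => mem_fixK.1 het,
    coe_el hn hq hb fun _ => mem_fixK.1 ht, orbGL, if_pos hfa, if_pos hfb]
  rw [hconj, hab, ← mul_assoc, hee, one_mul]

end CfsgLib.MinDeg2E6
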