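import Cfsg.Agent.Lib.MinDeg2E6.Op

set_option autoImplicit false
set_option linter.unusedSectionVars false

/-!
The support of a family under certified orbits of root elements: the eigenspaces with a nonzero
fixed coordinate form one orbit with one-dimensional members.
-/

namespace CfsgLib.MinDeg2E6

open Matrix CfsgLib.MinDegE

variable {N : ℕ}

/-- The coordinates of the orbit of one coordinate. -/
def Pat.orb (P : Pat N) (i : Fin N) : List (Fin N) := if P.sig i = i then [i] else [i, P.sig i]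

/-- The coordinates of the orbits moved by a list of operations. -/
def Pat.members (P : Pat N) (l : List (ℕ × Fin N)) : List (Fin N) := l.flatMap fun p => P.orb p.2

/-- A neighbour is moved regularly. -/
def moveOK (P : Pat N) (ops : List (Op N)) (b : Fin N) (core : List (Fin N)) (p : ℕ × Fin N) : Bool :=
  match ops[p.1]? with
  | none => false
  | some O => decide (O.fx = decide (P.sig p.2 = p.2)) &&
      decide (O.a p.2 = some (b, 1) ∨ O.a p.2 = some (b, -1)) &&
      core.all fun j => (decide (j = p.2) || (O.a j).isNone) &&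
        ((decide (j = P.sig p.2) && decide (j ≠ p.2)) || (O.b j).isNone)

/-- The value at `i` does not change as long as the coordinates of `z` vanish. -/
def keepOn (O : Op N) (z : List (Fin N)) (i : Fin N) : Bool :=
  (O.a i).all (fun r => decide (r.1 ∈ z)) &&
    (O.b i).all fun r => decide (r.1 ∈ z) && (O.a r.1).all fun r' => decide (r'.1 ∈ z)

/-- The certificate of a fixed coordinate. -/
structure BetaC (N : ℕ) where
  b : Fin N
  up : List (ℕ × Fin N)
  dn : List (ℕ × Fin N)
  el : List (ℕ × Fin N)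

namespace BetaC

variable (B : BetaC N) (P : Pat N) (ops : List (Op N))

/-- The neighbours. -/
def nbr : List (Fin N) := P.members (B.up ++ B.dn)

/-- One step of elimination. -/
def elimStep (acc : Option (List (Fin N))) (p : ℕ × Fin N) : Option (List (Fin N)) :=
  acc.bind fun z => match ops[p.1]? with
    | none => none
    | some O => match O.a p.2 with
      | none => none
      | some (r, e) =>
        if (e = 1 ∨ e = -1) ∧ (B.b :: B.nbr P).all (keepOn O z) = true ∧
            (((O.b p.2).all fun r' => decide (r'.1 ∈ z) && (O.a r'.1).all fun x => decide (x.1 ∈ z)) = true ∨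
              (O.fx = false ∧ (O.b p.2).any (fun r' => decide (r'.1 = P.sig r) &&
                (O.a r'.1).all fun x => decide (x.1 ∈ z)) = true))
        then some (r :: P.sig r :: z) else none

/-- All conditions on the certificate, with the number `a` of neighbours. -/
def check (a : ℕ) : Bool :=
  decide (P.sig B.b = B.b) && decide (B.nbr P).Nodup && decide (B.b ∉ B.nbr P) &&
    ((B.up ++ B.dn).all (moveOK P ops B.b (B.b :: B.nbr P))) &&
    (B.up.all fun p => (ops[p.1]?).any fun O => (List.finRange N).all fun i =>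
      ((O.a i).all fun r => decide (i < r.1)) && (O.b i).all fun r => decide (i < r.1)) &&
    (B.dn.all fun p => decide (B.b < p.2) && decide (B.b < P.sig p.2)) &&
    decide ((B.nbr P).length = a) &&
    match B.el.foldl (B.elimStep P ops) (some (B.nbr P)) with
    | none => false
    | some z => (List.finRange N).all fun i => decide (i = B.b) || decide (i ∈ z)

end BetaC

/-- A configuration in which a short coordinate cannot occur: at `A` a nonzero fixed coordinate, at
`c` the short one, moved to zero by `m`, which makes the vanishing coordinate `B` nonzero. -/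
structure CoreC (N : ℕ) where
  A : Fin N
  c : Fin N
  m : ℕ
  B : Fin N
  Z : List (Fin N)
  rest : List (ℕ × Fin N)

namespace CoreC

variable (X : CoreC N) (P : Pat N) (ops : List (Op N))

/-- The coordinates vanishing after the move. -/
def zeros : List (Fin N) := [X.c, P.sig X.c] ++ X.Z

/-- All conditions, against the neighbours of `A`. -/
def check (nbrA : List (Fin N)) : Bool :=
  decide (P.sig X.A = X.A) && decide (P.sig X.c ≠ X.c) && decide (P.sig X.B = X.B) && decide (X.B ≠ X.A) &&
    moveOK P ops X.A (X.A :: X.zeros P) (X.m, X.c) &&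
    ((ops[X.m]?).any fun O =>
      decide (O.a X.B = some (P.sig X.c, 1) ∨ O.a X.B = some (P.sig X.c, -1)) &&
      decide (O.b X.B = some (X.c, 1) ∨ O.b X.B = some (X.c, -1))) &&
    decide ((P.members X.rest ++ X.zeros P).Nodup) && decide (X.A ∉ P.members X.rest ++ X.zeros P) &&
    X.rest.all (fun p => moveOK P ops X.A (X.A :: (P.members X.rest ++ X.zeros P)) p &&
      (ops[p.1]?).any fun O => keepOn O (X.zeros P) X.B) &&
    nbrA.all fun j => decide (j ∈ P.members X.rest ++ X.zeros P)

end CoreC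

/-- A short coordinate reached from vanishing fixed coordinates. -/
structure StartC (N : ℕ) where
  y : ℕ
  core : CoreC N

namespace StartC

variable (S : StartC N) (P : Pat N) (ops : List (Op N))

/-- The conditions on the first move. -/
def check (fixed : List (Fin N)) : Bool :=
  decide (∀ i ∈ S.core.Z, P.sig i = i) &&
  (ops[S.y]?).any fun O => decide (O.fx = false) &&
    decide (O.a S.core.A = some (S.core.c, 1) ∨ O.a S.core.A = some (S.core.c, -1)) &&
    decide (O.b S.core.A = some (P.sig S.core.c, 1) ∨ O.b S.core.A = some (P.sig S.core.c, -1)) &&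
    (O.a (P.sig S.core.c)).all (fun r => decide (r.1 ∈ fixed)) &&
    ([S.core.c, S.core.B] ++ S.core.Z).all (keepOn O fixed)

end StartC

/-! ### Soundness -/

variable {G V : Type*} [Group G] [AddCommGroup V] [Module ℂ V] [FiniteDimensional ℂ V]
variable {K : Type*} [Field K] [Fintype K] [DecidableEq K] {q : ℕ}
variable {ρ : Representation ℂ G V} (Φ : OFam ρ K q N) (ops : List (Op N)) (y : ℕ → K → G)

/-- The elements `y` act through the operations. -/
structure Acting : Prop where
  ok : ∀ (δ : ℕ) (O : Op N), ops[δ]? = some O → O.ok Φ.P = true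
  act : ∀ (δ : ℕ) (O : Op N), ops[δ]? = some O → ∀ u : K, O.Par q u →
    Φ.Act (ρ (y δ u)) (O.dl q u) (O.mv q u)

/-- Characters with value `s` at `b`, a property `Q` and zero on a list. -/
def slice (Q : (Fin N → K) → Prop) [DecidablePred Q] (b : Fin N) (s : K) (Z : List (Fin N)) :
    Finset (Fin N → K) :=
  (Φ.W).filter fun ψ => ψ b = s ∧ Q ψ ∧ ∀ j ∈ Z, ψ j = 0

variable {Φ} {ops} {y}

theorem mem_slice {Q : (Fin N → K) → Prop} [DecidablePred Q] {b : Fin N} {s : K} {Z : List (Fin N)}
    {ψ : Fin N → K} : ψ ∈ slice Φ Q b s Z ↔ ψ ∈ Φ.W ∧ ψ b = s ∧ Q ψ ∧ ∀ j ∈ Z, ψ j = 0 := by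
  simp [slice]

theorem moveOK_spec {P : Pat N} {b : Fin N} {core : List (Fin N)} {p : ℕ × Fin N}
    (h : moveOK P ops b core p = true) :
    ∃ O, ops[p.1]? = some O ∧ (O.fx = true ↔ P.sig p.2 = p.2) ∧
      (O.a p.2 = some (b, 1) ∨ O.a p.2 = some (b, -1)) ∧
      (∀ j ∈ core, j ≠ p.2 → O.a j = none) ∧
      ∀ j ∈ core, (j = p.2 ∨ j ≠ P.sig p.2) → O.b j = none := by
  rw [moveOK] at h
  rcases ho : ops[p.1]? with _ | O
  · rw [ho] at h; simp at h
  · rw [ho] at h
    simp only [Bool.and_eq_true, decide_eq_true_eq, List.all_eq_true, Bool.or_eq_true,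
      Option.isNone_iff_eq_none] at h
    refine ⟨O, rfl, ?_, h.1.2, fun j hj hjp => (h.2 j hj).1.resolve_left hjp,
      fun j hj hjp => (h.2 j hj).2.resolve_left fun e => ?_⟩
    · rw [h.1.1]; simp
    · rcases hjp with e' | e'
      · exact e.2 e'
      · exact e' e.1

/-- The value where a move does not act. -/
theorem mv_keep {O : Op N} {z : List (Fin N)} {i : Fin N} (h : keepOn O z i = true) (u : K)
    {ψ : Fin N → K} (hz : ∀ j ∈ z, ψ j = 0) : O.mv q u ψ i = ψ i := by
  simp only [keepOn, Bool.and_eq_true] at h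
  have h1 : O.a.move u ψ i = ψ i := by
    rcases ha : O.a i with _ | ⟨l, e⟩
    · exact Table.move_none ha
    · rw [ha, Option.all_some, decide_eq_true_eq] at h
      rw [Table.move_some ha, hz _ h.1, mul_zero, add_zero]
  rw [Op.mv, Op.move_eq]
  rcases hb : O.b i with _ | ⟨l, e⟩
  · rw [Table.part_none hb, h1, add_zero]
  · rw [hb, Option.all_some, Bool.and_eq_true, decide_eq_true_eq] at h
    have h2 : O.a.move u ψ l = 0 := by
      rcases ha : O.a l with _ | ⟨m, f⟩
      · rw [Table.move_none ha, hz _ h.2.1]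
      · have h3 := h.2.2
        rw [ha, Option.all_some, decide_eq_true_eq] at h3
        rw [Table.move_some ha, hz _ h.2.1, hz _ h3, mul_zero, add_zero]
    rw [Table.part_some hb, h1, h2, mul_zero, add_zero]

theorem orb_length_pow (hK : QField K q) (P : Pat N) (i : Fin N) :
    (if P.sig i = i then fixK K q else Finset.univ).card = q ^ (P.orb i).length := by
  by_cases hf : P.sig i = i
  · simp [Pat.orb, hf, hK.card_fixK]
  · simp [Pat.orb, hf, hK.card, sq]

/-- An invariant weight summed over a slice, one orbit at a time. -/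
theorem sum_peel (hA : Acting Φ ops y) {Q : (Fin N → K) → Prop} [DecidablePred Q] {b : Fin N}
    (hb : Φ.P.sig b = b) {s : K} (hs : s ∈ fixK K q) (hs0 : s ≠ 0) (w : (Fin N → K) → ℂ) :
    ∀ (l : List (ℕ × Fin N)) (Z : List (Fin N)),
    (∀ p ∈ l, moveOK Φ.P ops b (b :: (Φ.P.members l ++ Z)) p = true) →
    (∀ p ∈ l, ∀ O, ops[p.1]? = some O → ∀ u : K, O.Par q u → ∀ ψ ∈ Φ.W, w (O.mv q u ψ) = w ψ) →
    (∀ p ∈ l, ∀ O, ops[p.1]? = some O → ∀ u : K, O.Par q u → ∀ ψ ∈ Φ.W, ψ b = s →
      (∀ j ∈ Z, ψ j = 0) → Q ψ → Q (O.mv q u ψ)) →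
    (b :: (Φ.P.members l ++ Z)).Nodup →
    ∑ ψ ∈ slice Φ Q b s Z, w ψ =
      (q : ℂ) ^ (Φ.P.members l).length * ∑ ψ ∈ slice Φ Q b s (Φ.P.members l ++ Z), w ψ
  | [], Z => fun _ _ _ _ => by simp [Pat.members]
  | (δ, μ) :: l, Z => fun h hw hQ hnd => by
    classical
    have hmem : Φ.P.members ((δ, μ) :: l) = Φ.P.orb μ ++ Φ.P.members l := by simp [Pat.members]
    obtain ⟨O, hO, hfx, hμ, hca, hcb⟩ := moveOK_spec (h (δ, μ) List.mem_cons_self)
    simp only at hO hfx hμ hca hcb
    have hok := hA.ok δ O hO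
    have hμorb : μ ∈ Φ.P.orb μ := by unfold Pat.orb; split_ifs <;> simp
    have hsorb : Φ.P.sig μ ∈ Φ.P.orb μ := by unfold Pat.orb; split_ifs with hf <;> simp [hf]
    rw [hmem] at hca hcb hnd
    obtain ⟨hbnot, hnd'⟩ := List.nodup_cons.1 hnd
    have hμb : μ ≠ b := fun e => hbnot (by simp [← e, hμorb])
    have hsb : Φ.P.sig μ ≠ b := fun e => hbnot (by simp [← e, hsorb])
    have hdisj := (List.nodup_append.1 hnd').2.2
    have hab : O.a b = none := hca b List.mem_cons_self (Ne.symm hμb)
    have hbb : O.b b = none := hcb b List.mem_cons_self (Or.inr (Ne.symm hsb))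
    have hbμ : O.b μ = none := hcb μ (by simp [hμorb]) (Or.inl rfl)
    have hzμ : ∀ j ∈ Z, j ≠ μ ∧ j ≠ Φ.P.sig μ := fun j hj =>
      ⟨fun e => hdisj μ (by simp [hμorb]) j hj e.symm, fun e => hdisj _ (by simp [hsorb]) j hj e.symm⟩
    have haZ : ∀ j ∈ Z, O.a j = none := fun j hj => hca j (by simp [hj]) (hzμ j hj).1
    have hbZ : ∀ j ∈ Z, O.b j = none := fun j hj => hcb j (by simp [hj]) (Or.inr (hzμ j hj).2)
    have hval : ∀ (u : K) (ψ : Fin N → K) (j : Fin N), O.a j = none → O.b j = none →
        O.mv q u ψ j = ψ j := fun u ψ j h1 h2 => by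
      rw [Op.mv, Table.move_none h2, Table.move_none h1]
    obtain ⟨e, he, hμe⟩ : ∃ e : ℤ, (e = 1 ∨ e = -1) ∧ O.a μ = some (b, e) := by
      rcases hμ with hμ | hμ
      · exact ⟨1, Or.inl rfl, hμ⟩
      · exact ⟨-1, Or.inr rfl, hμ⟩
    have hee : (e : K) * (e : K) = 1 := by rcases he with rfl | rfl <;> simp
    set Vs : Finset K := if Φ.P.sig μ = μ then fixK K q else Finset.univ with hVs
    have hin : ∀ ψ ∈ slice Φ Q b s Z, ψ μ ∈ Vs := fun ψ hψ => by
      rw [hVs]
      split_ifs with hf
      · exact Pat.apply_fixed Φ.ok (mem_slice.1 hψ).1 hf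
      · exact Finset.mem_univ _
    have hstep : ∀ v ∈ Vs, ∑ ψ ∈ (slice Φ Q b s Z).filter (fun ψ => ψ μ = v), w ψ =
        ∑ ψ ∈ slice Φ Q b s (Φ.P.orb μ ++ Z), w ψ := by
      intro v hv
      set u : K := (e : K) * v / s with hu
      have hus : (e : K) * u * s = v := by
        rw [hu, mul_assoc, div_mul_cancel₀ _ hs0, ← mul_assoc, hee, one_mul]
      have hpar : O.Par q u := fun hf => by
        rw [hVs, if_pos (hfx.1 hf)] at hv
        rw [hu, div_eq_mul_inv]
        exact Φ.qf.mul_mem (Φ.qf.mul_mem (Φ.qf.cast_mem e) hv) (Φ.qf.inv_mem hs)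
      have hparn := Op.par_neg Φ.ok Φ.qf hok hpar
      have hmvμ : ∀ (u' : K) (ψ : Fin N → K), O.mv q u' ψ μ = ψ μ + (e : K) * u' * ψ b := fun u' ψ => by
        rw [Op.mv, Table.move_none hbμ, Table.move_some hμe]
      refine Finset.sum_nbij' (i := O.mv q (-u)) (j := O.mv q u) ?_ ?_ ?_ ?_ ?_
      · intro ψ hψ
        rw [Finset.mem_filter, mem_slice] at hψ
        obtain ⟨⟨h0, h1, h2, h3⟩, h4⟩ := hψ
        have hW := Op.mv_mem Φ.ok Φ.qf hok hparn h0
        rw [mem_slice]
        refine ⟨hW, by rw [hval _ _ _ hab hbb, h1],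
          hQ (δ, μ) List.mem_cons_self O hO _ hparn ψ h0 h1 h3 h2, fun j hj => ?_⟩
        have hz : O.mv q (-u) ψ μ = 0 := by
          rw [hmvμ, h4, h1, mul_neg, neg_mul, hus, add_neg_cancel]
        rcases List.mem_append.1 hj with hj | hj
        · unfold Pat.orb at hj
          split_ifs at hj with hf
          · simp only [List.mem_singleton] at hj; rw [hj, hz]
          · simp only [List.mem_cons, List.not_mem_nil, or_false] at hj
            rcases hj with rfl | rfl
            · exact hz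
            · rw [Pat.apply_sig Φ.ok hW, hz, Φ.qf.zero_pow, mul_zero]
        · rw [hval _ _ _ (haZ j hj) (hbZ j hj), h3 j hj]
      · intro ψ hψ
        rw [mem_slice] at hψ
        obtain ⟨h0, h1, h2, h3⟩ := hψ
        have h3' : ∀ j ∈ Z, ψ j = 0 := fun j hj => h3 j (by simp [hj])
        rw [Finset.mem_filter, mem_slice]
        refine ⟨⟨Op.mv_mem Φ.ok Φ.qf hok hpar h0, by rw [hval _ _ _ hab hbb, h1],
          hQ (δ, μ) List.mem_cons_self O hO _ hpar ψ h0 h1 h3' h2, fun j hj => ?_⟩, ?_⟩
        · rw [hval _ _ _ (haZ j hj) (hbZ j hj), h3' j hj]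
        · rw [hmvμ, h3 μ (by simp [hμorb]), h1, hus, zero_add]
      · exact fun ψ _ => Op.mv_neg' Φ.ok Φ.qf hok u ψ
      · exact fun ψ _ => Op.mv_neg Φ.ok Φ.qf hok u ψ
      · intro ψ hψ
        exact (hw (δ, μ) List.mem_cons_self O hO _ hparn ψ
          (mem_slice.1 (Finset.mem_filter.1 hψ).1).1).symm
    have hperm : ∀ j, j ∈ Φ.P.members l ++ (Φ.P.orb μ ++ Z) ↔
        j ∈ Φ.P.members ((δ, μ) :: l) ++ Z := fun j => by
      simp only [hmem, List.mem_append]; tauto
    rw [← Finset.sum_fiberwise_of_maps_to hin, Finset.sum_congr rfl hstep, Finset.sum_const,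
      orb_length_pow Φ.qf, nsmul_eq_mul,
      sum_peel hA hb hs hs0 w l (Φ.P.orb μ ++ Z)
        (fun p hp => by
          have h1 := h p (List.mem_cons_of_mem _ hp)
          rw [moveOK] at h1 ⊢
          rcases hop : ops[p.1]? with _ | O'
          · rw [hop] at h1; exact h1
          · rw [hop] at h1
            simp only [Bool.and_eq_true, List.all_eq_true] at h1 ⊢
            refine ⟨h1.1, fun j hj => h1.2 j ?_⟩
            rcases List.mem_cons.1 hj with rfl | hj
            · exact List.mem_cons_self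
            · exact List.mem_cons_of_mem _ ((hperm j).1 hj))
        (fun p hp => hw p (List.mem_cons_of_mem _ hp))
        (fun p hp O' hO' u hu ψ h0 h1 h3 => hQ p (List.mem_cons_of_mem _ hp) O' hO' u hu ψ h0 h1
          fun j hj => h3 j (by simp [hj]))
        (List.nodup_cons.2 ⟨fun hj => hbnot (by simp only [List.mem_append] at hj ⊢; tauto),
          (List.Perm.nodup_iff (by
            rw [← List.append_assoc]
            exact List.perm_append_comm.append_right Z)).1 hnd'⟩),
      show slice Φ Q b s (Φ.P.members l ++ (Φ.P.orb μ ++ Z)) =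
        slice Φ Q b s (Φ.P.members ((δ, μ) :: l) ++ Z) from by
          ext ψ; simp only [mem_slice, hperm], hmem, List.length_append, pow_add]
    push_cast
    ring

/-- Vanishing above a coordinate. -/
def Below (b : Fin N) (ψ : Fin N → K) : Prop := ∀ i, b < i → ψ i = 0

instance (b : Fin N) : DecidablePred (Below (K := K) b) :=
  fun _ => inferInstanceAs (Decidable (∀ _, _))

theorem weight_dimPr (hA : Acting Φ ops y) {p : ℕ × Fin N} {O : Op N} (hO : ops[p.1]? = some O) {u : K}
    (hu : O.Par q u) {ψ : Fin N → K} (hψ : ψ ∈ Φ.W) :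
    (Φ.dimPr (O.mv q u ψ) : ℂ) = (Φ.dimPr ψ : ℂ) := by
  rw [(hA.act p.1 O hO u hu).dimPr_move hψ]

namespace BetaC

variable {B : BetaC N} {a : ℕ}

theorem spec (h : B.check Φ.P ops a = true) :
    Φ.P.sig B.b = B.b ∧ (B.nbr Φ.P).Nodup ∧ B.b ∉ B.nbr Φ.P ∧
    (∀ p ∈ B.up ++ B.dn, moveOK Φ.P ops B.b (B.b :: B.nbr Φ.P) p = true) ∧
    (∀ p ∈ B.up, ∀ O, ops[p.1]? = some O → ∀ i,
      (∀ r ∈ O.a i, i < r.1) ∧ ∀ r ∈ O.b i, i < r.1) ∧
    (∀ p ∈ B.dn, B.b < p.2 ∧ B.b < Φ.P.sig p.2) ∧ (B.nbr Φ.P).length = a ∧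
    ∃ z, B.el.foldl (B.elimStep Φ.P ops) (some (B.nbr Φ.P)) = some z ∧ ∀ i, i = B.b ∨ i ∈ z := by
  simp only [check, Bool.and_eq_true, decide_eq_true_eq, List.all_eq_true] at h
  obtain ⟨⟨⟨⟨⟨⟨⟨h1, h2⟩, h3⟩, h4⟩, h5⟩, h6⟩, h7⟩, h8⟩ := h
  refine ⟨h1, h2, h3, h4, fun p hp O hO i => ?_, h6, h7, ?_⟩
  · have h := h5 p hp
    rw [hO] at h
    simp only [Option.any_some, List.all_eq_true, Bool.and_eq_true] at h
    obtain ⟨ha, hb⟩ := h i (List.mem_finRange i)
    refine ⟨fun r hr => ?_, fun r hr => ?_⟩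
    · rw [Option.mem_def] at hr; rw [hr] at ha; simpa using ha
    · rw [Option.mem_def] at hr; rw [hr] at hb; simpa using hb
  · rcases hz : B.el.foldl (B.elimStep Φ.P ops) (some (B.nbr Φ.P)) with _ | z
    · rw [hz] at h8; simp at h8
    · rw [hz] at h8
      simp only [List.all_eq_true, Bool.or_eq_true, decide_eq_true_eq] at h8
      exact ⟨z, rfl, fun i => h8 i (List.mem_finRange i)⟩

theorem elim_spec (hA : Acting Φ ops y) {s : K} {p : Fin N → K} (hpW : p ∈ Φ.W) (hp : p B.b = s)
    (huniq : ∀ r ∈ Φ.W, r B.b = s → (∀ j ∈ B.nbr Φ.P, r j = 0) → r ≠ p → Φ.dimPr r = 0)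
    (hpd : Φ.dimPr p ≠ 0) (hnb : ∀ j ∈ B.nbr Φ.P, p j = 0) :
    ∀ (el : List (ℕ × Fin N)) (z z' : List (Fin N)), (∀ j ∈ z, p j = 0) →
      el.foldl (B.elimStep Φ.P ops) (some z) = some z' → ∀ j ∈ z', p j = 0
  | [], z, z' => fun hz h => by
    simp only [List.foldl_nil, Option.some.injEq] at h
    exact h ▸ hz
  | (δ, i) :: el, z, z' => fun hz h => by
    rw [List.foldl_cons] at h
    have hnone : ∀ el : List (ℕ × Fin N), el.foldl (B.elimStep Φ.P ops) none = none := by
      intro el
      induction el with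
      | nil => rfl
      | cons a el ih => rw [List.foldl_cons]; exact ih
    rcases hO : ops[δ]? with _ | O
    · simp [BetaC.elimStep, hO, hnone] at h
    rcases ha : O.a i with _ | ⟨r, e⟩
    · simp [BetaC.elimStep, hO, ha, hnone] at h
    by_cases hc : (e = 1 ∨ e = -1) ∧ (B.b :: B.nbr Φ.P).all (keepOn O z) = true ∧
        (((O.b i).all fun r' => decide (r'.1 ∈ z) && (O.a r'.1).all fun x => decide (x.1 ∈ z)) = true ∨
          (O.fx = false ∧ (O.b i).any (fun r' => decide (r'.1 = Φ.P.sig r) &&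
            (O.a r'.1).all fun x => decide (x.1 ∈ z)) = true))
    swap
    · simp only [BetaC.elimStep, Option.bind_some, hO, ha] at h
      rw [if_neg hc, hnone] at h
      simp at h
    simp only [BetaC.elimStep, Option.bind_some, hO, ha] at h
    rw [if_pos hc] at h
    obtain ⟨he, hall, hcase⟩ := hc
    rw [List.all_eq_true] at hall
    have hok := hA.ok δ O hO
    have hfix : ∀ u : K, O.Par q u → O.mv q u p = p := by
      intro u hu
      by_contra hne
      refine hpd ?_
      rw [← (hA.act δ O hO u hu).dimPr_move hpW]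
      exact huniq _ (Op.mv_mem Φ.ok Φ.qf hok hu hpW)
        (by rw [mv_keep (hall _ List.mem_cons_self) u hz, hp])
        (fun j hj => by rw [mv_keep (hall _ (List.mem_cons_of_mem _ hj)) u hz, hnb j hj]) hne
    have hformula : ∀ u : K, O.mv q u p i = p i + (e : K) * u * p r +
        O.b.part ((O.d : K) * u ^ q) (O.a.move u p) i := fun u => by
      rw [Op.mv, Op.move_eq, Table.move_some ha]
    have hek : (e : K) ≠ 0 := by rcases he with rfl | rfl <;> simp
    have hr : p r = 0 := by
      rcases hcase with hcase | ⟨hfx, hcase⟩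
      · have hpart : ∀ u : K, O.b.part ((O.d : K) * u ^ q) (O.a.move u p) i = 0 := by
          intro u
          rcases hb : O.b i with _ | ⟨l, e'⟩
          · exact Table.part_none hb
          · rw [hb, Option.all_some, Bool.and_eq_true, decide_eq_true_eq] at hcase
            rw [Table.part_some hb]
            rcases hal : O.a l with _ | ⟨m, f⟩
            · rw [Table.move_none hal, hz _ hcase.1, mul_zero]
            · rw [hal, Option.all_some, decide_eq_true_eq] at hcase
              rw [Table.move_some hal, hz _ hcase.1, hz _ hcase.2]; ring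
        have h1 := hformula 1
        rw [hfix 1 (fun _ => Φ.qf.one_mem), hpart, add_zero, mul_one, left_eq_add, mul_eq_zero] at h1
        exact h1.resolve_left hek
      · rcases hb : O.b i with _ | ⟨l, e'⟩
        · rw [hb] at hcase; simp at hcase
        rw [hb, Option.any_some, Bool.and_eq_true, decide_eq_true_eq] at hcase
        obtain ⟨rfl, hcl⟩ := hcase
        have hsr : ∀ u : K, O.a.move u p (Φ.P.sig r) = p (Φ.P.sig r) := fun u => by
          rcases hal : O.a (Φ.P.sig r) with _ | ⟨m, f⟩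
          · exact Table.move_none hal
          · have hcl' := hcl
            simp only [hal, Option.all_some, decide_eq_true_eq] at hcl'
            rw [Table.move_some hal, hz _ hcl', mul_zero, add_zero]
        have h1 : ∀ u : K, ((e : K) * p r) * u +
            ((e' : K) * (O.d : K) * p (Φ.P.sig r)) * u ^ q = 0 := fun u => by
          have h2 := hformula u
          rw [hfix u (fun hf => by rw [hfx] at hf; exact absurd hf (by simp)), Table.part_some hb, hsr,
            add_assoc, left_eq_add] at h2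
          linear_combination h2
        exact (mul_eq_zero.1 (Φ.qf.form_zero h1).1).resolve_left hek
    refine elim_spec hA hpW hp huniq hpd hnb el (r :: Φ.P.sig r :: z) z' (fun j hj => ?_) h
    rcases List.mem_cons.1 hj with rfl | hj
    · exact hr
    rcases List.mem_cons.1 hj with rfl | hj
    · rw [Pat.apply_sig Φ.ok hpW, hr, Φ.qf.zero_pow, mul_zero]
    · exact hz j hj

/-- The eigenspaces with a nonzero coordinate at a certified place. -/
structure Unique (Φ : OFam ρ K q N) (B : BetaC N) (s : K) : Prop where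
  one : Φ.dimPr (Pi.single B.b s) = 1
  zero : ∀ r ∈ Φ.W, r B.b = s → (∀ j ∈ B.nbr Φ.P, r j = 0) → r ≠ Pi.single B.b s → Φ.dimPr r = 0

theorem unique (hA : Acting Φ ops y) (hB : B.check Φ.P ops a = true) {s : K} (hs : s ∈ fixK K q)
    (hs0 : s ≠ 0)
    (hM : ∑ ψ ∈ (Φ.W).filter (fun ψ => ψ B.b = s), (Φ.dimPr ψ : ℂ) = (q : ℂ) ^ a) :
    Unique Φ B s := by
  classical
  obtain ⟨hbf, hnd, hbn, hmv, -, -, hlen, z, hz, hall⟩ := spec hB
  have hq : (q : ℂ) ≠ 0 := Nat.cast_ne_zero.mpr (by have := Φ.qf.hq; omega)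
  have hN : B.nbr Φ.P = Φ.P.members (B.up ++ B.dn) := rfl
  have key := sum_peel (Q := fun _ => True) hA hbf hs hs0 (fun ψ => (Φ.dimPr ψ : ℂ)) (B.up ++ B.dn) []
    (fun p hp => by rw [List.append_nil]; exact hmv p hp)
    (fun p _ O hO u hu ψ hψ => weight_dimPr hA (p := p) hO hu hψ)
    (fun _ _ _ _ _ _ _ _ _ _ _ => trivial) (by rw [List.append_nil, ← hN]; exact List.nodup_cons.2 ⟨hbn, hnd⟩)
  rw [show slice Φ (fun _ => True) B.b s [] = (Φ.W).filter (fun ψ => ψ B.b = s) by ext ψ; simp [mem_slice],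
    hM, ← hN, hlen, List.append_nil] at key
  have h1 : ∑ ψ ∈ slice Φ (fun _ => True) B.b s (B.nbr Φ.P), Φ.dimPr ψ = 1 := by
    have := mul_left_cancel₀ (pow_ne_zero _ hq) (key.symm.trans (mul_one _).symm)
    exact_mod_cast this
  obtain ⟨p, hpS, hpd⟩ := Finset.exists_ne_zero_of_sum_ne_zero (by rw [h1]; exact one_ne_zero)
  have hp1 : Φ.dimPr p = 1 ∧
      ∀ r ∈ slice Φ (fun _ => True) B.b s (B.nbr Φ.P), r ≠ p → Φ.dimPr r = 0 := by
    rw [← Finset.add_sum_erase _ _ hpS] at h1
    have h2 : ∑ ψ ∈ (slice Φ (fun _ => True) B.b s (B.nbr Φ.P)).erase p, Φ.dimPr ψ = 0 := by omega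
    exact ⟨by omega, fun r hr hne =>
      Finset.sum_eq_zero_iff.1 h2 r (Finset.mem_erase.2 ⟨hne, hr⟩)⟩
  obtain ⟨hpW, hpb, -, hpn⟩ := mem_slice.1 hpS
  have huniq : ∀ r ∈ Φ.W, r B.b = s → (∀ j ∈ B.nbr Φ.P, r j = 0) → r ≠ p → Φ.dimPr r = 0 :=
    fun r r0 r1 r2 => hp1.2 r (mem_slice.2 ⟨r0, r1, trivial, r2⟩)
  have hps : p = Pi.single B.b s := by
    funext i
    rcases hall i with rfl | hi
    · rw [Pi.single_eq_same, hpb]
    · have h0 := elim_spec hA hpW hpb huniq hpd hpn B.el (B.nbr Φ.P) z hpn hz i hi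
      have hne : i ≠ B.b := fun e => hs0 (by rw [← hpb, ← e, h0])
      rw [Pi.single_eq_of_ne hne, h0]
  subst hps
  exact ⟨hp1.1, huniq⟩

/-- The stratum of a certified coordinate. -/
theorem stratum (hA : Acting Φ ops y) (hB : B.check Φ.P ops a = true) {s : K} (hs : s ∈ fixK K q)
    (hs0 : s ≠ 0) (hU : Unique Φ B s) (g : G)
    (hg : ∀ p ∈ B.up, ∀ O, ops[p.1]? = some O → ∀ u, O.Par q u → Commute g (y p.1 u)) :
    ∑ ψ ∈ slice Φ (Below B.b) B.b s [], LinearMap.trace ℂ V (ρ g * Φ.pr ψ) =
      (q : ℂ) ^ (Φ.P.members B.up).length * LinearMap.trace ℂ V (ρ g * Φ.pr (Pi.single B.b s)) := by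
  classical
  obtain ⟨hbf, hnd, hbn, hmv, hraise, hdn, -, -⟩ := spec hB
  have hN : B.nbr Φ.P = Φ.P.members B.up ++ Φ.P.members B.dn := by simp [BetaC.nbr, Pat.members]
  rw [sum_peel hA hbf hs hs0 (fun ψ => LinearMap.trace ℂ V (ρ g * Φ.pr ψ)) B.up []
    (fun p hp => by
      have h1 := hmv p (List.mem_append_left _ hp)
      rw [moveOK] at h1 ⊢
      rcases hop : ops[p.1]? with _ | O'
      · rw [hop] at h1; exact h1
      · rw [hop] at h1
        simp only [Bool.and_eq_true, List.all_eq_true] at h1 ⊢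
        refine ⟨h1.1, fun j hj => h1.2 j ?_⟩
        rw [List.append_nil] at hj
        rw [hN]
        simp only [List.mem_cons, List.mem_append] at hj ⊢
        tauto)
    (fun p hp O hO u hu ψ _ => (hA.act p.1 O hO u hu).trace_move (hg p hp O hO u hu) ψ)
    (fun p hp O hO u hu ψ _ hψb _ hψ i hi => by
      obtain ⟨h1, h2⟩ := hraise p hp O hO i
      have ha : ∀ j, B.b < j → O.a.move u ψ j = 0 := fun j hj => by
        rcases hat : O.a j with _ | ⟨l, e⟩
        · rw [Table.move_none hat]; exact hψ j hj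
        · have := (hraise p hp O hO j).1 (l, e) (by rw [Option.mem_def]; exact hat)
          rw [Table.move_some hat, hψ j hj, hψ l (hj.trans this), mul_zero, add_zero]
      rw [Op.mv]
      rcases hbt : O.b i with _ | ⟨l, e⟩
      · rw [Table.move_none hbt]; exact ha i hi
      · have := h2 (l, e) (by rw [Option.mem_def]; exact hbt)
        rw [Table.move_some hbt, ha i hi, ha l (hi.trans this), mul_zero, add_zero])
    (by
      rw [List.append_nil]
      rw [hN] at hnd hbn
      exact List.nodup_cons.2 ⟨fun hm => hbn (List.mem_append_left _ hm), hnd.of_append_left⟩),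
    List.append_nil]
  refine congrArg (fun z => (q : ℂ) ^ (Φ.P.members B.up).length * z) ?_
  have hsingle : (Pi.single B.b s : Fin N → K) ∈ Φ.W := Φ.single_mem hbf hs
  rw [Finset.sum_eq_single (Pi.single B.b s)]
  · intro ψ hψ hne
    obtain ⟨h0, h1, h2, h3⟩ := mem_slice.1 hψ
    have hd : Φ.dimPr ψ = 0 := hU.zero ψ h0 h1 (fun j hj => by
      rw [hN] at hj
      rcases List.mem_append.1 hj with hj | hj
      · exact h3 j hj
      · obtain ⟨p, hp, hj⟩ := List.mem_flatMap.1 hj
        unfold Pat.orb at hj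
        split_ifs at hj with hf
        · simp only [List.mem_singleton] at hj
          exact h2 j (hj ▸ (hdn p hp).1)
        · simp only [List.mem_cons, List.not_mem_nil, or_false] at hj
          rcases hj with rfl | rfl
          · exact h2 _ (hdn p hp).1
          · exact h2 _ (hdn p hp).2) hne
    rw [Φ.pr_eq_zero hd, mul_zero, map_zero]
  · intro hmem
    refine absurd (mem_slice.2 ⟨hsingle, by simp, fun i hi => ?_, fun j hj => ?_⟩) hmem
    · exact Pi.single_eq_of_ne hi.ne' _
    · refine Pi.single_eq_of_ne (fun e => hbn ?_) _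
      rw [hN, ← e]
      exact List.mem_append_left _ hj

end BetaC

end CfsgLib.MinDeg2E6
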