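import Cfsg.Agent.Lib.MinDeg2E6.Slice

set_option autoImplicit false
set_option linter.unusedSectionVars false

/-!
Every nonzero character in the support has a highest nonzero coordinate at a fixed place, and the
support splits into the certified strata.
-/

namespace CfsgLib.MinDeg2E6

open Matrix CfsgLib.MinDegE

variable {N : ℕ}

/-- The fixed coordinates. -/
def Pat.fixedL (P : Pat N) : List (Fin N) := (List.finRange N).filter fun i => decide (P.sig i = i)

/-- The certificates of a level. -/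
structure LevelC (N : ℕ) where
  P : Pat N
  ops : List (Op N)
  a : ℕ
  betas : List (BetaC N)
  cores : List (CoreC N)
  starts : List (StartC N)

namespace LevelC

variable (X : LevelC N)

/-- The beta certificates are correct and complete. -/
def okBeta : Bool :=
  X.P.ok && X.ops.all (fun O => O.ok X.P) && X.betas.all (fun B => B.check X.P X.ops X.a) &&
    X.P.fixedL.all (fun i => X.betas.any fun B => decide (B.b = i))

/-- The certificate found for a fixed coordinate. -/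
def betaOf (i : Fin N) : List (Fin N) :=
  match X.betas.find? (fun B => decide (B.b = i)) with
  | none => []
  | some B => B.nbr X.P

/-- The exclusions are correct and complete. -/
def okSupport : Bool :=
  (X.cores ++ X.starts.map StartC.core).all (fun C =>
    C.check X.P X.ops (X.betaOf C.A) && X.betas.any (fun B => decide (B.b = C.A))) &&
  X.starts.all (fun S => S.check X.P X.ops X.P.fixedL) &&
  (List.finRange N).all (fun i => decide (X.P.sig i = i) ||
    X.starts.any fun S => decide (S.core.c = i ∨ S.core.c = X.P.sig i)) &&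
  X.betas.all fun B => B.dn.all fun p => decide (X.P.sig p.2 = p.2) ||
    X.cores.any fun C => decide (C.A = B.b) && decide (C.c = p.2 ∨ C.c = X.P.sig p.2) &&
      decide (B.b < C.B) && C.Z.all fun z => decide (X.P.sig z = z) && decide (B.b < z)

end LevelC

variable {G V : Type*} [Group G] [AddCommGroup V] [Module ℂ V] [FiniteDimensional ℂ V]
variable {K : Type*} [Field K] [Fintype K] [DecidableEq K] {q : ℕ}
variable {ρ : Representation ℂ G V} {Φ : OFam ρ K q N} {ops : List (Op N)} {y : ℕ → K → G}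

/-- The traces of the fixed coordinates give the fibres. -/
def Fibres (Φ : OFam ρ K q N) (a : ℕ) : Prop :=
  ∀ i, Φ.P.sig i = i → ∀ s ∈ fixK K q, s ≠ 0 →
    ∑ ψ ∈ (Φ.W).filter (fun ψ => ψ i = s), (Φ.dimPr ψ : ℂ) = (q : ℂ) ^ a

theorem fibres_of_trace {a : ℕ} (h : ∀ i, Φ.P.sig i = i → ∀ t ∈ fixK K q, t ≠ 0 →
    LinearMap.trace ℂ V (Φ.T (Pi.single i t)) = LinearMap.trace ℂ V Φ.E - (q : ℂ) ^ (a + 1)) :
    Fibres Φ a := fun i hi s hs hs0 => by
  have h1 := Φ.sum_dimPr_fiber hi (fun t ht ht0 => h i hi t ht ht0) hs hs0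
  rw [pow_succ'] at h1
  exact mul_left_cancel₀ (Nat.cast_ne_zero.mpr (by have := Φ.qf.hq; omega)) h1

/-- A configuration in which a short coordinate cannot occur. -/
theorem CoreC.zero {C : CoreC N} {nbrA : List (Fin N)} (hA : Acting Φ ops y)
    (hC : C.check Φ.P ops nbrA = true) {ψ : Fin N → K} (hψ : ψ ∈ Φ.W)
    (huniq : ∀ r ∈ Φ.W, r C.A = ψ C.A → (∀ j ∈ nbrA, r j = 0) → r ≠ Pi.single C.A (ψ C.A) →
      Φ.dimPr r = 0)
    (h0 : ψ C.A ≠ 0) (hc : ψ C.c ≠ 0) (hB : ψ C.B = 0) (hZ : ∀ z ∈ C.Z, ψ z = 0) :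
    Φ.dimPr ψ = 0 := by
  classical
  simp only [CoreC.check, Bool.and_eq_true, decide_eq_true_eq, List.all_eq_true] at hC
  obtain ⟨⟨⟨⟨⟨⟨⟨⟨⟨hAf, hcs⟩, hBf⟩, hBA⟩, hm⟩, hmB⟩, hnd⟩, hAn⟩, hrest⟩, hsub⟩ := hC
  obtain ⟨O, hO, hfx, hac, hma, hmb⟩ := moveOK_spec hm
  simp only at hO hfx hac hma hmb
  rw [hO, Option.any_some, Bool.and_eq_true, decide_eq_true_eq, decide_eq_true_eq] at hmB
  have hok := hA.ok C.m O hO
  have hsA : ψ C.A ∈ fixK K q := Pat.apply_fixed Φ.ok hψ hAf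
  obtain ⟨e, he, hace⟩ : ∃ e : ℤ, (e = 1 ∨ e = -1) ∧ O.a C.c = some (C.A, e) := by
    rcases hac with h | h
    · exact ⟨1, Or.inl rfl, h⟩
    · exact ⟨-1, Or.inr rfl, h⟩
  obtain ⟨e1, he1, hB1⟩ : ∃ e : ℤ, (e = 1 ∨ e = -1) ∧ O.a C.B = some (Φ.P.sig C.c, e) := by
    rcases hmB.1 with h | h
    · exact ⟨1, Or.inl rfl, h⟩
    · exact ⟨-1, Or.inr rfl, h⟩
  obtain ⟨e2, he2, hB2⟩ : ∃ e : ℤ, (e = 1 ∨ e = -1) ∧ O.b C.B = some (C.c, e) := by
    rcases hmB.2 with h | h
    · exact ⟨1, Or.inl rfl, h⟩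
    · exact ⟨-1, Or.inr rfl, h⟩
  have hek : ∀ {z : ℤ}, (z = 1 ∨ z = -1) → (z : K) ≠ 0 := fun hz => by
    rcases hz with rfl | rfl <;> simp
  have hee : (e : K) * (e : K) = 1 := by rcases he with rfl | rfl <;> simp
  have hfalse : O.fx = false := by
    rw [← Bool.not_eq_true]; exact fun h => hcs (hfx.1 h)
  set u : K := -((e : K) * ψ C.c / ψ C.A) with hu
  have hu0 : u ≠ 0 := neg_ne_zero.2 (div_ne_zero (mul_ne_zero (hek he) hc) h0)
  have hpar : O.Par q u := fun h => by rw [hfalse] at h; exact absurd h (by simp)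
  set χ := O.mv q u ψ with hχ
  have hχW : χ ∈ Φ.W := Op.mv_mem Φ.ok Φ.qf hok hpar hψ
  have hbc : O.b C.c = none := hmb C.c (by simp [CoreC.zeros]) (Or.inl rfl)
  have hχc : χ C.c = 0 := by
    rw [hχ, Op.mv, Table.move_none hbc, Table.move_some hace, hu]
    field_simp
    linear_combination (-ψ C.c) * hee
  have hAne : C.A ≠ C.c := fun h => hcs (by rw [← h, hAf])
  have hAsc : C.A ≠ Φ.P.sig C.c := fun h => hcs (by
    have := congrArg Φ.P.sig h
    rw [hAf, (Pat.ok_spec Φ.ok C.c).1] at this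
    exact (this ▸ h).symm)
  have hkeep : ∀ j ∈ C.A :: C.Z, χ j = ψ j := by
    intro j hj
    have hj' : j ∈ C.A :: C.zeros Φ.P := by
      rcases List.mem_cons.1 hj with rfl | h
      · exact List.mem_cons_self
      · simp [CoreC.zeros, h]
    have hnn : j ≠ C.c ∧ j ≠ Φ.P.sig C.c := by
      rcases List.mem_cons.1 hj with rfl | h
      · exact ⟨hAne, hAsc⟩
      · have h2 := (List.nodup_append.1 hnd).2.1
        simp only [CoreC.zeros, List.cons_append, List.nil_append, List.nodup_cons, List.mem_cons] at h2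
        exact ⟨fun e => h2.1 (Or.inr (e ▸ h)), fun e => h2.2.1 (e ▸ h)⟩
    rw [hχ, Op.mv, Table.move_none (hmb j hj' (Or.inr hnn.2)), Table.move_none (hma j hj' hnn.1)]
  have hχA : χ C.A = ψ C.A := hkeep _ List.mem_cons_self
  have hasc : O.a (Φ.P.sig C.c) = none := hma _ (by simp [CoreC.zeros]) hcs
  have hφc : O.a.move u ψ C.c = 0 := by
    have h := hχc
    rwa [hχ, Op.mv, Table.move_none hbc] at h
  have hχB : χ C.B ≠ 0 := by
    rw [hχ, Op.mv, Table.move_some hB2, Table.move_some hB1, hφc, mul_zero, add_zero, hB, zero_add,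
      Pat.apply_sig Φ.ok hψ]
    exact mul_ne_zero (mul_ne_zero (hek he1) hu0) (mul_ne_zero (Pat.eps_ne Φ.ok _) (pow_ne_zero _ hc))
  have hχsc : χ (Φ.P.sig C.c) = 0 := by
    rw [Pat.apply_sig Φ.ok hχW, hχc, Φ.qf.zero_pow, mul_zero]
  have hχz : ∀ j ∈ C.zeros Φ.P, χ j = 0 := by
    intro j hj
    simp only [CoreC.zeros, List.cons_append, List.nil_append, List.mem_cons] at hj
    rcases hj with rfl | rfl | hj
    · exact hχc
    · exact hχsc
    · rw [hkeep j (List.mem_cons_of_mem _ hj), hZ j hj]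
  have key := sum_peel (Q := fun r => r C.B ≠ 0) hA hAf hsA h0 (fun r => (Φ.dimPr r : ℂ)) C.rest
    (C.zeros Φ.P) (fun p hp => (hrest p hp).1) (fun p _ O' hO' v hv r hr => weight_dimPr hA (p := p) hO' hv hr)
    (fun p hp O' hO' v hv r _ _ hrz hr => by
      have h := (hrest p hp).2
      rw [hO', Option.any_some] at h
      rwa [mv_keep h v hrz])
    (List.nodup_cons.2 ⟨hAn, hnd⟩)
  rw [Finset.sum_eq_zero (s := slice Φ (fun r => r C.B ≠ 0) C.A (ψ C.A)
      (Φ.P.members C.rest ++ C.zeros Φ.P)) (fun r hr => by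
    obtain ⟨r0, r1, r2, r3⟩ := mem_slice.1 hr
    rw [huniq r r0 r1 (fun j hj => r3 j (hsub j hj))
      (fun e => r2 (by rw [e, Pi.single_eq_of_ne hBA])), Nat.cast_zero]), mul_zero] at key
  have hmem : χ ∈ slice Φ (fun r => r C.B ≠ 0) C.A (ψ C.A) (C.zeros Φ.P) :=
    mem_slice.2 ⟨hχW, hχA, hχB, hχz⟩
  have key' : ∑ r ∈ slice Φ (fun r => r C.B ≠ 0) C.A (ψ C.A) (C.zeros Φ.P), Φ.dimPr r = 0 := by
    exact_mod_cast key
  rw [← (hA.act C.m O hO u hpar).dimPr_move hψ]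
  exact Finset.sum_eq_zero_iff.1 key' χ hmem

/-- A weight living on the characters with highest nonzero coordinate at a fixed place. -/
theorem sum_split (w : (Fin N → K) → ℂ)
    (hw : ∀ ψ ∈ Φ.W, ψ ≠ 0 → w ψ ≠ 0 → ∃ b, Φ.P.sig b = b ∧ ψ b ≠ 0 ∧ Below b ψ) :
    ∑ ψ ∈ Φ.W, w ψ = w 0 + ∑ b ∈ Finset.univ.filter (fun b => Φ.P.sig b = b),
      ∑ s ∈ (fixK K q).filter (fun s => s ≠ 0), ∑ ψ ∈ slice Φ (Below b) b s [], w ψ := by
  classical
  rw [← Finset.add_sum_erase _ _ (Pat.zero_mem Φ.ok Φ.qf)]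
  refine congrArg (fun z => w 0 + z) ?_
  have h1 : ∀ b ∈ Finset.univ.filter (fun b => Φ.P.sig b = b),
      (∑ s ∈ (fixK K q).filter (fun s => s ≠ 0), ∑ ψ ∈ slice Φ (Below b) b s [], w ψ) =
      ∑ ψ ∈ (Φ.W).filter (fun ψ => ψ b ≠ 0 ∧ Below b ψ), w ψ := by
    intro b hb
    rw [← Finset.sum_fiberwise_of_maps_to (g := fun ψ : Fin N → K => ψ b)
      (t := (fixK K q).filter fun s => s ≠ 0) (fun ψ hψ => Finset.mem_filter.2
        ⟨Pat.apply_fixed Φ.ok (Finset.mem_filter.1 hψ).1 (Finset.mem_filter.1 hb).2,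
          (Finset.mem_filter.1 hψ).2.1⟩)]
    refine Finset.sum_congr rfl fun s hs => Finset.sum_congr ?_ fun _ _ => rfl
    have hs' := (Finset.mem_filter.1 hs).2
    ext ψ
    simp only [mem_slice, Finset.mem_filter, List.not_mem_nil, IsEmpty.forall_iff, implies_true, and_true]
    exact ⟨fun h => ⟨⟨h.1, h.2.1.symm ▸ hs', h.2.2⟩, h.2.1⟩, fun h => ⟨h.1.1, h.2, h.1.2.2⟩⟩
  rw [Finset.sum_congr rfl h1, ← Finset.sum_biUnion]
  · refine (Finset.sum_subset ?_ fun ψ hψ hnot => ?_).symm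
    · intro ψ hψ
      simp only [Finset.mem_biUnion, Finset.mem_filter] at hψ
      obtain ⟨b, -, hψW, hb0, -⟩ := hψ
      exact Finset.mem_erase.2 ⟨fun e => hb0 (by rw [e]; rfl), hψW⟩
    · obtain ⟨hne, hψW⟩ := Finset.mem_erase.1 hψ
      by_contra hw0
      refine hnot ?_
      obtain ⟨b, hb, hb0, hbel⟩ := hw ψ hψW hne hw0
      exact Finset.mem_biUnion.2 ⟨b, Finset.mem_filter.2 ⟨Finset.mem_univ _, hb⟩,
        Finset.mem_filter.2 ⟨hψW, hb0, hbel⟩⟩
  · intro b _ c _ hbc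
    simp only [Function.onFun, Finset.disjoint_left, Finset.mem_filter]
    rintro ψ ⟨-, h1, h2⟩ ⟨-, h3, h4⟩
    rcases lt_or_gt_of_ne hbc with h | h
    · exact h3 (h2 c h)
    · exact h1 (h4 b h)


/-- The strata inside the total. -/
theorem strata_le :
    Φ.dimPr 0 + ∑ b ∈ Finset.univ.filter (fun b => Φ.P.sig b = b),
      ∑ s ∈ (fixK K q).filter (fun s => s ≠ 0), ∑ ψ ∈ slice Φ (Below b) b s [], Φ.dimPr ψ ≤
    ∑ ψ ∈ Φ.W, Φ.dimPr ψ := by
  classical
  let good : (Fin N → K) → Prop := fun ψ => ψ = 0 ∨ ∃ b, Φ.P.sig b = b ∧ ψ b ≠ 0 ∧ Below b ψ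
  have h := sum_split (Φ := Φ) (fun ψ => if good ψ then (Φ.dimPr ψ : ℂ) else 0) fun ψ _ hne h0 => by
    by_contra hcon
    exact h0 (if_neg fun hg => hg.elim hne fun ⟨b, hb⟩ => hcon ⟨b, hb⟩)
  rw [if_pos (show good 0 from Or.inl rfl), Finset.sum_congr (rfl : Finset.univ.filter
      (fun b => Φ.P.sig b = b) = _) fun b hb => Finset.sum_congr rfl fun s hs => Finset.sum_congr rfl
    fun ψ hψ => if_pos (show good ψ from Or.inr ⟨b, (Finset.mem_filter.1 hb).2, by
      obtain ⟨-, h1, -, -⟩ := mem_slice.1 hψ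
      rw [h1]; exact (Finset.mem_filter.1 hs).2, (mem_slice.1 hψ).2.2.1⟩)] at h
  have h' : (∑ ψ ∈ Φ.W, if good ψ then Φ.dimPr ψ else 0) = Φ.dimPr 0 +
      ∑ b ∈ Finset.univ.filter (fun b => Φ.P.sig b = b),
        ∑ s ∈ (fixK K q).filter (fun s => s ≠ 0), ∑ ψ ∈ slice Φ (Below b) b s [], Φ.dimPr ψ := by
    exact_mod_cast h
  rw [← h']
  exact Finset.sum_le_sum fun ψ _ => by split_ifs <;> simp

namespace LevelC

variable {X : LevelC N}

theorem find_beta {i : Fin N} (h : X.betas.any (fun B => decide (B.b = i)) = true) :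
    ∃ B ∈ X.betas, B.b = i ∧ X.betaOf i = B.nbr X.P := by
  rcases hf : X.betas.find? (fun B => decide (B.b = i)) with _ | B
  · rw [List.find?_eq_none] at hf
    obtain ⟨B, hB, hb⟩ := List.any_eq_true.1 h
    exact absurd hb (hf B hB)
  · exact ⟨B, List.mem_of_find?_eq_some hf, by simpa using List.find?_some hf, by rw [betaOf, hf]⟩

variable (hP : Φ.P = X.P) (hA : Acting Φ X.ops y) (hbeta : X.okBeta = true) (hF : Fibres Φ X.a)

include hP hA hbeta hF

theorem unique_at {B : BetaC N} (hB : B ∈ X.betas) {s : K} (hs : s ∈ fixK K q) (hs0 : s ≠ 0) :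
    BetaC.Unique Φ B s := by
  simp only [okBeta, Bool.and_eq_true, List.all_eq_true] at hbeta
  have h := hbeta.1.2 B hB
  rw [← hP] at h
  exact BetaC.unique hA h hs hs0 (hF B.b (BetaC.spec (ops := X.ops) h).1 s hs hs0)

variable (hsup : X.okSupport = true)

include hsup

theorem core_zero {C : CoreC N} (hC : C ∈ X.cores ++ X.starts.map StartC.core) {ψ : Fin N → K}
    (hψ : ψ ∈ Φ.W) (h0 : ψ C.A ≠ 0) (hc : ψ C.c ≠ 0) (hB : ψ C.B = 0) (hZ : ∀ z ∈ C.Z, ψ z = 0) :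
    Φ.dimPr ψ = 0 := by
  have hs := hsup
  simp only [okSupport, Bool.and_eq_true, List.all_eq_true] at hs
  obtain ⟨h1, h2⟩ := hs.1.1.1 C hC
  obtain ⟨B, hBm, hBb, hnb⟩ := find_beta h2
  have hAf : Φ.P.sig C.A = C.A := by
    simp only [CoreC.check, Bool.and_eq_true, decide_eq_true_eq] at h1
    rw [hP]; exact h1.1.1.1.1.1.1.1.1.1
  rw [hnb, ← hP] at h1
  have hU := unique_at hP hA hbeta hF hBm (Pat.apply_fixed Φ.ok hψ hAf) h0
  refine CoreC.zero hA h1 hψ (fun r hr hrA hrz hne => ?_) h0 hc hB hZ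
  exact hU.zero r hr (by rw [hBb]; exact hrA) hrz (by rw [hBb]; exact hne)

theorem exists_fixed {ψ : Fin N → K} (hψ : ψ ∈ Φ.W) (hne : ψ ≠ 0) (hd : Φ.dimPr ψ ≠ 0) :
    ∃ i, Φ.P.sig i = i ∧ ψ i ≠ 0 := by
  by_contra hcon
  push Not at hcon
  obtain ⟨i, hi⟩ := Function.ne_iff.1 hne
  have hns : X.P.sig i ≠ i := fun e => hi (hcon i (by rw [hP]; exact e))
  have hs := hsup
  simp only [okSupport, Bool.and_eq_true, List.all_eq_true] at hs
  have h := hs.1.2 i (List.mem_finRange i)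
  simp only [Bool.or_eq_true, decide_eq_true_eq, List.any_eq_true] at h
  obtain ⟨S, hS, hSc⟩ := h.resolve_left hns
  have hc : ψ S.core.c ≠ 0 := by
    rcases hSc with e | e <;> rw [e]
    · exact hi
    · rw [← hP, Pat.apply_sig Φ.ok hψ]
      exact mul_ne_zero (Pat.eps_ne Φ.ok _) (pow_ne_zero _ hi)
  have hst := hs.1.1.2 S hS
  simp only [StartC.check, Bool.and_eq_true, decide_eq_true_eq] at hst
  obtain ⟨hZf, hst⟩ := hst
  rcases hO : X.ops[S.y]? with _ | O
  · rw [hO] at hst; simp at hst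
  rw [hO, Option.any_some] at hst
  simp only [Bool.and_eq_true, decide_eq_true_eq, List.all_eq_true] at hst
  obtain ⟨⟨⟨⟨hfx, haA⟩, hbA⟩, hasc⟩, hkeep⟩ := hst
  have hz : ∀ j ∈ X.P.fixedL, ψ j = 0 := fun j hj => hcon j (by
    rw [hP]; simpa [Pat.fixedL] using hj)
  obtain ⟨e, he, haAe⟩ : ∃ e : ℤ, (e = 1 ∨ e = -1) ∧ O.a S.core.A = some (S.core.c, e) := by
    rcases haA with h | h
    · exact ⟨1, Or.inl rfl, h⟩
    · exact ⟨-1, Or.inr rfl, h⟩
  obtain ⟨e', he', hbAe⟩ : ∃ e : ℤ, (e = 1 ∨ e = -1) ∧ O.b S.core.A = some (X.P.sig S.core.c, e) := by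
    rcases hbA with h | h
    · exact ⟨1, Or.inl rfl, h⟩
    · exact ⟨-1, Or.inr rfl, h⟩
  have hC : S.core ∈ X.cores ++ X.starts.map StartC.core :=
    List.mem_append_right _ (List.mem_map.2 ⟨S, hS, rfl⟩)
  have hAf : ψ S.core.A = 0 ∧ ψ S.core.B = 0 := by
    obtain ⟨h1, -⟩ := hs.1.1.1 S.core hC
    simp only [CoreC.check, Bool.and_eq_true, decide_eq_true_eq] at h1
    exact ⟨hcon _ (by rw [hP]; exact h1.1.1.1.1.1.1.1.1.1),
      hcon _ (by rw [hP]; exact h1.1.1.1.1.1.1.1.2)⟩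
  have hsc : ∀ u : K, O.a.move u ψ (X.P.sig S.core.c) = ψ (X.P.sig S.core.c) := fun u => by
    rcases hal : O.a (X.P.sig S.core.c) with _ | ⟨m, f⟩
    · exact Table.move_none hal
    · have h2 := hasc
      rw [hal, Option.all_some, decide_eq_true_eq] at h2
      rw [Table.move_some hal, hz _ h2, mul_zero, add_zero]
  obtain ⟨u, hu⟩ : ∃ u : K, O.mv q u ψ S.core.A ≠ 0 := by
    by_contra hcu
    push Not at hcu
    have h1 : ∀ u : K, ((e : K) * ψ S.core.c) * u +
        ((e' : K) * (O.d : K) * ψ (X.P.sig S.core.c)) * u ^ q = 0 := fun u => by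
      have h2 := hcu u
      rw [Op.mv, Table.move_some hbAe, Table.move_some haAe, hsc, hAf.1] at h2
      linear_combination h2
    exact hc ((mul_eq_zero.1 (Φ.qf.form_zero h1).1).resolve_left (by rcases he with rfl | rfl <;> simp))
  have hpar : O.Par q u := fun h => by rw [hfx] at h; exact absurd h (by simp)
  have hval : ∀ j ∈ [S.core.c, S.core.B] ++ S.core.Z, O.mv q u ψ j = ψ j := fun j hj =>
    mv_keep (hkeep j hj) u hz
  refine hd ?_
  rw [← (hA.act S.y O hO u hpar).dimPr_move hψ]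
  refine core_zero hP hA hbeta hF hsup hC (Op.mv_mem Φ.ok Φ.qf (hA.ok S.y O hO) hpar hψ) hu ?_ ?_ ?_
  · rw [hval _ (by simp)]; exact hc
  · rw [hval _ (by simp)]; exact hAf.2
  · intro z hz'
    rw [hval z (by simp [hz'])]
    exact hcon z (by rw [hP]; exact hZf z hz')

/-- The highest nonzero coordinate of a supported character is fixed. -/
theorem exists_top {ψ : Fin N → K} (hψ : ψ ∈ Φ.W) (hne : ψ ≠ 0) (hd : Φ.dimPr ψ ≠ 0) :
    ∃ b, Φ.P.sig b = b ∧ ψ b ≠ 0 ∧ Below b ψ := by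
  classical
  obtain ⟨i0, hi0, hi0'⟩ := exists_fixed hP hA hbeta hF hsup hψ hne hd
  set S := (Finset.univ : Finset (Fin N)).filter fun i => Φ.P.sig i = i ∧ ψ i ≠ 0 with hS
  have hne' : S.Nonempty := ⟨i0, Finset.mem_filter.2 ⟨Finset.mem_univ _, hi0, hi0'⟩⟩
  set b := S.max' hne' with hb
  obtain ⟨hbf, hb0⟩ : Φ.P.sig b = b ∧ ψ b ≠ 0 :=
    (Finset.mem_filter.1 (Finset.max'_mem S hne')).2
  have habove : ∀ j, Φ.P.sig j = j → b < j → ψ j = 0 := fun j hj hbj => by
    by_contra hj0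
    exact absurd (Finset.le_max' S j (Finset.mem_filter.2 ⟨Finset.mem_univ _, hj, hj0⟩)) (not_le.2 hbj)
  refine ⟨b, hbf, hb0, ?_⟩
  have hbeta' := hbeta
  simp only [okBeta, Bool.and_eq_true, List.all_eq_true, List.any_eq_true, decide_eq_true_eq] at hbeta'
  obtain ⟨B, hB, hBb⟩ := hbeta'.2 b (by rw [Pat.fixedL]; simp [← hP, hbf])
  have hBc : B.check Φ.P X.ops X.a = true := by rw [hP]; exact hbeta'.1.2 B hB
  obtain ⟨-, hnd, hbn, hmv, hraise, hdn, -, -⟩ := BetaC.spec hBc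
  have hN : B.nbr Φ.P = Φ.P.members B.up ++ Φ.P.members B.dn := by simp [BetaC.nbr, Pat.members]
  have hdn0 : ∀ j ∈ Φ.P.members B.dn, ψ j = 0 := by
    intro j hj
    obtain ⟨p, hp, hj⟩ := List.mem_flatMap.1 hj
    suffices hμ : ψ p.2 = 0 by
      unfold Pat.orb at hj
      split_ifs at hj with hf
      · simp only [List.mem_singleton] at hj; rw [hj, hμ]
      · simp only [List.mem_cons, List.not_mem_nil, or_false] at hj
        rcases hj with rfl | rfl
        · exact hμ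
        · rw [Pat.apply_sig Φ.ok hψ, hμ, Φ.qf.zero_pow, mul_zero]
    by_contra hμ
    by_cases hf : Φ.P.sig p.2 = p.2
    · exact hμ (habove _ hf (hBb ▸ (hdn p hp).1))
    have hs := hsup
    simp only [okSupport, Bool.and_eq_true, List.all_eq_true] at hs
    have h := hs.2 B hB p hp
    simp only [Bool.or_eq_true, decide_eq_true_eq, List.any_eq_true, Bool.and_eq_true, List.all_eq_true] at h
    obtain ⟨C, hC, ⟨⟨⟨hCA, hCc⟩, hCB⟩, hCZ⟩⟩ := h.resolve_left (by rw [← hP]; exact hf)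
    have hCc' : ψ C.c ≠ 0 := by
      rcases hCc with e | e <;> rw [e]
      · exact hμ
      · rw [← hP, Pat.apply_sig Φ.ok hψ]
        exact mul_ne_zero (Pat.eps_ne Φ.ok _) (pow_ne_zero _ hμ)
    have hmem : C ∈ X.cores ++ X.starts.map StartC.core := List.mem_append_left _ hC
    have hBfix : Φ.P.sig C.B = C.B := by
      obtain ⟨h1, -⟩ := hs.1.1.1 C hmem
      simp only [CoreC.check, Bool.and_eq_true, decide_eq_true_eq] at h1
      rw [hP]; exact h1.1.1.1.1.1.1.1.2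
    refine hd (core_zero hP hA hbeta hF hsup hmem hψ (by rw [hCA, hBb]; exact hb0) hCc'
      (habove _ hBfix (hBb ▸ hCB)) fun z hz => ?_)
    exact habove z (by rw [hP]; exact (hCZ z hz).1) (hBb ▸ (hCZ z hz).2)
  intro j hj
  by_contra hj0
  have hU := unique_at hP hA hbeta hF hB (Pat.apply_fixed Φ.ok hψ hbf) hb0
  have key := sum_peel (Q := fun r => ¬ Below B.b r) hA (hBb ▸ hbf : Φ.P.sig B.b = B.b)
    (Pat.apply_fixed Φ.ok hψ hbf) hb0 (fun r => (Φ.dimPr r : ℂ)) B.up (Φ.P.members B.dn)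
    (fun p hp => by rw [← hN]; exact hmv p (List.mem_append_left _ hp))
    (fun p _ O hO v hv r hr => weight_dimPr hA (p := p) hO hv hr)
    (fun p hp O hO v hv r _ _ _ hr hbel => by
      refine hr fun i hi => ?_
      rw [← Op.mv_neg Φ.ok Φ.qf (hA.ok p.1 O hO) v r]
      generalize O.mv q v r = r' at hbel
      obtain ⟨h1, h2⟩ := hraise p hp O hO i
      have ha : ∀ j, B.b < j → O.a.move (-v) r' j = 0 := fun j hj => by
        rcases hat : O.a j with _ | ⟨l, e⟩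
        · rw [Table.move_none hat]; exact hbel j hj
        · have := (hraise p hp O hO j).1 (l, e) (by rw [Option.mem_def]; exact hat)
          rw [Table.move_some hat, hbel j hj, hbel l (hj.trans this), mul_zero, add_zero]
      rw [Op.mv]
      rcases hbt : O.b i with _ | ⟨l, e⟩
      · rw [Table.move_none hbt]; exact ha i hi
      · have := h2 (l, e) (by rw [Option.mem_def]; exact hbt)
        rw [Table.move_some hbt, ha i hi, ha l (hi.trans this), mul_zero, add_zero])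
    (by rw [← hN]; exact List.nodup_cons.2 ⟨hbn, hnd⟩)
  rw [Finset.sum_eq_zero (s := slice Φ (fun r => ¬ Below B.b r) B.b (ψ b)
      (Φ.P.members B.up ++ Φ.P.members B.dn)) (fun r hr => by
    obtain ⟨r0, r1, r2, r3⟩ := mem_slice.1 hr
    rw [hU.zero r r0 r1 (fun j hj => r3 j (hN ▸ hj))
      (fun e => r2 (e ▸ fun i (hi : B.b < i) => Pi.single_eq_of_ne hi.ne' _)), Nat.cast_zero]),
    mul_zero] at key
  have key' : ∑ r ∈ slice Φ (fun r => ¬ Below B.b r) B.b (ψ b) (Φ.P.members B.dn), Φ.dimPr r = 0 := by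
    exact_mod_cast key
  exact hd (Finset.sum_eq_zero_iff.1 key' ψ (mem_slice.2
    ⟨hψ, by rw [hBb], fun h => hj0 (h j (hBb ▸ hj)), hdn0⟩))

/-- The support split into strata. -/
theorem sum_strata (w : (Fin N → K) → ℂ) (hw : ∀ ψ ∈ Φ.W, Φ.dimPr ψ = 0 → w ψ = 0) :
    ∑ ψ ∈ Φ.W, w ψ = w 0 + ∑ b ∈ Finset.univ.filter (fun b => Φ.P.sig b = b),
      ∑ s ∈ (fixK K q).filter (fun s => s ≠ 0), ∑ ψ ∈ slice Φ (Below b) b s [], w ψ :=
  sum_split w fun _ hψ hne h0 => exists_top hP hA hbeta hF hsup hψ hne fun hd => h0 (hw _ hψ hd)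

end LevelC

end CfsgLib.MinDeg2E6
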