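import Cfsg.Agent.Lib.MinDeg2E6.Field

set_option autoImplicit false
set_option linter.unusedSectionVars false

/-!
Vectors compatible with a signed involution of the coordinates composed with `x ↦ x ^ q`.
-/

namespace CfsgLib.MinDeg2E6

open Matrix

/-- A signed involution of the coordinates. -/
structure Pat (N : ℕ) where
  sig : Fin N → Fin N
  eps : Fin N → ℤ

namespace Pat

variable {N : ℕ} (P : Pat N)

/-- The conditions on a pattern. -/
def ok : Bool :=
  (List.finRange N).all fun i => decide (P.sig (P.sig i) = i) && decide (P.eps i = 1 ∨ P.eps i = -1) &&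
    decide (P.eps (P.sig i) = P.eps i) && (decide (P.sig i ≠ i) || decide (P.eps i = 1))

theorem ok_spec {P : Pat N} (h : P.ok = true) (i : Fin N) :
    P.sig (P.sig i) = i ∧ (P.eps i = 1 ∨ P.eps i = -1) ∧ P.eps (P.sig i) = P.eps i ∧
      (P.sig i = i → P.eps i = 1) := by
  simp only [ok, List.all_eq_true, Bool.and_eq_true, decide_eq_true_eq, Bool.or_eq_true] at h
  obtain ⟨⟨⟨h1, h2⟩, h3⟩, h4⟩ := h i (List.mem_finRange i)
  exact ⟨h1, h2, h3, fun e => h4.resolve_left fun h => h e⟩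

variable {K : Type*} [Field K] [Fintype K] [DecidableEq K] (q : ℕ)

/-- The semilinear involution. -/
def cj (φ : Fin N → K) : Fin N → K := fun i => (P.eps i : K) * φ (P.sig i) ^ q

/-- The fixed vectors. -/
def W (K : Type*) [Field K] [Fintype K] [DecidableEq K] : Finset (Fin N → K) :=
  Finset.univ.filter fun φ => P.cj q φ = φ

variable {P} {q}

theorem mem_W {φ : Fin N → K} : φ ∈ P.W q K ↔ P.cj q φ = φ := by simp [W]

variable (h : P.ok = true) (hK : QField K q)

include h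

theorem eps_sq (i : Fin N) : (P.eps i : K) * (P.eps i : K) = 1 := by
  rcases (ok_spec h i).2.1 with e | e <;> simp [e]

theorem eps_ne (i : Fin N) : (P.eps i : K) ≠ 0 := left_ne_zero_of_mul_eq_one (eps_sq h i)

theorem apply_sig {φ : Fin N → K} (hφ : φ ∈ P.W q K) (i : Fin N) :
    φ (P.sig i) = (P.eps i : K) * φ i ^ q := by
  have h1 := congrFun (mem_W.1 hφ) (P.sig i)
  rw [cj, (ok_spec h i).1, (ok_spec h i).2.2.1] at h1
  exact h1.symm

theorem apply_fixed {φ : Fin N → K} (hφ : φ ∈ P.W q K) {i : Fin N} (hi : P.sig i = i) :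
    φ i ∈ fixK K q := by
  have h1 := apply_sig h hφ i
  rw [hi, (ok_spec h i).2.2.2 hi, Int.cast_one, one_mul] at h1
  exact mem_fixK.2 h1.symm

include hK

theorem cj_cj (φ : Fin N → K) : P.cj q (P.cj q φ) = φ := by
  funext i
  rw [cj, cj, (ok_spec h i).1, (ok_spec h i).2.2.1, mul_pow, hK.cast, hK.conj_conj, ← mul_assoc,
    eps_sq h, one_mul]

theorem cj_add (φ ψ : Fin N → K) : P.cj q (φ + ψ) = P.cj q φ + P.cj q ψ := by
  funext i; simp [cj, hK.add, mul_add]

theorem cj_zero : P.cj q (0 : Fin N → K) = 0 := by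
  funext i; simp [cj, hK.zero_pow]

theorem cj_dot (φ ψ : Fin N → K) : P.cj q φ ⬝ᵥ P.cj q ψ = (φ ⬝ᵥ ψ) ^ q := by
  simp only [dotProduct, hK.sum_pow]
  refine Fintype.sum_bijective P.sig ⟨fun a b e => ?_, fun b => ⟨P.sig b, (ok_spec h b).1⟩⟩ _ _ fun i => ?_
  · rw [← (ok_spec h a).1, e, (ok_spec h b).1]
  · rw [cj, cj, mul_pow, mul_mul_mul_comm, eps_sq h, one_mul]

theorem zero_mem : (0 : Fin N → K) ∈ P.W q K := mem_W.2 (cj_zero h hK)

theorem add_mem {φ ψ : Fin N → K} (hφ : φ ∈ P.W q K) (hψ : ψ ∈ P.W q K) : φ + ψ ∈ P.W q K := by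
  rw [mem_W] at *; rw [cj_add h hK, hφ, hψ]

theorem neg_mem {φ : Fin N → K} (hφ : φ ∈ P.W q K) : -φ ∈ P.W q K := by
  rw [mem_W] at *
  funext i
  have h1 := congrFun hφ i
  simp only [cj, Pi.neg_apply, hK.neg_pow, mul_neg] at h1 ⊢
  rw [h1]

theorem sub_mem {φ ψ : Fin N → K} (hφ : φ ∈ P.W q K) (hψ : ψ ∈ P.W q K) : φ - ψ ∈ P.W q K := by
  rw [sub_eq_add_neg]; exact add_mem h hK hφ (neg_mem h hK hψ)

theorem dot_mem {φ ψ : Fin N → K} (hφ : φ ∈ P.W q K) (hψ : ψ ∈ P.W q K) : φ ⬝ᵥ ψ ∈ fixK K q := by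
  rw [mem_fixK, ← cj_dot h hK, mem_W.1 hφ, mem_W.1 hψ]

omit h hK in
/-- The vector of one orbit. -/
def uvec (P : Pat N) (q : ℕ) (i : Fin N) (a : K) : Fin N → K :=
  Pi.single i a + if P.sig i = i then 0 else Pi.single (P.sig i) ((P.eps i : K) * a ^ q)

theorem uvec_mem {i : Fin N} {a : K} (ha : P.sig i = i → a ∈ fixK K q) : uvec P q i a ∈ P.W q K := by
  rw [mem_W]
  funext j
  obtain ⟨hss, -, hes, h1⟩ := ok_spec h i
  have hinj : ∀ {a b : Fin N}, P.sig a = b → a = P.sig b := fun {a b} e => by rw [← e, (ok_spec h a).1]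
  by_cases hf : P.sig i = i
  · have hv : ∀ k, uvec P q i a k = if k = i then a else 0 := fun k => by
      simp [uvec, hf, Pi.single_apply]
    rcases eq_or_ne j i with rfl | hj
    · simp [cj, hv, hf, h1 hf, mem_fixK.1 (ha hf)]
    · rw [cj, hv, hv, if_neg hj, if_neg (fun e => hj (by rw [hinj e, hf])), hK.zero_pow, mul_zero]
  · have hv : ∀ k, uvec P q i a k =
        if k = i then a else if k = P.sig i then (P.eps i : K) * a ^ q else 0 := fun k => by
      rcases eq_or_ne k i with rfl | hk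
      · simp [uvec, hf, Ne.symm hf]
      · simp [uvec, hf, hk, Pi.single_apply]
    rcases eq_or_ne j i with rfl | hj
    · rw [cj, hv, hv, if_pos rfl, if_neg hf, if_pos rfl, mul_pow, hK.cast, hK.conj_conj, ← mul_assoc,
        eps_sq h, one_mul]
    · rcases eq_or_ne j (P.sig i) with rfl | hj'
      · rw [cj, hv, hv, hss, if_pos rfl, if_neg hj, if_pos rfl, hes]
      · rw [cj, hv, hv, if_neg hj, if_neg hj', if_neg (fun e => hj' (hinj e)),
          if_neg (fun e => hj (by rw [hinj e, hss])), hK.zero_pow, mul_zero]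

theorem uvec_self {i : Fin N} (a : K) : uvec P q i a i = a := by
  by_cases hf : P.sig i = i <;> simp [uvec, hf, Pi.single_apply, Ne.symm]

theorem uvec_other {i j : Fin N} (a : K) (h1 : j ≠ i) (h2 : j ≠ P.sig i) : uvec P q i a j = 0 := by
  by_cases hf : P.sig i = i <;> simp [uvec, hf, h1, h2]

theorem uvec_dot {i : Fin N} (a : K) {φ : Fin N → K} (hφ : φ ∈ P.W q K) :
    φ ⬝ᵥ uvec P q i a = if P.sig i = i then φ i * a else φ i * a + (φ i * a) ^ q := by
  rw [uvec, dotProduct_add, dotProduct_single]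
  split_ifs with hf
  · simp
  · rw [dotProduct_single, apply_sig h hφ, mul_pow, mul_mul_mul_comm, eps_sq h, one_mul]

/-- Induction over the orbits. -/
theorem induction {p : (Fin N → K) → Prop} (h0 : p 0)
    (hadd : ∀ v ∈ P.W q K, ∀ w ∈ P.W q K, p v → p w → p (v + w))
    (h1 : ∀ i a, (P.sig i = i → a ∈ fixK K q) → p (uvec P q i a)) {w : Fin N → K} (hw : w ∈ P.W q K) :
    p w := by
  classical
  induction hn : ((Finset.univ : Finset (Fin N)).filter fun i => w i ≠ 0).card using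
    Nat.strong_induction_on generalizing w with
  | _ m ih =>
    by_cases hz : w = 0
    · rw [hz]; exact h0
    obtain ⟨i, hi⟩ := Function.ne_iff.1 hz
    have hu : uvec P q i (w i) ∈ P.W q K := uvec_mem h hK fun e => apply_fixed h hw e
    have hrest := sub_mem h hK hw hu
    have hlt : ((Finset.univ : Finset (Fin N)).filter fun j => (w - uvec P q i (w i)) j ≠ 0).card < m := by
      rw [← hn]
      refine Finset.card_lt_card ?_
      rw [Finset.ssubset_iff_of_subset]
      · exact ⟨i, Finset.mem_filter.2 ⟨Finset.mem_univ _, hi⟩, by simp [uvec_self h hK]⟩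
      · intro j hj
        rw [Finset.mem_filter] at hj ⊢
        refine ⟨hj.1, fun e => hj.2 ?_⟩
        rw [Pi.sub_apply, e, zero_sub, neg_eq_zero]
        rcases eq_or_ne j i with rfl | hji
        · exact absurd e hi
        rcases eq_or_ne j (P.sig i) with rfl | hjs
        · have h2 := apply_sig h hw i
          rw [e] at h2
          refine absurd ?_ hi
          exact eq_zero_of_pow_eq_zero ((mul_eq_zero.1 h2.symm).resolve_left (eps_ne h i))
        · exact uvec_other h hK _ hji hjs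
    have h2 := hadd _ hu _ hrest (h1 i (w i) fun e => apply_fixed h hw e) (ih _ hlt hrest rfl)
    rwa [add_sub_cancel] at h2

theorem exists_dot_one {φ : Fin N → K} (hφ : φ ∈ P.W q K) (hne : φ ≠ 0) :
    ∃ w ∈ P.W q K, φ ⬝ᵥ w = 1 := by
  obtain ⟨i, hi⟩ := Function.ne_iff.1 hne
  by_cases hf : P.sig i = i
  · refine ⟨uvec P q i (φ i)⁻¹, uvec_mem h hK fun _ => hK.inv_mem (apply_fixed h hφ hf), ?_⟩
    rw [uvec_dot h hK _ hφ, if_pos hf, mul_inv_cancel₀ hi]
  · obtain ⟨x, hx⟩ := hK.exists_trace_one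
    refine ⟨uvec P q i (x / φ i), uvec_mem h hK fun e => absurd e hf, ?_⟩
    rw [uvec_dot h hK _ hφ, if_neg hf, mul_div_cancel₀ _ hi, hx]

theorem sum_chr_dot {φ : Fin N → K} (hφ : φ ∈ P.W q K) :
    ∑ w ∈ P.W q K, chr K (φ ⬝ᵥ w) = if φ = 0 then ((P.W q K).card : ℂ) else 0 := by
  split_ifs with hne
  · simp [hne]
  · obtain ⟨v, hv, hv1⟩ := exists_dot_one h hK hφ hne
    have key : ∑ w ∈ P.W q K, chr K (φ ⬝ᵥ w) = chr K 1 * ∑ w ∈ P.W q K, chr K (φ ⬝ᵥ w) := by
      rw [Finset.mul_sum]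
      refine Finset.sum_nbij' (i := fun w => w - v) (j := fun w => w + v) (fun w hw => sub_mem h hK hw hv)
        (fun w hw => add_mem h hK hw hv) (fun w _ => sub_add_cancel w v)
        (fun w _ => add_sub_cancel_right w v) fun w _ => ?_
      rw [← AddChar.map_add_eq_mul, dotProduct_sub, hv1, add_sub_cancel]
    have h1 : (chr K 1 - 1) * ∑ w ∈ P.W q K, chr K (φ ⬝ᵥ w) = 0 := by linear_combination -key
    exact (mul_eq_zero.1 h1).resolve_left (sub_ne_zero.2 chr_one_ne)

theorem sum_chr_dot' {w : Fin N → K} (hw : w ∈ P.W q K) :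
    ∑ φ ∈ P.W q K, chr K (φ ⬝ᵥ w) = if w = 0 then ((P.W q K).card : ℂ) else 0 := by
  simp only [dotProduct_comm _ w]
  exact sum_chr_dot h hK hw

end Pat

end CfsgLib.MinDeg2E6
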