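import Cfsg.Agent.Lib.MinDeg2E6.Gauss

set_option autoImplicit false
set_option linter.unusedSectionVars false

/-!
The Heisenberg quotient on the fixed space of the long root subgroup of ²E₆(q).
-/

namespace CfsgLib.MinDeg2E6

open Cfsg.Lie CfsgLib.ChevStr CfsgLib.Twisted CfsgLib.MinDegE
open scoped MatrixGroups

namespace Op

variable {N : ℕ} {O : Op N} {K : Type*} [Field K] [Fintype K] [DecidableEq K] {q : ℕ}

/-- Characters on a coordinate that is no target are fixed. -/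
theorem mv_single {b : Fin N} (ha : ∀ i, (O.a i).all (fun r => decide (r.1 ≠ b)) = true)
    (hb : ∀ i, (O.b i).all (fun r => decide (r.1 ≠ b)) = true) (u s : K) :
    O.mv q u (Pi.single b s) = Pi.single b s := by
  have h : ∀ (T : Table (Fin N)), (∀ i, (T i).all (fun r => decide (r.1 ≠ b)) = true) → ∀ v : K,
      T.move v (Pi.single b s : Fin N → K) = Pi.single b s := by
    intro T hT v
    funext i
    rcases hi : T i with _ | ⟨l, e⟩
    · exact Table.move_none hi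
    · have hl := hT i
      rw [hi, Option.all_some, decide_eq_true_eq] at hl
      rw [Table.move_some hi, Pi.single_eq_of_ne hl, mul_zero, add_zero]
  rw [mv, h _ ha, h _ hb]

end Op

namespace LevelC

variable {N : ℕ} {X : LevelC N} {G V : Type*} [Group G] [AddCommGroup V] [Module ℂ V] [FiniteDimensional ℂ V]
variable {K : Type*} [Field K] [Fintype K] [DecidableEq K] {q : ℕ}
variable {ρ : Representation ℂ G V} {Φ : OFam ρ K q N} {y : ℕ → K → G}
variable (hP : Φ.P = X.P) (hA : Acting Φ X.ops y) (hbeta : X.okBeta = true) (hF : Fibres Φ X.a)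

include hP hA hbeta hF

/-- The trace on a stratum. -/
theorem stratum_trace {B : BetaC N} (hB : B ∈ X.betas) {s : K} (hs : s ∈ fixK K q) (hs0 : s ≠ 0) (g : G)
    (hg : ∀ p ∈ B.up, ∀ O, X.ops[p.1]? = some O → ∀ u, O.Par q u → Commute g (y p.1 u)) :
    ∑ ψ ∈ slice Φ (Below B.b) B.b s [], LinearMap.trace ℂ V (ρ g * Φ.pr ψ) =
      (q : ℂ) ^ (X.P.members B.up).length * LinearMap.trace ℂ V (ρ g * Φ.pr (Pi.single B.b s)) := by
  have hb := hbeta
  simp only [okBeta, Bool.and_eq_true, List.all_eq_true] at hb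
  have h := hb.1.2 B hB
  rw [← hP] at h ⊢
  exact BetaC.stratum hA h hs hs0 (unique_at hP hA hbeta hF hB hs hs0) g hg

/-- The dimension of a stratum. -/
theorem stratum_dim {b : Fin N} {e : ℕ} (hb : ∃ B ∈ X.betas, B.b = b ∧ (X.P.members B.up).length = e)
    {s : K} (hs : s ∈ fixK K q) (hs0 : s ≠ 0) :
    ∑ ψ ∈ slice Φ (Below b) b s [], Φ.dimPr ψ = q ^ e := by
  obtain ⟨B, hB, rfl, rfl⟩ := hb
  have hB' := hbeta
  simp only [okBeta, Bool.and_eq_true, List.all_eq_true] at hB'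
  have h := hB'.1.2 B hB
  rw [← hP] at h
  have hfix := (BetaC.spec h).1
  have h1 := stratum_trace hP hA hbeta hF hB hs hs0 1 (fun _ _ _ _ _ _ => Commute.one_left _)
  rw [map_one, one_mul, Φ.trace_pr (Φ.single_mem hfix hs), (unique_at hP hA hbeta hF hB hs hs0).one,
    Nat.cast_one, mul_one, Finset.sum_congr rfl fun ψ hψ => by
      rw [one_mul, Φ.trace_pr (mem_slice.1 hψ).1]] at h1
  exact_mod_cast h1

end LevelC

theorem top_levi : ∀ s ∈ topL, commPair chevE6 s 71 = true ∧ commPair chevE6 (e6Sym.root s) 71 = true := by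
  decide +kernel

theorem top_roots71 : ∀ i : Fin 20, commPair chevE6 (rootsOf topR i) 71 = true ∧
    commPair chevE6 (e6Sym.root (rootsOf topR i)) 71 = true := by decide +kernel

theorem top_fixed : (Finset.univ.filter fun b : Fin 20 => topP.sig b = b) = {0, 1, 6, 9, 12, 15, 18, 19} ∧
    (∀ b : Fin 20, topP.sig b = b → rootsOf topR b ∈ [46, 47, 51, 53, 63, 65, 69, 70, 60]) ∧
    ∀ b : Fin 20, topP.sig b = b → ∃ j : Fin 20, topP.sig j = j ∧
      (pairTerm chevE6 (rootsOf topR j) (rootsOf topR b) = some (some (71, 1)) ∨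
        pairTerm chevE6 (rootsOf topR j) (rootsOf topR b) = some (some (71, -1))) := by
  decide +kernel

/-- The exponent of a stratum. -/
def topExp (b : Fin 20) : ℕ :=
  [0, 1, 0, 0, 0, 0, 3, 0, 0, 4, 0, 0, 5, 0, 0, 6, 0, 0, 8, 9].getD b.val 0

theorem top_strata : ∀ b : Fin 20, topP.sig b = b →
    ∃ B ∈ topC.betas, B.b = b ∧ (topC.P.members B.up).length = topExp b := by decide +kernel

/-- The roots of the moving elements of the strata commute with the long root of the Levi subgroup. -/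
theorem top_up_comm : ∀ B ∈ topC.betas, ∀ p ∈ B.up,
    commPair chevE6 60 (topL.getD p.1 0) = true ∧
      commPair chevE6 60 (e6Sym.root (topL.getD p.1 0)) = true := by decide +kernel

theorem top_sixty : topL.getD 29 0 = 60 ∧ topL.getD 17 0 = 38 ∧ topL.getD 20 0 = 41 ∧
    (∃ O, topOps[29]? = some O ∧ O.fx = true ∧ ∀ b ∈ ([12, 15, 18, 19] : List (Fin 20)),
      ∃ j : Fin 20, j ≠ b ∧ (O.a j = some (b, 1) ∨ O.a j = some (b, -1))) ∧
    (∃ O, topOps[17]? = some O ∧ O.fx = false ∧ ∀ b ∈ ([0, 1, 6, 9] : List (Fin 20)), ∀ i,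
      (O.a i).all (fun r => decide (r.1 ≠ b)) = true ∧ (O.b i).all (fun r => decide (r.1 ≠ b)) = true) ∧
    ∃ O, topOps[20]? = some O ∧ O.fx = false ∧ ∀ b ∈ ([0, 1, 6, 9] : List (Fin 20)), ∀ i,
      (O.a i).all (fun r => decide (r.1 ≠ b)) = true ∧ (O.b i).all (fun r => decide (r.1 ≠ b)) = true := by
  refine ⟨by decide, by decide, by decide, ⟨_, rfl, ?_, ?_⟩, ⟨_, rfl, ?_, ?_⟩, ⟨_, rfl, ?_, ?_⟩⟩ <;>
    decide +kernel

variable {K : Type*} [Field K] [Fintype K] [DecidableEq K] {p n : ℕ} [ExpChar K p]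
  (hn : Fintype.card K = (p ^ n) * (p ^ n)) (hq : 2 ≤ p ^ n)
variable {V : Type*} [AddCommGroup V] [Module ℂ V]
variable (ρ : Representation ℂ ↥(twistedE6 K (p ^ n)) V)

/-- The elements of the Levi subgroup acting on the quotient. -/
noncomputable def topY (K : Type*) [Field K] (q δ : ℕ) (u : K) : ↥(twistedE6 K q) :=
  el K q (topL.getD δ 0) u

include hn hq

omit hn hq [DecidableEq K] [Fintype K] [ExpChar K p] in
theorem topL_getD {δ : ℕ} (h : δ < topL.length) : topL.getD δ 0 ∈ topL := by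
  rw [List.getD_eq_getElem _ _ h]; exact List.getElem_mem _

theorem top_onImage : (topSys K).OnImage topP (p ^ n) ρ (eb hn hq ρ 0) where
  ok := by have h := top_beta; simp only [LevelC.okBeta, Bool.and_eq_true] at h; exact h.1.1.1
  qf := QField.of_expChar hn hq
  idem := idem_eb hn hq ρ (QField.of_expChar hn hq).zero_mem
  gen i a ha := by
    refine ⟨el K (p ^ n) ((topSys K).R i) a, el_rep hn hq (S := topSys K) top_pat i ha,
      commute_eb hn hq ρ (el_mem_alphaCent hn hq (patCheck_spec top_pat i).2.2.2 (top_roots71 i).1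
        (top_roots71 i).2 fun e => mem_fixK.1 (ha ((patCheck_spec top_pat i).2.1.2 e))) 0⟩
  triv m hm := by
    obtain ⟨hh, e⟩ := hm
    rw [RSys.X_zero, QuotientGroup.eq_one_iff] at e
    obtain ⟨s, hs⟩ := e
    have hs' : (coreE6 K).xGL 71 s.toAdd = (m : GL chevE6.Idx K) := hs
    have hfix : s.toAdd ∈ fixK K (p ^ n) := mem_fixK.2
      (fixed_param hn hq alpha_orb.2.2.2.2 alpha_orb.2.1 alpha_orb.2.2.1 (hs' ▸ m.2))
    have hm' : m = el K (p ^ n) 71 s.toAdd := Subtype.ext (by rw [coe_el71 hn hq hfix, hs'])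
    rw [hm']
    refine ⟨?_, commute_eb hn hq ρ ?_ 0⟩
    · rw [rho_alpha_eb hn hq ρ hfix, zero_mul, AddChar.map_zero_eq_one, one_smul]
    · rw [coe_el71 hn hq hfix]
      exact mem_alphaCent.2 fun t => by
        show _ * _ = _ * _
        rw [← (coreE6 K).xGL_add, ← (coreE6 K).xGL_add, add_comm]

/-- The family of the quotient. -/
noncomputable def topFam : OFam ρ K (p ^ n) 20 := RSys.fam (top_onImage hn hq ρ)

theorem top_acting : Acting (topFam hn hq ρ) topC.ops (topY K (p ^ n)) := by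
  have hb := top_beta
  simp only [LevelC.okBeta, Bool.and_eq_true, List.all_eq_true] at hb
  have hops : ∀ (δ : ℕ) (O : Op 20), topC.ops[δ]? = some O → O.ok topP = true := fun δ O hO =>
    hb.1.1.2 O (List.mem_of_getElem? hO)
  refine ⟨hops, fun δ O hO u hu => ?_⟩
  obtain ⟨hlt, hc⟩ := opsCheck_spec top_ops hO
  obtain ⟨hs, hfx, -⟩ := opCheck_spec hc
  obtain ⟨h1, h2⟩ := top_levi _ (topL_getD hlt)
  exact RSys.fam_act (top_onImage hn hq ρ) (hops δ O hO) hu
    (el_twist hn hq (S := topSys K) rfl hb.1.1.1 hc (hops δ O hO) (fun v => xGL_mem_alphaCent h1 v)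
      (fun v => xGL_mem_alphaCent h2 v) hu)
    (commute_eb hn hq ρ (el_mem_alphaCent hn hq hs h1 h2 fun e => mem_fixK.1 (hu (hfx.2 e))) 0)

/-- A long root element of the unipotent radical has trace zero on every other eigenspace. -/
theorem trace_root_zero {i : Fin 20} (hi : topP.sig i = i) {t b : K} (ht : t ∈ fixK K (p ^ n)) (ht0 : t ≠ 0)
    (hb : b ∈ fixK K (p ^ n)) (hb0 : b ≠ 0) :
    LinearMap.trace ℂ V (ρ (el K (p ^ n) (rootsOf topR i) t) * eb hn hq ρ b) = 0 := by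
  have hK := QField.of_expChar hn hq
  obtain ⟨j, hj, hpair⟩ := top_fixed.2.2 i hi
  obtain ⟨e, he, hp⟩ : ∃ e : ℤ, (e = 1 ∨ e = -1) ∧
      pairTerm chevE6 (rootsOf topR j) (rootsOf topR i) = some (some (71, e)) :=
    hpair.elim (fun h => ⟨1, Or.inl rfl, h⟩) fun h => ⟨-1, Or.inr rfl, h⟩
  obtain ⟨-, fi, -, oi⟩ := patCheck_spec top_pat i
  obtain ⟨-, fj, -, oj⟩ := patCheck_spec top_pat j
  have he0 : (e : K) ≠ 0 := by rcases he with rfl | rfl <;> simp
  set c := ((e : K) * t * b)⁻¹ with hc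
  have hcm : c ∈ fixK K (p ^ n) := hK.inv_mem (hK.mul_mem (hK.mul_mem (hK.cast_mem e) ht) hb)
  have hprod : (e : K) * c * t ∈ fixK K (p ^ n) := hK.mul_mem (hK.mul_mem (hK.cast_mem e) hcm) ht
  have hval : b * ((e : K) * c * t) = 1 := by
    rw [hc]; field_simp
  set g := el K (p ^ n) (rootsOf topR i) t
  set y := el K (p ^ n) (rootsOf topR j) c
  have hy : y * g * y⁻¹ = g * el K (p ^ n) 71 ((e : K) * c * t) := by
    rw [mul_inv_eq_iff_eq_mul]
    refine Subtype.ext ?_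
    simp only [Subgroup.coe_mul, g, y, coe_el hn hq oi (fun _ => mem_fixK.1 ht),
      coe_el hn hq oj (fun _ => mem_fixK.1 hcm), coe_el71 hn hq hprod, orbGL, if_pos (fi.1 hi),
      if_pos (fj.1 hj)]
    have := congrArg Subtype.val (shift_of_pair (coreE6 K) hp (top_roots71 j).1 c t)
    simpa [xg] using this
  have h1 := trace_conj' (ρ := ρ) (a := g) (commute_eb hn hq ρ (el_mem_alphaCent hn hq oj (top_roots71 j).1
    (top_roots71 j).2 fun _ => mem_fixK.1 hcm) b) hy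
  rw [map_mul ρ, mul_assoc, rho_alpha_eb hn hq ρ hprod, mul_smul_comm, map_smul, hval, smul_eq_mul] at h1
  by_contra h0
  exact chr_one_ne (mul_eq_right₀ h0 |>.1 h1)

variable [FiniteDimensional ℂ V]

theorem top_trace_fixed {i : Fin 20} (hi : topP.sig i = i) {t : K} (ht : t ∈ fixK K (p ^ n)) (ht0 : t ≠ 0) :
    LinearMap.trace ℂ V ((topFam hn hq ρ).T (Pi.single i t)) =
      LinearMap.trace ℂ V (topFam hn hq ρ).E - (dN hn hq ρ : ℂ) := by
  have hrep := el_rep hn hq (S := topSys K) top_pat i (a := t) fun _ => ht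
  rw [show Pat.uvec topP (p ^ n) i t = Pi.single i t by simp [Pat.uvec, hi]] at hrep
  rw [topFam, RSys.fam_T _ hrep]
  show LinearMap.trace ℂ V (ρ (el K (p ^ n) (rootsOf topR i) t) * eb hn hq ρ 0) =
    LinearMap.trace ℂ V (eb hn hq ρ 0) - (dN hn hq ρ : ℂ)
  have h := trace_long hn hq ρ (top_fixed.2.1 i hi) t ht ht0
  conv_lhs at h => rw [← sum_eb hn hq ρ, mul_add, map_add, Finset.mul_sum, map_sum,
    Finset.sum_eq_zero fun b hb => trace_root_zero hn hq ρ hi ht ht0 (Finset.mem_filter.1 hb).1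
      (Finset.mem_filter.1 hb).2, add_zero]
  exact h

/-- The fixed space of the long root subgroup is large. -/
theorem eb0_ge : ((p ^ n - 1) * ((p ^ n) ^ 9 * (aFam hn hq ρ (QField.of_expChar hn hq).one_mem).dimPr 0) : ℕ) +
    (p ^ n - 1) * dN hn hq ρ ≤ Module.finrank ℂ V := by
  classical
  have hK := QField.of_expChar hn hq
  set Φ := topFam hn hq ρ
  set m := (aFam hn hq ρ hK.one_mem).dimPr 0
  have h0 : topP.sig 0 = 0 := by decide
  have hfib : ∀ s ∈ fixK K (p ^ n), s ≠ 0 →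
      ∑ ψ ∈ (Φ.W).filter (fun ψ => ψ 0 = s), Φ.dimPr ψ = (p ^ n) ^ 9 * m := by
    intro s hs hs0
    have h1 := Φ.sum_dimPr_fiber (i := (0 : Fin 20)) h0
      (fun t ht ht0 => top_trace_fixed hn hq ρ h0 ht ht0) hs hs0
    rw [dN_eq hn hq ρ hK.one_mem one_ne_zero, show (p ^ n) ^ 10 * m = p ^ n * ((p ^ n) ^ 9 * m) by ring] at h1
    have h2 : p ^ n * ∑ ψ ∈ (Φ.W).filter (fun ψ => ψ 0 = s), Φ.dimPr ψ = p ^ n * ((p ^ n) ^ 9 * m) := by
      exact_mod_cast h1
    exact Nat.eq_of_mul_eq_mul_left (by omega) h2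
  have hS : (p ^ n - 1) * ((p ^ n) ^ 9 * m) ≤ ∑ ψ ∈ Φ.W, Φ.dimPr ψ := by
    calc (p ^ n - 1) * ((p ^ n) ^ 9 * m)
        = ∑ s ∈ (fixK K (p ^ n)).filter (fun s => s ≠ 0),
            ∑ ψ ∈ (Φ.W).filter (fun ψ => ψ 0 = s), Φ.dimPr ψ := by
          rw [Finset.sum_congr rfl fun s hs => hfib s (Finset.mem_filter.1 hs).1 (Finset.mem_filter.1 hs).2,
            Finset.sum_const, smul_eq_mul, Finset.filter_ne', Finset.card_erase_of_mem hK.zero_mem,
            hK.card_fixK]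
      _ ≤ ∑ s ∈ fixK K (p ^ n), ∑ ψ ∈ (Φ.W).filter (fun ψ => ψ 0 = s), Φ.dimPr ψ :=
          Finset.sum_le_sum_of_subset (Finset.filter_subset _ _)
      _ = ∑ ψ ∈ Φ.W, Φ.dimPr ψ :=
          Finset.sum_fiberwise_of_maps_to (fun ψ hψ => Pat.apply_fixed Φ.ok hψ h0) _
  have hfin : Module.finrank ℂ V = (∑ ψ ∈ Φ.W, Φ.dimPr ψ) + (p ^ n - 1) * dN hn hq ρ := by
    have h1 := finrank_split hn hq ρ
    rw [show eb hn hq ρ 0 = Φ.E from rfl, Φ.trace_E] at h1
    have h2 : (Module.finrank ℂ V : ℂ) =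
        (((∑ ψ ∈ Φ.W, Φ.dimPr ψ) + (p ^ n - 1) * dN hn hq ρ : ℕ) : ℂ) := by
      rw [h1]
      push_cast [Nat.cast_sub (by omega : 1 ≤ p ^ n)]
      ring
    exact_mod_cast h2
  omega

variable (hd : dN hn hq ρ = (p ^ n) ^ 10)

include hd

theorem top_fibres : Fibres (topFam hn hq ρ) topC.a :=
  fibres_of_trace fun i hi t ht ht0 => by
    rw [top_trace_fixed hn hq ρ hi ht ht0, hd, Nat.cast_pow]
    rfl

/-- The sum over the strata of the quotient. -/
theorem top_eb0 : LinearMap.trace ℂ V (eb hn hq ρ 0) = ((topFam hn hq ρ).dimPr 0 : ℂ) +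
    (((p ^ n : ℕ) : ℂ) - 1) * (1 + ((p ^ n : ℕ) : ℂ) + ((p ^ n : ℕ) : ℂ) ^ 3 + ((p ^ n : ℕ) : ℂ) ^ 4 +
      ((p ^ n : ℕ) : ℂ) ^ 5 + ((p ^ n : ℕ) : ℂ) ^ 6 + ((p ^ n : ℕ) : ℂ) ^ 8 + ((p ^ n : ℕ) : ℂ) ^ 9) := by
  classical
  set Φ := topFam hn hq ρ
  have hA := top_acting hn hq ρ
  have hF := top_fibres hn hq ρ hd
  rw [show eb hn hq ρ 0 = Φ.E from rfl, Φ.trace_E, Nat.cast_sum,
    LevelC.sum_strata (X := topC) (Φ := Φ) rfl hA top_beta hF top_support (fun ψ => (Φ.dimPr ψ : ℂ))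
      (fun ψ _ h => by rw [h, Nat.cast_zero]),
    Finset.sum_congr rfl fun b hb => Finset.sum_congr rfl fun s hs => by
      rw [← Nat.cast_sum, LevelC.stratum_dim (X := topC) (Φ := Φ) rfl hA top_beta hF
        (top_strata b (Finset.mem_filter.1 hb).2) (Finset.mem_filter.1 hs).1 (Finset.mem_filter.1 hs).2],
    Finset.sum_congr rfl fun b _ => by rw [Finset.sum_const, nsmul_eq_mul, card_nz hn hq],
    show (Finset.univ.filter fun b : Fin 20 => Φ.P.sig b = b) = _ from top_fixed.1]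
  simp [topExp]
  ring

/-- The trace of a long root element of the Levi subgroup on the zero eigenspace of the quotient. -/
theorem top_pr0 : TrFix ρ ((topFam hn hq ρ).pr 0) 60
    (LinearMap.trace ℂ V ((topFam hn hq ρ).pr 0) - ((p ^ n : ℕ) : ℂ) ^ 5) := by
  classical
  intro t ht ht0
  have hK := QField.of_expChar hn hq
  set Φ := topFam hn hq ρ
  have hA := top_acting hn hq ρ
  have hF := top_fibres hn hq ρ hd
  obtain ⟨e29, e17, e20, ⟨O, hO, hOfx, hOm⟩, ⟨D, hD, hDfx, hDf⟩, ⟨E, hE, hEfx, hEf⟩⟩ := top_sixty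
  obtain ⟨o60r, -, o60⟩ := gauss_roots.2.2.2.2.1
  set g := el K (p ^ n) 60 t
  have hgy : topY K (p ^ n) 29 t = g := by rw [topY, e29]
  -- moved strata
  have hmoved : ∀ b ∈ ([12, 15, 18, 19] : List (Fin 20)), ∀ s ∈ fixK K (p ^ n), s ≠ 0 → topP.sig b = b →
      LinearMap.trace ℂ V (ρ g * Φ.pr (Pi.single b s)) = 0 := by
    intro b hb s hs hs0 hfix
    obtain ⟨j, hjb, hj⟩ := hOm b hb
    have hok := hA.ok 29 O hO
    have hpar : O.Par (p ^ n) t := fun _ => ht
    have hsingle : (Pi.single b s : Fin 20 → K) ∈ Φ.W := Φ.single_mem hfix hs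
    rw [← Op.mv_neg' Φ.ok hK hok t (Pi.single b s : Fin 20 → K), ← hgy]
    refine (hA.act 29 O hO t hpar).trace_moved (Op.mv_mem Φ.ok hK hok (Op.par_neg Φ.ok hK hok hpar) hsingle) ?_
    rw [Op.mv_neg' Φ.ok hK hok, Op.mv, Op.b_move Φ.ok hK hok hOfx]
    intro e
    have h1 := congrFun e j
    rw [Pi.single_eq_of_ne hjb] at h1
    rcases hj with hj | hj <;> simp [Table.move_some hj, hjb, ht0, hs0] at h1
  -- fixed strata
  obtain ⟨x, hx⟩ := hK.exists_trace_one
  have hfixed : ∀ b ∈ ([0, 1, 6, 9] : List (Fin 20)), ∀ s ∈ fixK K (p ^ n), s ≠ 0 → topP.sig b = b →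
      LinearMap.trace ℂ V (ρ g * Φ.pr (Pi.single b s)) = 1 := by
    intro b hb s hs hs0 hfix
    obtain ⟨B, hB, rfl, -⟩ := top_strata b hfix
    have h17 : topY K (p ^ n) 17 (t * x) = el K (p ^ n) 38 (t * x) := by rw [topY, e17]
    have h20 : topY K (p ^ n) 20 (1 : K) = el K (p ^ n) 41 1 := by rw [topY, e20]
    have hu := LevelC.unique_at (X := topC) (Φ := Φ) rfl hA top_beta hF hB hs hs0
    have ha := (hA.act 17 D hD (t * x) fun h => absurd h (by rw [hDfx]; decide)).commute_pr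
      (Op.mv_single (fun i => (hDf _ hb i).1) (fun i => (hDf _ hb i).2) (t * x) s)
    have hb' := (hA.act 20 E hE 1 fun h => absurd h (by rw [hEfx]; decide)).commute_pr
      (Op.mv_single (fun i => (hEf _ hb i).1) (fun i => (hEf _ hb i).2) 1 s)
    rw [h17] at ha
    rw [h20] at hb'
    exact (Φ.trace_commutator (Φ.single_mem hfix hs) hu.one ha hb' (comm60 hn hq ht hx)).2
  -- the quotient
  have hstrata : ∀ b ∈ Finset.univ.filter (fun b : Fin 20 => Φ.P.sig b = b),
      ∀ s ∈ (fixK K (p ^ n)).filter (fun s => s ≠ 0),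
      ∑ ψ ∈ slice Φ (Below b) b s [], LinearMap.trace ℂ V (ρ g * Φ.pr ψ) =
        ((p ^ n : ℕ) : ℂ) ^ topExp b * LinearMap.trace ℂ V (ρ g * Φ.pr (Pi.single b s)) := by
    intro b hb s hs
    obtain ⟨B, hB, rfl, hlen⟩ := top_strata b (Finset.mem_filter.1 hb).2
    rw [← hlen]
    refine LevelC.stratum_trace (X := topC) (Φ := Φ) rfl hA top_beta hF hB (Finset.mem_filter.1 hs).1
      (Finset.mem_filter.1 hs).2 g fun pr hpr O' hO' u hu => ?_
    obtain ⟨hlt, hc⟩ := opsCheck_spec top_ops hO'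
    obtain ⟨hs', hfx', -⟩ := opCheck_spec hc
    obtain ⟨c1, c2⟩ := top_up_comm B hB pr hpr
    refine Subtype.ext ?_
    rw [Subgroup.coe_mul, Subgroup.coe_mul]
    simp only [g, topY, coe_el hn hq o60 (fun _ => mem_fixK.1 ht),
      coe_el hn hq hs' (fun e => mem_fixK.1 (hu (hfx'.2 e))), orbGL, if_pos o60r]
    split_ifs
    · exact (xg_gl (commute_of_pair (coreE6 K) c1 t u)).eq
    · exact ((xg_gl (commute_of_pair (coreE6 K) c1 t u)).mul_right
        (xg_gl (commute_of_pair (coreE6 K) c2 t _))).eq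
  have hB0 : LinearMap.trace ℂ V (ρ g * eb hn hq ρ 0) = LinearMap.trace ℂ V (ρ g * Φ.pr 0) +
      (((p ^ n : ℕ) : ℂ) - 1) * (1 + ((p ^ n : ℕ) : ℂ) + ((p ^ n : ℕ) : ℂ) ^ 3 + ((p ^ n : ℕ) : ℂ) ^ 4) := by
    rw [show eb hn hq ρ 0 = Φ.E from rfl, ← Φ.sum_pr, Finset.mul_sum, map_sum,
      LevelC.sum_strata (X := topC) (Φ := Φ) rfl hA top_beta hF top_support
        (fun ψ => LinearMap.trace ℂ V (ρ g * Φ.pr ψ))
        (fun ψ _ h => by rw [Φ.pr_eq_zero h, mul_zero, map_zero]),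
      Finset.sum_congr rfl fun b hb => Finset.sum_congr rfl fun s hs => hstrata b hb s hs,
      Finset.sum_congr rfl (g := fun b : Fin 20 =>
        (((p ^ n : ℕ) : ℂ) - 1) * if b ∈ ([0, 1, 6, 9] : List (Fin 20)) then ((p ^ n : ℕ) : ℂ) ^ topExp b else 0)
        fun b hb => by
          have hbf := (Finset.mem_filter.1 hb).2
          by_cases h : b ∈ ([0, 1, 6, 9] : List (Fin 20))
          · rw [if_pos h, Finset.sum_congr rfl fun s hs => by
              rw [hfixed b h s (Finset.mem_filter.1 hs).1 (Finset.mem_filter.1 hs).2 hbf, mul_one],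
              Finset.sum_const, nsmul_eq_mul, card_nz hn hq]
          · have h' : b ∈ ([12, 15, 18, 19] : List (Fin 20)) := by
              have h2 : b ∈ ({0, 1, 6, 9, 12, 15, 18, 19} : Finset (Fin 20)) := top_fixed.1 ▸ hb
              simp only [Finset.mem_insert, Finset.mem_singleton] at h2
              rcases h2 with rfl | rfl | rfl | rfl | rfl | rfl | rfl | rfl <;> simp at h ⊢
            rw [if_neg h, mul_zero]
            exact Finset.sum_eq_zero fun s hs => by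
              rw [hmoved b h' s (Finset.mem_filter.1 hs).1 (Finset.mem_filter.1 hs).2 hbf, mul_zero],
      show (Finset.univ.filter fun b : Fin 20 => Φ.P.sig b = b) = _ from top_fixed.1]
    simp [topExp]
    ring
  have hC := trace_long hn hq ρ (r := 60) (by decide) t ht ht0
  have hD' : LinearMap.trace ℂ V (ρ g * (1 : Module.End ℂ V)) = LinearMap.trace ℂ V (ρ g * eb hn hq ρ 0) +
      (((p ^ n : ℕ) : ℂ) - 1) * -((p ^ n : ℕ) : ℂ) ^ 7 := by
    conv_lhs => rw [← sum_eb hn hq ρ, mul_add, map_add, Finset.mul_sum, map_sum,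
      Finset.sum_congr rfl fun b hb => trace60_eb hn hq ρ (Finset.mem_filter.1 hb).1
        (Finset.mem_filter.1 hb).2 (by
          have h := dN_eq hn hq ρ (Finset.mem_filter.1 hb).1 (Finset.mem_filter.1 hb).2
          rw [hd] at h
          exact (mul_eq_left₀ (pow_ne_zero 10 (by omega : p ^ n ≠ 0))).1 h.symm) ht ht0,
      Finset.sum_const, nsmul_eq_mul, card_nz hn hq]
  rw [Φ.trace_pr (Pat.zero_mem Φ.ok hK)]
  rw [hC, top_eb0 hn hq ρ hd, hd, hB0] at hD'
  push_cast at hD' ⊢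
  linear_combination -hD'

end CfsgLib.MinDeg2E6
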